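import Groth.Agent.WLocalLib.Retr

/-! Localization of a w-contractible ring at the points generalizing a closed set. -/

set_option autoImplicit false
set_option linter.style.haveILetI false
set_option backward.isDefEq.respectTransparency false
universe u

open PrimeSpectrum Topology

namespace Groth.Agent.WLocalLib

theorem extremallyDisconnected_of_isOpenEmbedding {X Y : Type*} [TopologicalSpace X] [TopologicalSpace Y] {f : Y → X}
    (hf : IsOpenEmbedding f) [ExtremallyDisconnected X] : ExtremallyDisconnected Y := by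
  refine ⟨fun U hU => ?_⟩
  rw [hf.isInducing.closure_eq_preimage_closure_image]
  exact (ExtremallyDisconnected.open_closure _ (hf.isOpenMap U hU)).preimage hf.continuous

theorem eval_map_ringEquiv {R S : Type*} [CommSemiring R] [CommSemiring S] (e : R ≃+* S) (p : Polynomial R) (x : S) :
    (p.map (e : R →+* S)).eval x = e (p.eval (e.symm x)) := by
  conv_lhs => rw [← e.apply_symm_apply x]
  exact Polynomial.eval_map_apply (f := (e : R →+* S)) (p := p) (e.symm x)

theorem isStrictlyHenselian_of_ringEquiv {R S : Type u} [CommRing R] [CommRing S] (e : R ≃+* S)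
    (h : EtCoh.IsStrictlyHenselianLocalRing R) : EtCoh.IsStrictlyHenselianLocalRing S := by
  obtain ⟨hR, hk⟩ := h
  haveI := hR
  haveI : IsLocalRing S := e.isLocalRing
  have hS : HenselianLocalRing S := by
    refine { is_henselian := fun f hf a₀ h₁ h₂ => ?_ }
    have hu : ∀ {x : S}, x ∈ IsLocalRing.maximalIdeal S → e.symm x ∈ IsLocalRing.maximalIdeal R := fun {x} hx hxu =>
      hx (by simpa using hxu.map e)
    obtain ⟨a, ha, ha'⟩ := HenselianLocalRing.is_henselian (f.map (e.symm : S →+* R)) (hf.map _) (e.symm a₀)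
      (by rw [eval_map_ringEquiv, RingEquiv.symm_symm, e.apply_symm_apply]; exact hu h₁)
      (by rw [Polynomial.derivative_map, eval_map_ringEquiv, RingEquiv.symm_symm, e.apply_symm_apply]; exact h₂.map e.symm)
    refine ⟨e a, ?_, ?_⟩
    · have h0 : (f.map (e.symm : S →+* R)).eval a = 0 := ha
      rw [eval_map_ringEquiv, RingEquiv.symm_symm] at h0
      exact (map_eq_zero_iff e.symm e.symm.injective).1 h0
    · intro hxu
      refine ha' ?_
      have := hxu.map e.symm
      simpa using this
  refine ⟨hS, ?_⟩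
  haveI := hk
  let g := IsLocalRing.ResidueField.mapEquiv e
  refine IsSepClosed.of_exists_root _ fun p hp hirr hsep => ?_
  obtain ⟨x, hx⟩ := IsSepClosed.exists_root (p.map (g.symm : IsLocalRing.ResidueField S →+* IsLocalRing.ResidueField R)) (by
    rw [Polynomial.degree_map]; exact (Polynomial.degree_pos_of_irreducible hirr).ne') (hsep.map)
  refine ⟨g x, ?_⟩
  have h0 : (p.map (g.symm : IsLocalRing.ResidueField S →+* IsLocalRing.ResidueField R)).eval x = 0 := hx
  rw [eval_map_ringEquiv, RingEquiv.symm_symm] at h0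
  exact (map_eq_zero_iff g.symm g.symm.injective).1 h0

theorem isClopen_closedPoints_inter {A : Type u} [CommRing A] (hA : ProEtW.IsWLocal (PrimeSpectrum A)) (E : Finset A) :
    IsOpen {z : ProEtW.closedPoints (PrimeSpectrum A) | ∀ a ∈ E, a ∈ z.1.asIdeal} := by
  have : {z : ProEtW.closedPoints (PrimeSpectrum A) | ∀ a ∈ E, a ∈ z.1.asIdeal} =
      ⋂ a ∈ E, {z : ProEtW.closedPoints (PrimeSpectrum A) | a ∈ z.1.asIdeal} := by
    ext z; simp
  rw [this]
  exact isOpen_biInter_finset fun a _ => isOpen_V_closed _ hA.2.1 (fun _ hz => isMaximal_of_closedPoint hz) a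

variable {A B : Type u} [CommRing A] [CommRing B] [Algebra A B] (S : Submonoid A) [IsLocalization S B]

include S in
theorem isWContractible_localization (E : Finset A)
    (hB : Set.range (PrimeSpectrum.comap (algebraMap A B)) =
      {x | ∃ z : PrimeSpectrum A, z ∈ PrimeSpectrum.zeroLocus (R := A) E ∧ x ⤳ z})
    (hw : ProEtW.IsWLocal (PrimeSpectrum A))
    (he : ExtremallyDisconnected (_root_.ConnectedComponents (PrimeSpectrum A)))
    (hs : ∀ (m : Ideal A) [m.IsMaximal], EtCoh.IsStrictlyHenselianLocalRing (Localization.AtPrime m)) :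
    EtPBC.IsWContractible B := by
  let f := PrimeSpectrum.comap (algebraMap A B)
  let Z := PrimeSpectrum.zeroLocus (R := A) (E : Set A)
  have hf : IsEmbedding f := PrimeSpectrum.localization_comap_isEmbedding B S
  have hcl : ∀ y, y ∈ ProEtW.closedPoints (PrimeSpectrum B) ↔ f y ∈ ProEtW.closedPoints (PrimeSpectrum A) ∧ f y ∈ Z := by
    intro y
    refine ⟨fun hy => ?_, fun ⟨h1, _⟩ => ?_⟩
    · obtain ⟨z, hz, hxz⟩ := hB.le (Set.mem_range_self y)
      obtain ⟨w, ⟨hw1, hw2⟩, -⟩ := hw.2.2 z
      have hwZ : w ∈ Z := hw2.mem_closed (PrimeSpectrum.isClosed_zeroLocus _) hz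
      obtain ⟨y', hy'⟩ : w ∈ Set.range f := hB.ge ⟨w, hwZ, specializes_rfl⟩
      have hspec : y ⤳ y' := hf.isInducing.specializes_iff.1 (by rw [hy']; exact hxz.trans hw2)
      have : y' = y := hspec.mem_closed hy rfl
      rw [this] at hy'
      rw [hy']
      exact ⟨hw1, hwZ⟩
    · have := (show IsClosed ({f y} : Set _) from h1).preimage hf.continuous
      rwa [show f ⁻¹' {f y} = {y} from Set.ext fun z => ⟨fun h => hf.injective h, fun h => congrArg f h⟩] at this
  have hwB : ProEtW.IsWLocal (PrimeSpectrum B) := by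
    refine ⟨inferInstance, ?_, fun y => ?_⟩
    · have : ProEtW.closedPoints (PrimeSpectrum B) = f ⁻¹' (ProEtW.closedPoints (PrimeSpectrum A) ∩ Z) := Set.ext hcl
      show IsClosed (ProEtW.closedPoints (PrimeSpectrum B))
      rw [this]
      exact (hw.2.1.inter (PrimeSpectrum.isClosed_zeroLocus _)).preimage hf.continuous
    · obtain ⟨z, hz, hxz⟩ := hB.le (Set.mem_range_self y)
      obtain ⟨w, ⟨hw1, hw2⟩, -⟩ := hw.2.2 z
      have hwZ : w ∈ Z := hw2.mem_closed (PrimeSpectrum.isClosed_zeroLocus _) hz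
      obtain ⟨y', hy'⟩ : w ∈ Set.range f := hB.ge ⟨w, hwZ, specializes_rfl⟩
      obtain ⟨w₀, -, hu⟩ := hw.2.2 (f y)
      refine ⟨y', ⟨(hcl y').2 (by rw [hy']; exact ⟨hw1, hwZ⟩), hf.isInducing.specializes_iff.1 (by rw [hy']; exact hxz.trans hw2)⟩,
        fun y'' ⟨h1, h2⟩ => hf.injective ?_⟩
      rw [hu _ ⟨((hcl y'').1 h1).1, h2.map hf.continuous⟩, hy', hu w ⟨hw1, hxz.trans hw2⟩]
  refine isWContractible_of_wLocal hwB ?_ fun m _ => ?_
  · haveI : ExtremallyDisconnected (ProEtW.closedPoints (PrimeSpectrum A)) := extremallyDisconnected_wchart hw he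
    let g : ProEtW.closedPoints (PrimeSpectrum B) → ProEtW.closedPoints (PrimeSpectrum A) :=
      fun y => ⟨f y.1, ((hcl y.1).1 y.2).1⟩
    have hg : IsOpenEmbedding g := by
      refine ⟨(hf.comp IsEmbedding.subtypeVal).codRestrict _ _, ?_⟩
      have : Set.range g = {z | ∀ a ∈ E, a ∈ z.1.asIdeal} := by
        refine Set.ext fun z => ⟨?_, fun hz => ?_⟩
        · rintro ⟨y, rfl⟩ a ha
          exact ((hcl y.1).1 y.2).2 ha
        · obtain ⟨y, hy⟩ : z.1 ∈ Set.range f := hB.ge ⟨z.1, fun a ha => hz a ha, specializes_rfl⟩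
          exact ⟨⟨y, (hcl y).2 (by rw [hy]; exact ⟨z.2, fun a ha => hz a ha⟩)⟩, Subtype.ext hy⟩
      rw [this]
      exact isClopen_closedPoints_inter hw E
    haveI : ExtremallyDisconnected (wchart hwB).T := extremallyDisconnected_of_isOpenEmbedding hg
    exact extremallyDisconnected_of_homeo (wcomponents hwB).symm
  · let p := m.comap (algebraMap A B)
    haveI : p.IsMaximal := by
      have h1 := (hcl ⟨m, inferInstance⟩).1 ((PrimeSpectrum.isClosed_singleton_iff_isMaximal _).2 ‹_›)
      exact (PrimeSpectrum.isClosed_singleton_iff_isMaximal _).1 h1.1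
    haveI : IsLocalization.AtPrime (Localization.AtPrime m) p :=
      IsLocalization.isLocalization_isLocalization_atPrime_isLocalization S (Localization.AtPrime m) m
    exact isStrictlyHenselian_of_ringEquiv
      (IsLocalization.algEquiv p.primeCompl (Localization.AtPrime p) (Localization.AtPrime m)).toRingEquiv (hs p)

end Groth.Agent.WLocalLib
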