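import Groth.Agent.WLocalLib.Basic

/-! The ring of a chart is ind-Zariski. -/

set_option autoImplicit false
set_option linter.style.haveILetI false
set_option backward.isDefEq.respectTransparency false
set_option backward.defeqAttrib.useBackward true
universe u

open CategoryTheory CategoryTheory.Limits Topology

namespace Groth.Agent.WLocalLib

/-- Ind-Zariski algebras from an explicit colimit of rings. -/
theorem isIndZariski_of_colimit {A B : Type u} [CommRing A] [CommRing B] [Algebra A B]
    {J : Type u} [SmallCategory J] [IsFiltered J] (D : J ⥤ CommRingCat.{u})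
    (t : (Functor.const J).obj (CommRingCat.of A) ⟶ D) (s : D ⟶ (Functor.const J).obj (CommRingCat.of B))
    (hc : IsColimit (Cocone.mk _ s))
    (h : ∀ j, (letI : Algebra A (D.obj j) := (t.app j).hom.toAlgebra; Algebra.IsLocalIso A (D.obj j)) ∧
      t.app j ≫ s.app j = CommRingCat.ofHom (algebraMap A B)) :
    EtPBC.IsIndZariski A B := by
  let P : MorphismProperty CommRingCat.{u} :=
    RingHom.toMorphismProperty fun {R S} _ _ f => letI := f.toAlgebra; Algebra.IsLocalIso R S
  have hind : MorphismProperty.ind.{u} P (CommRingCat.ofHom (algebraMap A B)) :=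
    ⟨J, inferInstance, inferInstance, D, t, s, hc, h⟩
  rw [MorphismProperty.ind_iff_ind_underMk] at hind
  obtain ⟨J', _, _, pres, h'⟩ := hind
  exact ⟨J', inferInstance, inferInstance, pres.diag, pres.cocone, pres.isColimit, h', ⟨Iso.refl _⟩⟩

variable {A : Type u} [CommRing A] (c : Chart A)

/-- Index of the presentation of the ring of a chart. -/
structure Idx : Type u where
  W : DiscreteQuotient c.T
  f : W → A
  hf : ∀ t, f (W.proj t) ∉ (c.φ t).asIdeal

namespace Idx

variable {c}

instance : Preorder (Idx c) where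
  le j j' := ∃ h : j'.W ≤ j.W, ∀ x, IsUnit (algebraMap A (Localization.Away (j'.f x)) (j.f (DiscreteQuotient.ofLE h x)))
  le_refl j := ⟨le_rfl, fun x => by
    rw [DiscreteQuotient.ofLE_refl_apply]
    exact IsLocalization.map_units (M := Submonoid.powers (j.f x)) _ ⟨_, Submonoid.mem_powers _⟩⟩
  le_trans i j k hij hjk := by
    obtain ⟨h, hh⟩ := hij
    obtain ⟨h', hh'⟩ := hjk
    refine ⟨h'.trans h, fun x => ?_⟩
    have := (hh (DiscreteQuotient.ofLE h' x)).map
      (IsLocalization.Away.liftAlgHom (j.f (DiscreteQuotient.ofLE h' x)) (f := Algebra.ofId A (Localization.Away (k.f x))) (hh' x)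
        (S := Localization.Away (j.f (DiscreteQuotient.ofLE h' x))))
    rwa [AlgHom.commutes, DiscreteQuotient.ofLE_ofLE] at this

/-- The ring of an index. -/
abbrev U (j : Idx c) : Type u := ∀ x : j.W, Localization.Away (j.f x)

/-- The map out of a localisation away from an element. -/
noncomputable def lift {a : A} {S : Type u} [CommRing S] [Algebra A S] (h : IsUnit (algebraMap A S a)) :
    Localization.Away a →ₐ[A] S :=
  IsLocalization.Away.liftAlgHom a (f := Algebra.ofId A S) h

theorem away_ext {a : A} {S : Type u} [CommRing S] [Algebra A S] (f g : Localization.Away a →ₐ[A] S) : f = g :=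
  IsLocalization.algHom_ext (Submonoid.powers a) (by ext)

/-- Maps out of equal components agree. -/
theorem cast_ext (i : Idx c) (z : i.U) {S : Type u} [CommRing S] [Algebra A S] {p q : i.W} (hp : p = q)
    (F : Localization.Away (i.f p) →ₐ[A] S) (G : Localization.Away (i.f q) →ₐ[A] S) : F (z p) = G (z q) := by
  subst hp
  rw [away_ext F G]

/-- Transition maps. -/
noncomputable def trans {i j : Idx c} (h : i ≤ j) : i.U →ₐ[A] j.U :=
  AlgHom.pi fun x => (lift (h.2 x)).comp (Pi.evalAlgHom A _ (DiscreteQuotient.ofLE h.1 x))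

theorem trans_apply {i j : Idx c} (h : i ≤ j) (z : i.U) (x : j.W) :
    trans h z x = lift (h.2 x) (z (DiscreteQuotient.ofLE h.1 x)) := rfl

theorem trans_refl (i : Idx c) (z : i.U) : trans (le_refl i) z = z := by
  funext x
  rw [trans_apply]
  exact cast_ext i z (DiscreteQuotient.ofLE_refl_apply x) _ (AlgHom.id A _)

theorem trans_trans {i j k : Idx c} (h : i ≤ j) (h' : j ≤ k) (z : i.U) : trans h' (trans h z) = trans (h.trans h') z := by
  funext x
  rw [trans_apply, trans_apply, trans_apply, ← AlgHom.comp_apply]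
  exact cast_ext i z (DiscreteQuotient.ofLE_ofLE h'.1 h.1 x) _ _

/-- The map to the product of stalks. -/
noncomputable def toPi (i : Idx c) : i.U →ₐ[A] ∀ t, c.St t :=
  AlgHom.pi fun t => (lift (c.isUnit_of_notMem t (i.hf t))).comp (Pi.evalAlgHom A _ (i.W.proj t))

theorem toPi_apply (i : Idx c) (z : i.U) (t : c.T) :
    toPi i z t = lift (c.isUnit_of_notMem t (i.hf t)) (z (i.W.proj t)) := rfl

theorem toPi_mem (i : Idx c) (z : i.U) : toPi i z ∈ c.sections := by
  intro t
  obtain ⟨a, ⟨_, n, rfl⟩, hz⟩ := IsLocalization.exists_mk'_eq (Submonoid.powers (i.f (i.W.proj t))) (z (i.W.proj t))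
  refine ⟨i.W.proj ⁻¹' {i.W.proj t}, ⟨(isClosed_discrete _).preimage i.W.proj_continuous,
    (isOpen_discrete _).preimage i.W.proj_continuous⟩, rfl, a, i.f (i.W.proj t) ^ n, fun t' (ht' : i.W.proj t' = i.W.proj t) => ?_⟩
  have hu : i.f (i.W.proj t) ∉ (c.φ t').asIdeal := by rw [← ht']; exact i.hf t'
  refine ⟨fun h => hu ((c.φ t').2.mem_of_pow_mem n h), ?_⟩
  rw [toPi_apply, cast_ext i z ht' _ (lift (c.isUnit_of_notMem t' hu)), ← hz,
    ← AlgHom.commutes (lift (c.isUnit_of_notMem t' hu)), ← map_mul, IsLocalization.mk'_spec, AlgHom.commutes]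

/-- The map to the ring of the chart. -/
noncomputable def toR (i : Idx c) : i.U →ₐ[A] c.R := (toPi i).codRestrict c.sections (toPi_mem i)

theorem ev_toR (i : Idx c) (z : i.U) (t : c.T) :
    c.ev t (toR i z) = lift (c.isUnit_of_notMem t (i.hf t)) (z (i.W.proj t)) := rfl

theorem toR_trans {i j : Idx c} (h : i ≤ j) (z : i.U) : toR j (trans h z) = toR i z := by
  refine c.ev_ext fun t => ?_
  rw [ev_toR, ev_toR, trans_apply, ← AlgHom.comp_apply]
  exact cast_ext i z (DiscreteQuotient.ofLE_proj h.1 t) _ _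

theorem isUnit_left (a b : A) : IsUnit (algebraMap A (Localization.Away (a * b)) a) :=
  isUnit_of_mul_isUnit_left (y := algebraMap A _ b) (by
    rw [← map_mul]; exact IsLocalization.map_units (M := Submonoid.powers (a * b)) _ ⟨_, Submonoid.mem_powers _⟩)

/-- Common refinement. -/
noncomputable def inf (i j : Idx c) : Idx c where
  W := i.W ⊓ j.W
  f x := i.f (DiscreteQuotient.ofLE inf_le_left x) * j.f (DiscreteQuotient.ofLE inf_le_right x)
  hf t := by
    rw [DiscreteQuotient.ofLE_proj, DiscreteQuotient.ofLE_proj]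
    exact (c.φ t).2.mul_notMem (i.hf t) (j.hf t)

theorem isUnit_right (a b : A) : IsUnit (algebraMap A (Localization.Away (a * b)) b) :=
  isUnit_of_mul_isUnit_right (x := algebraMap A _ a) (by
    rw [← map_mul]; exact IsLocalization.map_units (M := Submonoid.powers (a * b)) _ ⟨_, Submonoid.mem_powers _⟩)

instance : IsDirectedOrder (Idx c) := ⟨fun i j => ⟨inf i j, ⟨inf_le_left, fun _ => isUnit_left _ _⟩,
  ⟨inf_le_right, fun _ => isUnit_right _ _⟩⟩⟩

instance : Nonempty (Idx c) := ⟨⟨⊤, fun _ => 1, fun t => (c.φ t).asIdeal.one_notMem⟩⟩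

theorem exists_cover (W₀ : c.T → Set c.T) (hW : ∀ t, IsClopen (W₀ t)) (ht : ∀ t, t ∈ W₀ t) :
    ∃ (Q : DiscreteQuotient c.T) (sel : Q → c.T), ∀ t, t ∈ W₀ (sel (Q.proj t)) := by
  classical
  obtain ⟨S, hS⟩ := isCompact_univ.elim_finite_subcover W₀ (fun t => (hW t).isOpen) fun t _ => Set.mem_iUnion.2 ⟨t, ht t⟩
  let lc : LocallyConstant c.T (S → Bool) :=
    ⟨fun t s => decide (t ∈ W₀ s), (IsLocallyConstant.iff_continuous _).2 (continuous_pi fun s => by
      rw [continuous_discrete_rng]
      intro b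
      cases b with
      | false =>
        convert (hW s.1).compl.isOpen using 1
        ext t; simp
      | true =>
        convert (hW s.1).isOpen using 1
        ext t; simp)⟩
  have hsel : ∀ x : lc.discreteQuotient, ∃ s : c.T, ∀ t, lc.discreteQuotient.proj t = x → t ∈ W₀ s := by
    intro x
    obtain ⟨t₀, rfl⟩ := lc.discreteQuotient.proj_surjective x
    obtain ⟨s, hs, hts⟩ := Set.mem_iUnion₂.1 (hS (Set.mem_univ t₀))
    refine ⟨s, fun t hte => ?_⟩
    have h1 : lc t = lc t₀ := Quotient.exact hte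
    have h2 := congrFun h1 ⟨s, hs⟩
    simpa [lc, hts] using h2
  choose sel hsel' using hsel
  exact ⟨lc.discreteQuotient, sel, fun t => hsel' _ t rfl⟩

theorem exists_eq_toR (s : c.R) : ∃ (i : Idx c) (z : i.U), toR i z = s := by
  have h : ∀ t, ∃ W : Set c.T, IsClopen W ∧ t ∈ W ∧ ∃ a f : A, ∀ t' ∈ W, f ∉ (c.φ t').asIdeal ∧
    c.ev t' s * algebraMap A (c.St t') f = algebraMap A (c.St t') a := fun t => c.exists_nhd t s
  choose W₀ hW htW a f hs using h
  obtain ⟨Q, sel, hsel⟩ := exists_cover W₀ hW htW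
  refine ⟨⟨Q, fun x => f (sel x), fun t => (hs _ t (hsel t)).1⟩,
    fun x => IsLocalization.mk' (Localization.Away (f (sel x))) (a (sel x)) (⟨f (sel x), Submonoid.mem_powers _⟩ : Submonoid.powers (f (sel x))), ?_⟩
  refine Subtype.ext (funext fun t => ?_)
  obtain ⟨h1, h2⟩ := hs _ t (hsel t)
  refine (c.isUnit_of_notMem t h1).mul_left_injective ?_
  show c.ev t (toR _ _) * algebraMap A (c.St t) (f (sel (Q.proj t))) = c.ev t s * _
  rw [h2, ev_toR, ← AlgHom.commutes (lift (c.isUnit_of_notMem t h1)), ← map_mul,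
    IsLocalization.mk'_spec, AlgHom.commutes]

theorem exists_trans_eq (i : Idx c) (x y : i.U) (h : toR i x = toR i y) :
    ∃ (j : Idx c) (hij : i ≤ j), trans hij x = trans hij y := by
  have hz : ∀ t, ∃ g : A, g ∉ (c.φ t).asIdeal ∧ algebraMap A (Localization.Away (i.f (i.W.proj t))) g * (x (i.W.proj t) - y (i.W.proj t)) = 0 := by
    intro t
    obtain ⟨a, ⟨_, n, rfl⟩, hz⟩ := IsLocalization.exists_mk'_eq (Submonoid.powers (i.f (i.W.proj t))) (x (i.W.proj t) - y (i.W.proj t))
    let F := lift (c.isUnit_of_notMem t (i.hf t))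
    have h0 : algebraMap A (c.St t) a = 0 := by
      have h1 : F (x (i.W.proj t) - y (i.W.proj t)) = 0 := by
        rw [map_sub]; exact sub_eq_zero.2 (congrArg (c.ev t) h)
      rw [← F.commutes, ← IsLocalization.mk'_spec (Localization.Away (i.f (i.W.proj t))) a (⟨_, n, rfl⟩ : Submonoid.powers (i.f (i.W.proj t))), map_mul, hz, h1, zero_mul]
    obtain ⟨⟨g, hg⟩, hga⟩ := (IsLocalization.map_eq_zero_iff (c.φ t).asIdeal.primeCompl (c.St t) a).1 h0
    refine ⟨g, hg, ?_⟩
    rw [← hz, IsLocalization.mk'_eq_mul_mk'_one, ← mul_assoc, ← map_mul, show g * a = 0 from hga, map_zero, zero_mul]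
  choose g hg hgz using hz
  obtain ⟨Q, sel, hsel⟩ := exists_cover (fun t => i.W.proj ⁻¹' {i.W.proj t} ∩ {t' | g t ∉ (c.φ t').asIdeal})
    (fun t => (IsClopen.preimage ⟨isClosed_discrete _, isOpen_discrete _⟩ i.W.proj_continuous).inter (c.isClopen_D (g t)))
    fun t => ⟨rfl, hg t⟩
  let j : Idx c :=
    { W := i.W ⊓ Q
      f := fun z => i.f (DiscreteQuotient.ofLE inf_le_left z) * g (sel (DiscreteQuotient.ofLE inf_le_right z))
      hf := fun t => by
        rw [DiscreteQuotient.ofLE_proj, DiscreteQuotient.ofLE_proj]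
        exact (c.φ t).2.mul_notMem (i.hf t) (hsel t).2 }
  have hij : i ≤ j := ⟨inf_le_left, fun z => isUnit_left _ _⟩
  refine ⟨j, hij, funext fun z => ?_⟩
  obtain ⟨t, rfl⟩ := (i.W ⊓ Q).proj_surjective z
  have e1 : DiscreteQuotient.ofLE (inf_le_left : i.W ⊓ Q ≤ i.W) ((i.W ⊓ Q).proj t) = i.W.proj t := DiscreteQuotient.ofLE_proj _ t
  have e2 : DiscreteQuotient.ofLE (inf_le_right : i.W ⊓ Q ≤ Q) ((i.W ⊓ Q).proj t) = Q.proj t := DiscreteQuotient.ofLE_proj _ t
  have hgu : IsUnit (algebraMap A (Localization.Away (j.f ((i.W ⊓ Q).proj t))) (g (sel (Q.proj t)))) := by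
    have := isUnit_right (i.f (DiscreteQuotient.ofLE (inf_le_left : i.W ⊓ Q ≤ i.W) ((i.W ⊓ Q).proj t)))
      (g (sel (DiscreteQuotient.ofLE (inf_le_right : i.W ⊓ Q ≤ Q) ((i.W ⊓ Q).proj t))))
    rw [← e2]
    exact this
  have key : ∀ (p q : i.W) (hp : p = q) (F : Localization.Away (i.f p) →ₐ[A] Localization.Away (j.f ((i.W ⊓ Q).proj t))),
      algebraMap A (Localization.Away (i.f q)) (g (sel (Q.proj t))) * (x q - y q) = 0 → F (x p) = F (y p) := by
    rintro p _ rfl F h0
    have := congrArg F h0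
    rw [map_mul, AlgHom.commutes, map_zero, hgu.mul_right_eq_zero, map_sub, sub_eq_zero] at this
    exact this
  rw [trans_apply, trans_apply]
  exact key _ _ (e1.trans (hsel t).1) _ (hgz _)

end Idx

/-- The ring of a chart is ind-Zariski. -/
theorem Chart.isIndZariski : EtPBC.IsIndZariski A c.R := by
  haveI : IsFiltered (Idx c) := isFiltered_of_directed_le_nonempty (Idx c)
  let D : Idx c ⥤ CommRingCat.{u} :=
    { obj := fun j => CommRingCat.of j.U
      map := fun f => CommRingCat.ofHom (Idx.trans (leOfHom f)).toRingHom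
      map_id := fun i => by ext z; exact congrFun (Idx.trans_refl i z) _
      map_comp := fun f g => by ext z; exact congrFun (Idx.trans_trans (leOfHom f) (leOfHom g) z).symm _ }
  let t : (Functor.const (Idx c)).obj (CommRingCat.of A) ⟶ D :=
    { app := fun j => CommRingCat.ofHom (algebraMap A j.U)
      naturality := fun i j f => by ext r; exact congrFun ((Idx.trans (leOfHom f)).commutes r).symm _ }
  let s : D ⟶ (Functor.const (Idx c)).obj (CommRingCat.of c.R) :=
    { app := fun j => CommRingCat.ofHom (Idx.toR j).toRingHom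
      naturality := fun i j f => by ext z; exact Idx.toR_trans (leOfHom f) z }
  have hsurj : ∀ x : c.R, ∃ (j : Idx c) (y : j.U), x = Idx.toR j y := fun x =>
    (Idx.exists_eq_toR x).imp fun i ⟨z, hz⟩ => ⟨z, hz.symm⟩
  have hinj : ∀ (i : Idx c) (x y : i.U), Idx.toR i x = Idx.toR i y → ∃ (k : Idx c) (f : i ⟶ k),
      Idx.trans (leOfHom f) x = Idx.trans (leOfHom f) y := fun i x y h => by
    obtain ⟨k, hk, he⟩ := Idx.exists_trans_eq i x y h
    exact ⟨k, homOfLE hk, he⟩
  have hc : IsColimit (Cocone.mk _ s) :=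
    haveI : PreservesColimitsOfShape (Idx c) (forget CommRingCat.{u}) :=
      PreservesFilteredColimitsOfSize.preserves_filtered_colimits _
    haveI : ReflectsColimit D (forget CommRingCat.{u}) := reflectsColimit_of_reflectsIsomorphisms D _
    isColimitOfReflects (forget CommRingCat.{u})
      (Types.FilteredColimit.isColimitOf' _ _ hsurj hinj)
  refine isIndZariski_of_colimit D t s hc fun j => ⟨?_, ?_⟩
  · haveI : ∀ x : j.W, Algebra.IsStandardOpenImmersion A (Localization.Away (j.f x)) := fun x => ⟨⟨j.f x, inferInstance⟩⟩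
    have h : Algebra.IsLocalIso A j.U := Algebra.IsLocalIso.pi_of_finite A (fun x => Localization.Away (j.f x))
    show @Algebra.IsLocalIso A j.U _ _ (algebraMap A j.U).toAlgebra
    rw [show (algebraMap A j.U).toAlgebra = (inferInstance : Algebra A j.U) from Algebra.algebra_ext _ _ fun r => rfl]
    exact h
  · ext r
    exact (Idx.toR j).commutes r

end Groth.Agent.WLocalLib
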