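import Groth.Agent.WLocalLib.WRing
import Groth.Agent.WLocalLib.IndZar

/-! The w-localisation and its universal property; algebras identifying local rings over w-local rings. -/

set_option autoImplicit false
set_option linter.style.haveILetI false
set_option backward.isDefEq.respectTransparency false
universe u

open Topology PrimeSpectrum

namespace Groth.Agent.WLocalLib

theorem continuous_to_cons {A : Type u} [CommRing A] {T : Type u} [TopologicalSpace T] (h : T → PrimeSpectrum A)
    (hh : ∀ a : A, IsClopen {t | a ∉ (h t).asIdeal}) :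
    Continuous (fun t => (WithTopology.toTopology _ (h t) : WithConstructibleTopology (PrimeSpectrum A))) := by
  have hD : ∀ s : Set (PrimeSpectrum A), IsOpen s → IsCompact s → IsClopen (h ⁻¹' s) := by
    intro s hs hc
    obtain ⟨I, hI⟩ := (PrimeSpectrum.isCompact_isOpen_iff.1 ⟨hc, hs⟩)
    have e : h ⁻¹' s = ⋃ a ∈ I, {t | a ∉ (h t).asIdeal} := by
      ext t
      rw [Set.mem_preimage, ← hI]
      simp [PrimeSpectrum.mem_zeroLocus, Set.not_subset]
    rw [e]
    exact isClopen_biUnion_finset fun a _ => hh a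
  have key : @Continuous T (PrimeSpectrum A) _ (constructibleTopology (PrimeSpectrum A)) h := by
    refine continuous_generateFrom_iff.2 fun s hs => ?_
    rcases hs with ⟨ho, hc⟩ | ⟨ho, hc⟩
    · exact (hD s ho hc).2
    · simpa using (hD sᶜ ho.isOpen_compl hc).compl.2
  exact @Continuous.comp _ _ _ _ (constructibleTopology (PrimeSpectrum A)) _ _ _ (WithTopology.continuous_toTopology _) key

variable {A : Type u} [CommRing A]

theorem isSpectralMap_comap {R S : Type u} [CommRing R] [CommRing S] (f : R →+* S) :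
    IsSpectralMap (PrimeSpectrum.comap f) := by
  refine ⟨PrimeSpectrum.continuous_comap f, fun s hs hc => ?_⟩
  obtain ⟨I, hI⟩ := PrimeSpectrum.isCompact_isOpen_iff.1 ⟨hc, hs⟩
  have e : PrimeSpectrum.comap f ⁻¹' s = ⋃ a ∈ I, (PrimeSpectrum.basicOpen (f a) : Set (PrimeSpectrum S)) := by
    ext Q
    rw [Set.mem_preimage, ← hI]
    simp [PrimeSpectrum.mem_zeroLocus, Set.not_subset]
  rw [e]
  exact I.isCompact_biUnion fun a _ => PrimeSpectrum.isCompact_basicOpen _

theorem cons_bijOn :
    Set.BijOn (PrimeSpectrum.comap (algebraMap A (Chart.cons A).R))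
      (ProEtW.closedPoints (PrimeSpectrum (Chart.cons A).R)) Set.univ := by
  refine ⟨fun _ _ => trivial, fun x hx y hy h => ?_, fun p _ => ?_⟩
  · rw [Chart.closedPoints_eq] at hx hy
    obtain ⟨t, rfl⟩ := hx
    obtain ⟨t', rfl⟩ := hy
    rw [Chart.comap_cl, Chart.comap_cl] at h
    exact congrArg _ (WithTopology.ofTopology_injective _ h)
  · refine ⟨(Chart.cons A).cl (WithTopology.toTopology _ p), ?_, Chart.comap_cl _ _⟩
    rw [Chart.closedPoints_eq]; exact ⟨_, rfl⟩

theorem eq_of_wLocal {B : Type u} [CommRing B] [Algebra A B] (hB : ProEtW.IsWLocal (PrimeSpectrum B))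
    (φ ψ : (Chart.cons A).R →ₐ[A] B) (hφ : ProEtW.IsWLocalMap (PrimeSpectrum.comap φ.toRingHom))
    (hψ : ProEtW.IsWLocalMap (PrimeSpectrum.comap ψ.toRingHom)) : φ = ψ := by
  let c := Chart.cons A
  let d := wchart hB
  refine AlgHom.ext fun s => (wequiv hB).injective (d.ev_ext fun t => ?_)
  obtain ⟨W, hW, htW, a, f, hs⟩ := c.exists_nhd (WithTopology.toTopology _ (PrimeSpectrum.comap (algebraMap A B) (d.φ t))) s
  have key : ∀ (χ : c.R →ₐ[A] B), ProEtW.IsWLocalMap (PrimeSpectrum.comap χ.toRingHom) →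
      d.ev t (algebraMap B d.R (χ s)) * algebraMap B (d.St t) (algebraMap A B f) = algebraMap B (d.St t) (algebraMap A B a) := by
    intro χ hχ
    obtain ⟨t₁, ht₁⟩ : ∃ t₁, c.cl t₁ = PrimeSpectrum.comap χ.toRingHom (d.φ t) := by
      have h1 := hχ.2 (d.φ t) t.2
      have h2 : PrimeSpectrum.comap χ.toRingHom (d.φ t) ∈ ProEtW.closedPoints (PrimeSpectrum c.R) := h1
      rwa [c.closedPoints_eq] at h2
    have ht₂ : t₁ = WithTopology.toTopology _ (PrimeSpectrum.comap (algebraMap A B) (d.φ t)) := by
      apply WithTopology.ofTopology_injective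
      have h3 : c.φ t₁ = PrimeSpectrum.comap (algebraMap A B) (d.φ t) := by
        rw [← c.comap_cl t₁, ht₁, ← PrimeSpectrum.comap_comp_apply]
        congr 2
        exact χ.comp_algebraMap
      exact h3
    have heq : c.ind W hW * (s * algebraMap A c.R f) = c.ind W hW * algebraMap A c.R a :=
      c.ind_mul_ext hW fun t' ht' => by rw [map_mul, AlgHom.commutes, AlgHom.commutes]; exact (hs t' ht').2
    have hidem : c.ind W hW * c.ind W hW = c.ind W hW * 1 :=
      c.ind_mul_ext hW fun t' ht' => by rw [c.ev_ind_mem hW ht', map_one]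
    have hne : χ (c.ind W hW) ∉ (d.φ t).asIdeal := fun hm => by
      have h4 : c.ind W hW ∈ (c.cl t₁).asIdeal := by rw [ht₁]; exact hm
      have h5 : c.ev t₁ (c.ind W hW) ∈ IsLocalRing.maximalIdeal (c.St t₁) := h4
      rw [c.ev_ind_mem hW (ht₂ ▸ htW)] at h5
      exact (IsLocalRing.maximalIdeal (c.St t₁)).one_notMem h5
    have hu := d.isUnit_of_notMem t hne
    have h6 := congrArg (fun z => algebraMap B (d.St t) (χ z)) heq
    simp only [map_mul, AlgHom.commutes] at h6
    rw [AlgHom.commutes]
    exact hu.mul_left_cancel h6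
  have h1 := key φ hφ
  rw [← key ψ hψ] at h1
  refine (d.isUnit_of_notMem t ?_).mul_left_injective h1
  exact (hs _ htW).1

theorem exists_wLocal {B : Type u} [CommRing B] [Algebra A B] (hB : ProEtW.IsWLocal (PrimeSpectrum B)) :
    ∃! φ : (Chart.cons A).R →ₐ[A] B, ProEtW.IsWLocalMap (PrimeSpectrum.comap φ.toRingHom) := by
  let c := Chart.cons A
  let d := wchart hB
  let h : d.T → c.T := fun t => WithTopology.toTopology _ (PrimeSpectrum.comap (algebraMap A B) (d.φ t))
  have hc : Continuous h := continuous_to_cons _ fun a => d.isClopen_D (algebraMap A B a)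
  have hh : ∀ t, PrimeSpectrum.comap (algebraMap A B) (d.φ t) = c.φ (h t) := fun t => rfl
  let φ : c.R →ₐ[A] B := ((wequiv hB).symm.restrictScalars A).toAlgHom.comp (Chart.map h hc hh)
  have hφ : ProEtW.IsWLocalMap (PrimeSpectrum.comap φ.toRingHom) := by
    refine ⟨isSpectralMap_comap _, fun Q hQ => ?_⟩
    have hQ' : PrimeSpectrum.comap (wequiv hB).symm.toRingEquiv.toRingHom Q ∈ ProEtW.closedPoints (PrimeSpectrum d.R) := by
      haveI : Q.asIdeal.IsMaximal := (PrimeSpectrum.isClosed_singleton_iff_isMaximal Q).1 hQ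
      exact (PrimeSpectrum.isClosed_singleton_iff_isMaximal _).2
        (Ideal.comap_isMaximal_of_surjective _ (wequiv hB).symm.surjective)
    rw [d.closedPoints_eq] at hQ'
    obtain ⟨t, ht⟩ := hQ'
    show PrimeSpectrum.comap φ.toRingHom Q ∈ ProEtW.closedPoints (PrimeSpectrum c.R)
    rw [c.closedPoints_eq]
    refine ⟨h t, ?_⟩
    rw [← Chart.comap_map_cl h hc hh t, ht, ← PrimeSpectrum.comap_comp_apply]
    rfl
  exact ⟨φ, hφ, fun ψ hψ => eq_of_wLocal hB ψ φ hψ hφ⟩

theorem bijective_of_closedPoints {B : Type u} [CommRing B] [Algebra A B] (h1 : EtPBC.IdentifiesLocalRings A B)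
    (h2 : ProEtW.IsWLocal (PrimeSpectrum A)) (h3 : ProEtW.IsWLocal (PrimeSpectrum B))
    (h4 : ProEtW.IsWLocalMap (PrimeSpectrum.comap (algebraMap A B)))
    (h5 : Function.Bijective (PrimeSpectrum.continuous_comap (algebraMap A B)).connectedComponentsMap) :
    Function.Bijective (algebraMap A B) := by
  refine bijective_of_bijective_comap h1 ⟨fun Q Q' h => ?_, fun x => ?_⟩
  · obtain ⟨n, ⟨hn, hQn⟩, -⟩ := h3.2.2 Q
    obtain ⟨n', ⟨hn', hQn'⟩, -⟩ := h3.2.2 Q'
    have hcomp : ∀ {R : Type u} [CommRing R] {x y : PrimeSpectrum R}, x ⤳ y →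
        _root_.ConnectedComponents.mk x = _root_.ConnectedComponents.mk y := fun {R} _ {x y} hxy =>
      (ConnectedComponents.coe_eq_coe'.2 ((isClosed_connectedComponent.closure_subset_iff.2
        (Set.singleton_subset_iff.2 mem_connectedComponent)) hxy.mem_closure)).symm
    have hnn : n = n' := by
      have e : (PrimeSpectrum.continuous_comap (algebraMap A B)).connectedComponentsMap (_root_.ConnectedComponents.mk n) =
          (PrimeSpectrum.continuous_comap (algebraMap A B)).connectedComponentsMap (_root_.ConnectedComponents.mk n') := by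
        rw [← hcomp hQn, ← hcomp hQn']
        show _root_.ConnectedComponents.mk (PrimeSpectrum.comap _ Q) = _root_.ConnectedComponents.mk (PrimeSpectrum.comap _ Q')
        rw [h]
      have e2 := congrArg (wcomponents h3) (h5.1 e)
      have key : ∀ m, m ∈ ProEtW.closedPoints (PrimeSpectrum B) → ∀ t : (wchart h3).T,
          wcomponents h3 (_root_.ConnectedComponents.mk m) = t → m ⤳ (t : (wchart h3).T).1 := by
        intro m hm t ht
        have h7 : PrimeSpectrum.homeomorphOfRingEquiv (wequiv h3).toRingEquiv m ≤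
            (wchart h3).cl ((wchart h3).pi (PrimeSpectrum.homeomorphOfRingEquiv (wequiv h3).toRingEquiv m)) :=
          (wchart h3).le_cl_pi _
        have h8 : (wchart h3).pi (PrimeSpectrum.homeomorphOfRingEquiv (wequiv h3).toRingEquiv m) = t := by
          rw [← ht]; rfl
        rw [h8] at h7
        refine (PrimeSpectrum.le_iff_specializes _ _).1 ?_
        have h9 := (wchart h3).comap_le (le_trans ((wchart h3).pi_spec _) le_rfl :
          RingHom.ker ((wchart h3).ev ((wchart h3).pi (PrimeSpectrum.homeomorphOfRingEquiv (wequiv h3).toRingEquiv m))) ≤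
            (PrimeSpectrum.homeomorphOfRingEquiv (wequiv h3).toRingEquiv m).asIdeal)
        rw [h8] at h9
        intro x hx
        refine h9 ?_
        show (wequiv h3).symm (algebraMap B _ x) ∈ m.asIdeal
        rw [AlgEquiv.commutes]
        exact hx
      have e3 := key n hn _ rfl
      have e4 := key n' hn' _ rfl
      rw [← e2] at e4
      have c1 := (PrimeSpectrum.le_iff_specializes _ _).2 e3
      have c2 := (PrimeSpectrum.le_iff_specializes _ _).2 e4
      exact PrimeSpectrum.ext (((isMaximal_of_closedPoint hn).eq_of_le (PrimeSpectrum.isPrime _).ne_top c1).trans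
        ((isMaximal_of_closedPoint hn').eq_of_le (PrimeSpectrum.isPrime _).ne_top c2).symm)
    subst hnn
    let p := n.asIdeal.comap (algebraMap A B)
    let e : Localization.AtPrime p ≃+* Localization.AtPrime n.asIdeal := RingEquiv.ofBijective _ (h1 n)
    have key : ∀ R : PrimeSpectrum B, R ⤳ n → ∀ x : B, x ∈ R.asIdeal ↔ ∃ a f : A, f ∉ p ∧
        (∃ g ∉ n.asIdeal, g * (x * algebraMap A B f) = g * algebraMap A B a) ∧ algebraMap A B a ∈ R.asIdeal := by
      intro R hR x
      have hle : R.asIdeal ≤ n.asIdeal := (PrimeSpectrum.le_iff_specializes _ _).2 hR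
      constructor
      · intro hx
        obtain ⟨a, f, hf, g, hg, hgg⟩ := exists_fraction h1 n x
        refine ⟨a, f, hf, ⟨g, hg, hgg⟩, ?_⟩
        have : g * algebraMap A B a ∈ R.asIdeal := hgg ▸ R.asIdeal.mul_mem_left _ (R.asIdeal.mul_mem_right _ hx)
        exact (R.2.mem_or_mem this).resolve_left fun h => hg (hle h)
      · rintro ⟨a, f, hf, ⟨g, hg, hgg⟩, ha⟩
        have : g * (x * algebraMap A B f) ∈ R.asIdeal := hgg.symm ▸ R.asIdeal.mul_mem_left _ ha
        rcases R.2.mem_or_mem this with h | h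
        · exact absurd (hle h) hg
        · exact (R.2.mem_or_mem h).resolve_right fun h' => hf (hle h')
    refine PrimeSpectrum.ext (Ideal.ext fun x => ?_)
    rw [key Q hQn, key Q' hQn']
    have hiff : ∀ a : A, algebraMap A B a ∈ Q.asIdeal ↔ algebraMap A B a ∈ Q'.asIdeal := fun a =>
      iff_of_eq (congrArg (fun z : PrimeSpectrum A => a ∈ z.asIdeal) h)
    simp only [hiff]
  · obtain ⟨m, ⟨hm, hxm⟩, -⟩ := h2.2.2 x
    obtain ⟨y, hy⟩ := h5.2 (_root_.ConnectedComponents.mk m)
    obtain ⟨Q, rfl⟩ := ConnectedComponents.surjective_coe y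
    obtain ⟨n, ⟨hn, hQn⟩, -⟩ := h3.2.2 Q
    have hcl : IsClosed ({PrimeSpectrum.comap (algebraMap A B) n} : Set (PrimeSpectrum A)) := h4.2 n hn
    have hsame : _root_.ConnectedComponents.mk (PrimeSpectrum.comap (algebraMap A B) n) = _root_.ConnectedComponents.mk m := by
      rw [← hy]
      exact (ConnectedComponents.coe_eq_coe'.2 ((isClosed_connectedComponent.closure_subset_iff.2
        (Set.singleton_subset_iff.2 mem_connectedComponent)) ((hQn.map (PrimeSpectrum.continuous_comap _)).mem_closure)))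
    have hnm : PrimeSpectrum.comap (algebraMap A B) n = m := by
      have hpi : ∀ z (hz : z ∈ ProEtW.closedPoints (PrimeSpectrum A)),
          wcomponents h2 (_root_.ConnectedComponents.mk z) = (⟨z, hz⟩ : (wchart h2).T) := by
        intro z hz
        show (wchart h2).pi (PrimeSpectrum.homeomorphOfRingEquiv (wequiv h2).toRingEquiv z) = _
        refine (wchart h2).eq_of_ker_le ((wchart h2).pi_spec _) ?_
        intro s hs
        obtain ⟨b, rfl⟩ := (bijective_wchart h2).2 s
        show (wequiv h2).symm (algebraMap A _ b) ∈ z.asIdeal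
        rw [AlgEquiv.commutes]
        by_contra hb
        have hs' : (wchart h2).ev ⟨z, hz⟩ (algebraMap A _ b) = 0 := hs
        rw [AlgHom.commutes] at hs'
        exact ((wchart h2).isUnit_of_notMem ⟨z, hz⟩ (show b ∉ ((wchart h2).φ ⟨z, hz⟩).asIdeal from hb)).ne_zero hs'
      have := congrArg (wcomponents h2) hsame
      rw [hpi _ hcl, hpi _ hm] at this
      exact congrArg Subtype.val this
    obtain ⟨Q', -, hQ'⟩ := exists_le_comap_eq h1 n x (by rw [hnm]; exact (PrimeSpectrum.le_iff_specializes _ _).2 hxm)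
    exact ⟨Q', hQ'⟩

theorem isIndZariski_of_identifies {B : Type u} [CommRing B] [Algebra A B] (h1 : EtPBC.IdentifiesLocalRings A B)
    (h3 : ProEtW.IsWLocal (PrimeSpectrum B)) : EtPBC.IsIndZariski A B := by
  let d := wchart h3
  let c : Chart A :=
    { T := d.T
      top := d.top
      cpt := d.cpt
      t2 := d.t2
      tdc := d.tdc
      φ := fun t => PrimeSpectrum.comap (algebraMap A B) (d.φ t)
      isClopen_D := fun a => d.isClopen_D (algebraMap A B a) }
  let m : c.R →ₐ[A] d.R := Chart.map (c := c) (d := d) id continuous_id fun t => rfl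
  have hst : ∀ t : d.T, Function.Bijective (stMap (c := c) (d := d) id (fun t => rfl) t) := fun t => h1 (d.φ t)
  have hb : Function.Bijective m := by
    refine ⟨fun x y h => c.ev_ext fun t => (hst t).1 (congrArg (d.ev t) h), fun s => ?_⟩
    choose v hv using fun t => (hst t).2 (d.ev t s)
    refine ⟨⟨v, fun t => ?_⟩, d.ev_ext fun t => hv t⟩
    obtain ⟨W, hW, htW, a, f, hs⟩ := d.exists_nhd t s
    obtain ⟨a₁, f₁, hf₁, e₁, he₁, hee₁⟩ := exists_fraction h1 (d.φ t) a
    obtain ⟨a₂, f₂, hf₂, e₂, he₂, hee₂⟩ := exists_fraction h1 (d.φ t) f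
    refine ⟨W ∩ {t' | e₁ ∉ (d.φ t').asIdeal} ∩ {t' | e₂ ∉ (d.φ t').asIdeal} ∩
      {t' | algebraMap A B f₁ ∉ (d.φ t').asIdeal} ∩ {t' | algebraMap A B f₂ ∉ (d.φ t').asIdeal},
      (((hW.inter (d.isClopen_D e₁)).inter (d.isClopen_D e₂)).inter (d.isClopen_D _)).inter (d.isClopen_D _),
      ⟨⟨⟨⟨htW, he₁⟩, he₂⟩, hf₁⟩, hf₂⟩, a₁ * f₂, a₂ * f₁, ?_⟩
    rintro t' ⟨⟨⟨⟨htW', he₁'⟩, he₂'⟩, hf₁'⟩, hf₂'⟩
    obtain ⟨hf', hs'⟩ := hs t' htW'
    have q1 : algebraMap B (d.St t') a * algebraMap B (d.St t') (algebraMap A B f₁) =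
        algebraMap B (d.St t') (algebraMap A B a₁) := by
      have := congrArg (algebraMap B (d.St t')) hee₁
      rw [map_mul, map_mul, map_mul] at this
      exact (d.isUnit_of_notMem t' he₁').mul_left_cancel this
    have q2 : algebraMap B (d.St t') f * algebraMap B (d.St t') (algebraMap A B f₂) =
        algebraMap B (d.St t') (algebraMap A B a₂) := by
      have := congrArg (algebraMap B (d.St t')) hee₂
      rw [map_mul, map_mul, map_mul] at this
      exact (d.isUnit_of_notMem t' he₂').mul_left_cancel this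
    refine ⟨fun hm => ?_, (hst t').1 ?_⟩
    · rcases (c.φ t').2.mem_or_mem hm with h | h
      · have h' : algebraMap B (d.St t') (algebraMap A B a₂) ∈ IsLocalRing.maximalIdeal (d.St t') :=
          (IsLocalization.AtPrime.to_map_mem_maximal_iff (d.St t') _ _).2 h
        rw [← q2] at h'
        rcases (IsLocalRing.maximalIdeal.isMaximal (d.St t')).isPrime.mem_or_mem h' with h'' | h''
        · exact h'' (d.isUnit_of_notMem t' hf')
        · exact h'' (d.isUnit_of_notMem t' hf₂')
      · exact hf₁' h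
    · have ev : ∀ a, stMap (c := c) (d := d) id (fun t => rfl) t' (algebraMap A (c.St t') a) = algebraMap B (d.St t') (algebraMap A B a) :=
        fun a => stMap_algebraMap (c := c) (d := d) id (fun t => rfl) t' a
      rw [map_mul, hv, ev, ev, map_mul, map_mul, map_mul, map_mul, ← q1, ← q2, ← hs']
      ring
  have hB : Function.Bijective (algebraMap B d.R) := bijective_wchart h3
  let e : c.R ≃ₐ[A] B := (AlgEquiv.ofBijective m hb).trans ((AlgEquiv.ofBijective (Algebra.ofId B d.R) hB).symm.restrictScalars A)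
  obtain ⟨J, _, _, D, cc, hcc, hloc, ⟨i⟩⟩ := c.isIndZariski
  exact ⟨J, inferInstance, inferInstance, D, cc, hcc, hloc,
    ⟨i ≪≫ CategoryTheory.Under.isoMk e.toRingEquiv.toCommRingCatIso (by ext r; exact e.commutes r)⟩⟩

end Groth.Agent.WLocalLib
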