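import Mathlib
import Groth.Prelude.Def_ProEtW
import Groth.Prelude.Def_EtBase

/-! Étale retractions make the local rings at maximal ideals strictly henselian. -/

set_option autoImplicit false
set_option linter.style.haveILetI false
set_option backward.isDefEq.respectTransparency false
universe u

open Polynomial

namespace Groth.Agent.WLocalLib

/-- A two-member family. -/
def pairFam (U V : Type u) : Bool → Type u
  | true => U
  | false => V

instance pairFamRing (U V : Type u) [hU : CommRing U] [hV : CommRing V] : ∀ b, CommRing (pairFam U V b)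
  | true => hU
  | false => hV

instance pairFamAlgebra {A : Type u} (U V : Type u) [CommRing A] [CommRing U] [CommRing V] [hU : Algebra A U]
    [hV : Algebra A V] : ∀ b, Algebra A (pairFam U V b)
  | true => hU
  | false => hV

instance pairFamEtale {A : Type u} (U V : Type u) [CommRing A] [CommRing U] [CommRing V] [Algebra A U]
    [Algebra A V] [hU : Algebra.Etale A U] [hV : Algebra.Etale A V] : ∀ b, Algebra.Etale A (pairFam U V b)
  | true => hU
  | false => hV

theorem mul_single_one {ι : Type*} [DecidableEq ι] {F : ι → Type u} [∀ i, CommRing (F i)] (i : ι) (x : ∀ b, F b) :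
    x * Pi.single i 1 = Pi.single i (x i) := by
  funext b
  rcases eq_or_ne b i with rfl | hb <;> simp [*]

theorem single_false_eq {F : Bool → Type u} [∀ i, CommRing (F i)] (x : ∀ b, F b) (y : F false) (h : x false * y = 1) :
    x * Pi.single false y = 1 - Pi.single true 1 := by
  funext b
  cases b <;> simp [h]

theorem exists_section {A : Type u} [CommRing A] (h : ProEtW.HasEtaleRetractions A) (m : Ideal A) [m.IsMaximal]
    (U : Type u) [CommRing U] [Algebra A U] [Algebra.Etale A U] (Q : PrimeSpectrum U)
    (hQ : Q.asIdeal.comap (algebraMap A U) = m) : Nonempty (U →ₐ[A] Localization.AtPrime m) := by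
  have hop : IsOpen (Set.range (PrimeSpectrum.comap (algebraMap A U))) :=
    PrimeSpectrum.isOpenMap_comap_of_hasGoingDown_of_finitePresentation.isOpen_range
  obtain ⟨J, hJ⟩ := (PrimeSpectrum.isClosed_iff_zeroLocus_ideal _).1 hop.isClosed_compl
  have hJm : ¬ J ≤ m := fun hle => by
    have h0 : (⟨m, ‹m.IsMaximal›.isPrime⟩ : PrimeSpectrum A) ∈ PrimeSpectrum.zeroLocus (J : Set A) := hle
    rw [← hJ] at h0
    exact h0 ⟨Q, PrimeSpectrum.ext hQ⟩
  obtain ⟨j, f, hf, hjf, hj⟩ : ∃ j f : A, f ∈ m ∧ j + f = 1 ∧ j ∈ J := by
    have h1 : (1 : A) ∈ J ⊔ m := by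
      rw [show J ⊔ m = ⊤ from ‹m.IsMaximal›.1.2 _ (right_lt_sup.2 hJm)]
      trivial
    obtain ⟨j, hj, f, hf, hjf⟩ := Submodule.mem_sup.1 h1
    exact ⟨j, f, hf, hjf, hj⟩
  haveI : Algebra.Etale A (Localization.Away f) := Algebra.Etale.of_isLocalizationAway f
  let B := ∀ b, pairFam U (Localization.Away f) b
  haveI : Algebra.Etale A B := inferInstance
  haveI : Module.FaithfullyFlat A B := by
    refine Module.FaithfullyFlat.of_comap_surjective fun p => ?_
    by_cases hp : p ∈ Set.range (PrimeSpectrum.comap (algebraMap A U))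
    · obtain ⟨q, hq⟩ := hp
      exact ⟨PrimeSpectrum.comap (Pi.evalRingHom (pairFam U (Localization.Away f)) true) q, hq⟩
    · have hfp : f ∉ p.asIdeal := fun hfp => by
        have h2 : J ≤ p.asIdeal := by
          have : p ∈ (Set.range (PrimeSpectrum.comap (algebraMap A U)))ᶜ := hp
          rw [hJ] at this
          exact this
        exact p.2.ne_top ((Ideal.eq_top_iff_one _).2 (hjf ▸ p.asIdeal.add_mem (h2 hj) hfp))
      have : p ∈ Set.range (PrimeSpectrum.comap (algebraMap A (Localization.Away f))) := by
        rw [PrimeSpectrum.localization_away_comap_range (Localization.Away f) f]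
        exact hfp
      obtain ⟨q, hq⟩ := this
      exact ⟨PrimeSpectrum.comap (Pi.evalRingHom (pairFam U (Localization.Away f)) false) q, hq⟩
  obtain ⟨r⟩ := h B inferInstance inferInstance
  let ρ : B →ₐ[A] Localization.AtPrime m := (Algebra.ofId A _).comp r
  let e : B := Pi.single true 1
  have hidem : IsIdempotentElem (ρ e) := IsIdempotentElem.map (f := ρ) (by
    show e * e = e
    simp only [e]
    rw [mul_single_one, Pi.single_eq_same])
  rcases IsLocalRing.isUnit_or_isUnit_one_sub_self (ρ e) with hu | hu
  · have h1 : ρ e = 1 := hu.mul_left_cancel (by rw [mul_one]; exact hidem.eq)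
    have key : ∀ x : B, ρ x = ρ (Pi.single true (x true)) := fun x => by
      have e' : (Pi.single true (x true) : B) = x * e := (mul_single_one true x).symm
      rw [e', map_mul, h1, mul_one]
    exact ⟨{ toFun := fun u => ρ (Pi.single (M := pairFam U (Localization.Away f)) true u)
             map_one' := h1
             map_mul' := fun u v => by rw [← map_mul, ← Pi.single_mul]
             map_zero' := by simp
             map_add' := fun u v => by rw [← map_add, ← Pi.single_add]
             commutes' := fun a => (key (algebraMap A B a)).symm.trans (ρ.commutes a) }⟩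
  · exfalso
    have h0 : ρ e = 0 := by
      have h2 : ρ e * (1 - ρ e) = 0 := by rw [mul_sub, mul_one, hidem.eq, sub_self]
      exact hu.mul_left_eq_zero.1 h2
    obtain ⟨w, hw⟩ := (IsLocalization.map_units (M := Submonoid.powers f) (Localization.Away f) ⟨f, Submonoid.mem_powers f⟩).exists_right_inv
    have h3 : algebraMap A (Localization.AtPrime m) f * ρ (Pi.single (M := pairFam U (Localization.Away f)) false w) = 1 := by
      rw [← ρ.commutes f, ← map_mul, show algebraMap A B f * Pi.single (M := pairFam U (Localization.Away f)) false w = (1 : B) - e from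
        single_false_eq (algebraMap A B f) w hw, map_sub, map_one, h0, sub_zero]
    exact (IsLocalization.AtPrime.isUnit_to_map_iff (Localization.AtPrime m) m f).1 (IsUnit.of_mul_eq_one _ h3) hf

theorem eq_modByMonic_add {R : Type u} [CommRing R] (G : R[X]) (b : R) :
    G = (X - C b) * (G /ₘ (X - C b)) + C (G.eval b) := by
  have := modByMonic_add_div (p := G) (X - C b)
  rw [modByMonic_X_sub_C_eq_C_eval] at this
  exact (this.symm.trans (add_comm _ _))

theorem exists_prime_of_hom {A : Type u} [CommRing A] (m : Ideal A) [m.IsMaximal] {U : Type u} [CommRing U] [Algebra A U]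
    {L : Type u} [Field L] [Algebra A L] (θ : U →ₐ[A] L) (hL : RingHom.ker (algebraMap A L) = m) :
    ∃ Q : PrimeSpectrum U, Q.asIdeal.comap (algebraMap A U) = m := by
  refine ⟨⟨RingHom.ker θ.toRingHom, RingHom.ker_isPrime _⟩, ?_⟩
  rw [← hL, RingHom.comap_ker]
  exact congrArg RingHom.ker θ.comp_algebraMap

theorem isStrictlyHenselian_localization {A : Type u} [CommRing A] (h : ProEtW.HasEtaleRetractions A) (m : Ideal A)
    [m.IsMaximal] : EtCoh.IsStrictlyHenselianLocalRing (Localization.AtPrime m) := by
  let R := Localization.AtPrime m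
  have hker : RingHom.ker (algebraMap A (IsLocalRing.ResidueField R)) = m := by
    rw [IsScalarTower.algebraMap_eq A R (IsLocalRing.ResidueField R), ← RingHom.comap_ker,
      IsLocalRing.ResidueField.algebraMap_eq, IsLocalRing.ker_residue, show Ideal.comap (algebraMap A R) (IsLocalRing.maximalIdeal R) = m from IsLocalization.AtPrime.under_maximalIdeal R m]
  have hsurjA : ∀ z : IsLocalRing.ResidueField R, ∃ a : A, algebraMap A (IsLocalRing.ResidueField R) a = z := by
    intro z
    obtain ⟨z, rfl⟩ := IsLocalRing.residue_surjective z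
    obtain ⟨a, ⟨s, hs⟩, rfl⟩ := IsLocalization.exists_mk'_eq m.primeCompl z
    obtain ⟨t, ht⟩ := Ideal.Quotient.maximal_ideal_iff_isField_quotient m |>.1 inferInstance |>.mul_inv_cancel
      (show Ideal.Quotient.mk m s ≠ 0 from fun h => hs (Ideal.Quotient.eq_zero_iff_mem.1 h))
    obtain ⟨t, rfl⟩ := Ideal.Quotient.mk_surjective t
    refine ⟨a * t, ?_⟩
    have h1 : algebraMap A (IsLocalRing.ResidueField R) s * algebraMap A (IsLocalRing.ResidueField R) t = 1 := by
      rw [← map_mul, ← sub_eq_zero, ← map_one (algebraMap A (IsLocalRing.ResidueField R)), ← map_sub,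
        ← RingHom.mem_ker, hker, ← Ideal.Quotient.eq_zero_iff_mem, map_sub, map_mul, ht, map_one, sub_self]
    have h2 : IsLocalRing.residue R (IsLocalization.mk' R a (⟨s, hs⟩ : m.primeCompl)) * algebraMap A (IsLocalRing.ResidueField R) s =
        algebraMap A (IsLocalRing.ResidueField R) a := by
      rw [IsScalarTower.algebraMap_apply A R (IsLocalRing.ResidueField R) s,
        IsScalarTower.algebraMap_apply A R (IsLocalRing.ResidueField R) a, IsLocalRing.ResidueField.algebraMap_eq, ← map_mul,
        IsLocalization.mk'_spec R a (⟨s, hs⟩ : m.primeCompl)]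
    rw [map_mul, ← h2, mul_assoc, h1, mul_one]
  have hH : HenselianLocalRing R := by
    refine { is_henselian := fun f hf a₀ h₁ h₂ => ?_ }
    obtain ⟨s, hs⟩ := IsLocalization.exist_integer_multiples_of_finset m.primeCompl f.coeffs
    let σ := algebraMap A R (s : A)
    have hσ : IsUnit σ := IsLocalization.map_units R s
    have hlift : f.scaleRoots σ ∈ Polynomial.lifts (algebraMap A R) := by
      rw [Polynomial.lifts_iff_coeff_lifts]
      intro n
      rw [Polynomial.coeff_scaleRoots]
      rcases lt_trichotomy n f.natDegree with hn | hn | hn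
      · by_cases h0 : f.coeff n = 0
        · exact ⟨0, by rw [h0, zero_mul, map_zero]⟩
        obtain ⟨c, hc⟩ := hs _ (Polynomial.coeff_mem_coeffs h0)
        refine ⟨c * (s : A) ^ (f.natDegree - n - 1), ?_⟩
        rw [map_mul, map_pow, hc, Algebra.smul_def, show f.natDegree - n = (f.natDegree - n - 1) + 1 by omega, pow_succ]
        simp only [σ, Nat.add_sub_cancel]
        ring
      · exact ⟨1, by rw [hn, hf.coeff_natDegree, Nat.sub_self, pow_zero, mul_one, map_one]⟩
      · exact ⟨0, by rw [Polynomial.coeff_eq_zero_of_natDegree_lt hn, zero_mul, map_zero]⟩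
    obtain ⟨G, hG, -, hGm⟩ := Polynomial.lifts_and_natDegree_eq_and_monic hlift ((Polynomial.monic_scaleRoots_iff σ).2 hf)
    obtain ⟨b₀, hb₀⟩ := hsurjA (IsLocalRing.residue R (σ * a₀))
    have hb : algebraMap A R b₀ - σ * a₀ ∈ IsLocalRing.maximalIdeal R := by
      rw [← IsLocalRing.residue_eq_zero_iff, map_sub, ← IsLocalRing.ResidueField.algebraMap_eq,
        ← IsScalarTower.algebraMap_apply, hb₀, IsLocalRing.ResidueField.algebraMap_eq, sub_self]
    let q₀ := G /ₘ (X - C b₀)
    have hfq : G = (X - C b₀) * q₀ + C (G.eval b₀) := eq_modByMonic_add G b₀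
    let P : StandardEtalePair A :=
      { f := G, monic_f := hGm, g := derivative G * q₀, cond := ⟨q₀, 0, 1, by ring⟩ }
    let ρ := algebraMap A (IsLocalRing.ResidueField R)
    have hres : ∀ F : A[X], aeval (ρ b₀) F = ρ (F.eval b₀) := fun F => aeval_algebraMap_apply_eq_algebraMap_eval b₀ F
    have hmapR : ∀ (F : A[X]) (z : R), IsLocalRing.residue R ((F.map (algebraMap A R)).eval z) =
        aeval (IsLocalRing.residue R z) F := fun F z => by
      rw [Polynomial.eval_map, ← Polynomial.aeval_def]
      exact (Polynomial.aeval_algHom_apply (IsScalarTower.toAlgHom A R (IsLocalRing.ResidueField R)) z F).symm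
    have hm : P.HasMap (ρ b₀) := by
      have hG0 : aeval (ρ b₀) G = 0 := by
        rw [show ρ b₀ = IsLocalRing.residue R (σ * a₀) from hb₀, ← hmapR, hG, Polynomial.scaleRoots_eval_mul,
          IsLocalRing.residue_eq_zero_iff]
        exact Ideal.mul_mem_left _ _ h₁
      refine ⟨hG0, ?_⟩
      rw [show P.g = derivative G * q₀ from rfl, map_mul]
      have hq : q₀.eval b₀ = (derivative G).eval b₀ := by
        rw [congrArg derivative hfq]; simp
      rw [hres q₀, hq, ← hres]
      have hd : IsUnit (aeval (ρ b₀) (derivative G)) := by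
        rw [show ρ b₀ = IsLocalRing.residue R (σ * a₀) from hb₀, ← hmapR, ← Polynomial.derivative_map, hG]
        have hsc : (derivative (f.scaleRoots σ)).eval (σ * a₀) * σ = σ ^ f.natDegree * (derivative f).eval a₀ := by
          have h3 : (f.scaleRoots σ).comp (C σ * X) = C (σ ^ f.natDegree) * f := by
            refine Polynomial.ext fun n => ?_
            rw [Polynomial.comp_C_mul_X_coeff, Polynomial.coeff_scaleRoots, coeff_C_mul]
            rcases le_or_gt n f.natDegree with hn | hn
            · rw [mul_assoc, ← pow_add, Nat.sub_add_cancel hn, mul_comm]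
            · rw [Polynomial.coeff_eq_zero_of_natDegree_lt hn]; simp
          have h4 := congrArg (fun F => (derivative F).eval a₀) h3
          rw [Polynomial.derivative_comp, derivative_C_mul, derivative_C_mul, derivative_X, mul_one, eval_mul, eval_C,
            eval_comp, eval_mul, eval_C, eval_X, eval_mul, eval_C] at h4
          linear_combination h4
        refine IsUnit.map _ (isUnit_of_mul_isUnit_left (y := σ) ?_)
        rw [hsc]
        exact (hσ.pow _).mul h₂
      exact hd.mul hd
    haveI := P.instEtaleRing
    obtain ⟨Q, hQ⟩ := exists_prime_of_hom m (P.lift _ hm) hker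
    obtain ⟨τ⟩ := exists_section h m P.Ring Q hQ
    obtain ⟨hroot, hunit⟩ := (StandardEtalePair.hasMap_X (P := P)).map τ
    have hroot' : (f.scaleRoots σ).eval (τ P.X) = 0 := by
      rw [← hG, Polynomial.eval_map]; exact hroot
    obtain ⟨v, hv⟩ := hσ.exists_right_inv
    refine ⟨v * τ P.X, ?_, ?_⟩
    · rw [show τ P.X = σ * (v * τ P.X) by rw [← mul_assoc, hv, one_mul], Polynomial.scaleRoots_eval_mul] at hroot'
      exact (hσ.pow _).mul_right_eq_zero.1 hroot'
    · have hu : IsUnit ((q₀.map (algebraMap A R)).eval (τ P.X)) := by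
        rw [show P.g = derivative G * q₀ from rfl, map_mul] at hunit
        rw [Polynomial.eval_map]
        exact isUnit_of_mul_isUnit_right hunit
      have h0 : (τ P.X - algebraMap A R b₀) * (q₀.map (algebraMap A R)).eval (τ P.X) + algebraMap A R (G.eval b₀) = 0 := by
        have := congrArg (fun F => (Polynomial.map (algebraMap A R) F).eval (τ P.X)) hfq
        simp only [Polynomial.map_add, Polynomial.map_mul, Polynomial.map_sub, map_X, map_C, eval_add, eval_mul, eval_sub,
          eval_X, eval_C] at this
        rw [hG, hroot'] at this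
        rw [Polynomial.eval_C, Polynomial.eval_C] at this
        exact this.symm
      have hGb : algebraMap A R (G.eval b₀) ∈ IsLocalRing.maximalIdeal R := by
        rw [← IsLocalRing.residue_eq_zero_iff, ← IsLocalRing.ResidueField.algebraMap_eq, ← IsScalarTower.algebraMap_apply,
          ← hres]
        exact hm.1
      have h5 : τ P.X - algebraMap A R b₀ ∈ IsLocalRing.maximalIdeal R := by
        rw [← Ideal.mul_unit_mem_iff_mem _ hu, eq_neg_of_add_eq_zero_left h0]
        exact neg_mem hGb
      have e : v * τ P.X - a₀ = v * ((τ P.X - algebraMap A R b₀) + (algebraMap A R b₀ - σ * a₀)) := by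
        linear_combination (a₀) * hv
      rw [e]
      exact Ideal.mul_mem_left _ _ (Ideal.add_mem _ h5 hb)
  refine ⟨hH, IsSepClosed.of_exists_root _ fun F hF hFi hFs => ?_⟩
  have hl : F ∈ Polynomial.lifts (algebraMap A (IsLocalRing.ResidueField R)) :=
    (Polynomial.mem_lifts F).2 (Polynomial.map_surjective _ hsurjA F)
  obtain ⟨G, hG, -, hGm⟩ := Polynomial.lifts_and_natDegree_eq_and_monic hl hF
  let P : StandardEtalePair A := { f := G, monic_f := hGm, g := derivative G, cond := ⟨1, 0, 1, by simp⟩ }
  haveI : Fact (Irreducible F) := ⟨hFi⟩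
  have hm : P.HasMap (AdjoinRoot.root F) := by
    have e : ∀ Z : A[X], aeval (AdjoinRoot.root F) Z = aeval (AdjoinRoot.root F) (Z.map (algebraMap A (IsLocalRing.ResidueField R))) :=
      fun Z => (Polynomial.aeval_map_algebraMap _ _ Z).symm
    refine ⟨?_, ?_⟩
    · rw [e, hG, AdjoinRoot.aeval_eq, AdjoinRoot.mk_self]
    · rw [show P.g = derivative G from rfl, e, ← Polynomial.derivative_map, hG]
      obtain ⟨a, b, hab⟩ := hFs
      have := congrArg (aeval (AdjoinRoot.root F)) hab
      rw [map_add, map_mul, map_mul, AdjoinRoot.aeval_eq F, AdjoinRoot.mk_self, mul_zero, zero_add, map_one] at this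
      exact IsUnit.of_mul_eq_one_right _ this
  haveI := P.instEtaleRing
  obtain ⟨Q, hQ⟩ := exists_prime_of_hom m (P.lift _ hm) (by
    rw [IsScalarTower.algebraMap_eq A (IsLocalRing.ResidueField R) (AdjoinRoot F),
      RingHom.ker_comp_of_injective _ (RingHom.injective _), hker])
  obtain ⟨τ⟩ := exists_section h m P.Ring Q hQ
  obtain ⟨hroot, -⟩ := (StandardEtalePair.hasMap_X (P := P)).map τ
  refine ⟨IsLocalRing.residue R (τ P.X), ?_⟩
  rw [← hG, Polynomial.eval_map, ← Polynomial.aeval_def, ← IsLocalRing.ResidueField.algebraMap_eq,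
    ← IsScalarTower.toAlgHom_apply A R (IsLocalRing.ResidueField R), Polynomial.aeval_algHom_apply,
    show aeval (τ P.X) G = 0 from hroot, map_zero]

end Groth.Agent.WLocalLib
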