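import Groth.Agent.WLocalLib.Quot
import Groth.Agent.WLocalLib.IndZar
import Groth.Agent.WLocalLib.EtRetr
import Groth.Agent.WLocalLib.Localize
import Groth.Agent.EtContractLib.Iter
import Groth.Agent.WEtFieldLib.Basic
import Groth.Agent.S0733
import Groth.Agent.S0734

/-! Covers by w-local algebras with strictly henselian local rings at closed points. -/

set_option autoImplicit false
set_option linter.style.haveILetI false
set_option backward.isDefEq.respectTransparency false
universe u

open TensorProduct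

namespace Groth.Agent.WLocalLib

theorem nontrivial_field_tensor {K L N : Type u} [Field K] [Field L] [Algebra K L] [AddCommGroup N] [Module K N]
    [Nontrivial N] : Nontrivial (L ⊗[K] N) := inferInstance

set_option maxHeartbeats 800000 in
set_option synthInstance.maxHeartbeats 200000 in
theorem mem_range_baseChange {A A' U : Type u} [CommRing A] [CommRing A'] [CommRing U] [Algebra A A'] [Algebra A U]
    (q : PrimeSpectrum A') (h : PrimeSpectrum.comap (algebraMap A A') q ∈ Set.range (PrimeSpectrum.comap (algebraMap A U))) :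
    q ∈ Set.range (PrimeSpectrum.comap (algebraMap A' (A' ⊗[A] U))) := by
  let p := PrimeSpectrum.comap (algebraMap A A') q
  haveI : Nontrivial (p.asIdeal.ResidueField ⊗[A] U) :=
    (PrimeSpectrum.nontrivial_iff_mem_rangeComap p).2 h
  refine (PrimeSpectrum.nontrivial_iff_mem_rangeComap (S := A' ⊗[A] U) q).1 ?_
  letI : Algebra p.asIdeal.ResidueField q.asIdeal.ResidueField :=
    (Ideal.ResidueField.mapₐ p.asIdeal q.asIdeal (Algebra.ofId A A') rfl).toRingHom.toAlgebra
  haveI : IsScalarTower A p.asIdeal.ResidueField q.asIdeal.ResidueField :=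
    IsScalarTower.of_algebraMap_eq fun a => ((Ideal.ResidueField.mapₐ p.asIdeal q.asIdeal (Algebra.ofId A A') rfl).commutes a).symm
  haveI : Nontrivial (q.asIdeal.ResidueField ⊗[p.asIdeal.ResidueField] (p.asIdeal.ResidueField ⊗[A] U)) :=
    nontrivial_field_tensor
  exact ((Algebra.TensorProduct.cancelBaseChange A A' A' q.asIdeal.ResidueField U).toEquiv.trans
    (Algebra.TensorProduct.cancelBaseChange A p.asIdeal.ResidueField q.asIdeal.ResidueField q.asIdeal.ResidueField U).symm.toEquiv).nontrivial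

theorem isField_of_integral_gen {K M : Type u} [Field K] [CommRing M] [IsDomain M] [Algebra K M]
    [Algebra.IsIntegral K M] : IsField M :=
  isField_of_isIntegral_of_isField' (Field.toIsField K)

theorem isMaximal_of_weaklyEtale {A B : Type u} [CommRing A] [CommRing B] [Algebra A B] [Algebra.WeaklyEtale A B]
    (Q : PrimeSpectrum B) (h : (PrimeSpectrum.comap (algebraMap A B) Q).asIdeal.IsMaximal) : Q.asIdeal.IsMaximal := by
  let m := (PrimeSpectrum.comap (algebraMap A B) Q).asIdeal
  haveI : m.IsMaximal := h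
  let K := A ⧸ m
  letI : Field K := Ideal.Quotient.field m
  let θ : K ⊗[A] B →ₐ[A] B ⧸ Q.asIdeal :=
    Algebra.TensorProduct.lift (Ideal.Quotient.liftₐ m (Algebra.ofId A (B ⧸ Q.asIdeal)) fun a ha =>
      Ideal.Quotient.eq_zero_iff_mem.2 ha) (Ideal.Quotient.mkₐ A Q.asIdeal) fun _ _ => Commute.all _ _
  letI : Algebra K (B ⧸ Q.asIdeal) :=
    (θ.toRingHom.comp (algebraMap K (K ⊗[A] B))).toAlgebra
  haveI : Algebra.IsIntegral K (K ⊗[A] B) := WEtFieldLib.isIntegral
  haveI : Algebra.IsIntegral K (B ⧸ Q.asIdeal) := by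
    refine ⟨fun x => ?_⟩
    obtain ⟨b, rfl⟩ := Ideal.Quotient.mk_surjective x
    let θK : K ⊗[A] B →ₐ[K] B ⧸ Q.asIdeal := { θ.toRingHom with commutes' := fun _ => rfl }
    have := (Algebra.IsIntegral.isIntegral (R := K) ((1 : K) ⊗ₜ[A] b)).map θK
    convert this using 1
    show Ideal.Quotient.mk Q.asIdeal b = θ ((1 : K) ⊗ₜ[A] b)
    simp [θ]
  exact Ideal.Quotient.maximal_of_isField _ (isField_of_integral_gen (K := K))

theorem isMaximal_of_algebraic {A B C : Type u} [CommRing A] [CommRing B] [CommRing C] [Algebra A B] [Algebra A C]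
    (h : ProEtW.AlgebraicResidueExtensions A B) (P : PrimeSpectrum (B ⊗[A] C))
    (hm : ((Algebra.TensorProduct.includeRight : C →ₐ[A] B ⊗[A] C).toRingHom |> fun f => (PrimeSpectrum.comap f P)).asIdeal.IsMaximal) :
    P.asIdeal.IsMaximal := by
  let ι : C →ₐ[A] B ⊗[A] C := Algebra.TensorProduct.includeRight
  let m := (PrimeSpectrum.comap ι.toRingHom P).asIdeal
  haveI : m.IsMaximal := hm
  let K := C ⧸ m
  letI : Field K := Ideal.Quotient.field m
  let M := (B ⊗[A] C) ⧸ P.asIdeal
  let jK : K →+* M := Ideal.Quotient.lift m ((Ideal.Quotient.mk P.asIdeal).comp ι.toRingHom) fun c hc =>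
    Ideal.Quotient.eq_zero_iff_mem.2 hc
  letI : Algebra K M := jK.toAlgebra
  haveI : Algebra.IsIntegral K M := by
    refine ⟨fun x => ?_⟩
    obtain ⟨z, rfl⟩ := Ideal.Quotient.mk_surjective x
    induction z using TensorProduct.induction_on with
    | zero => rw [map_zero]; exact isIntegral_zero
    | add y z hy hz => rw [map_add]; exact hy.add hz
    | tmul b c =>
      rw [show b ⊗ₜ[A] c = (b ⊗ₜ[A] (1 : C)) * ι c by simp [ι], map_mul]
      refine IsIntegral.mul ?_ (isIntegral_algebraMap (x := Ideal.Quotient.mk m c))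
      let il : B →ₐ[A] B ⊗[A] C := Algebra.TensorProduct.includeLeft
      let q := (PrimeSpectrum.comap il.toRingHom P)
      let p := q.asIdeal.comap (algebraMap A B)
      have hpm : ∀ a, a ∈ p ↔ algebraMap A C a ∈ m := fun a => by
        show il (algebraMap A B a) ∈ P.asIdeal ↔ ι (algebraMap A C a) ∈ P.asIdeal
        rw [il.commutes, ι.commutes]
      let i1 : A ⧸ p →+* K := Ideal.Quotient.lift p ((Ideal.Quotient.mk m).comp (algebraMap A C)) fun a ha =>
        Ideal.Quotient.eq_zero_iff_mem.2 ((hpm a).1 ha)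
      have hi1 : Function.Injective i1 := RingHom.lift_injective_of_ker_le_ideal _ _ fun a ha => by
        exact (hpm a).2 (Ideal.Quotient.eq_zero_iff_mem.1 ha)
      let j : B ⧸ q.asIdeal →+* M := Ideal.Quotient.lift q.asIdeal ((Ideal.Quotient.mk P.asIdeal).comp il.toRingHom) fun x hx =>
        Ideal.Quotient.eq_zero_iff_mem.2 hx
      obtain ⟨f, hf0, hf⟩ := (h q.asIdeal).isAlgebraic (Ideal.Quotient.mk q.asIdeal b)
      refine isAlgebraic_iff_isIntegral.1 ⟨f.map i1, (Polynomial.map_ne_zero_iff hi1).2 hf0, ?_⟩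
      have hcomp : (algebraMap K M).comp i1 = j.comp (algebraMap (A ⧸ p) (B ⧸ q.asIdeal)) :=
        Ideal.Quotient.ringHom_ext (RingHom.ext fun a => by
          show Ideal.Quotient.mk P.asIdeal (ι (algebraMap A C a)) = Ideal.Quotient.mk P.asIdeal (il (algebraMap A B a))
          rw [il.commutes, ι.commutes])
      have h2 := congrArg j hf
      rw [Polynomial.aeval_def, Polynomial.hom_eval₂, map_zero, ← hcomp] at h2
      rw [Polynomial.aeval_def, Polynomial.eval₂_map]
      exact h2
  exact Ideal.Quotient.maximal_of_isField _ (isField_of_integral_gen (K := K))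

theorem exists_shCover (A : Type u) [CommRing A] :
    ∃ (C : Type u) (_ : CommRing C) (_ : Algebra A C), Module.FaithfullyFlat A C ∧ EtPBC.IsIndEtale A C ∧
      ProEtW.IsWLocal (PrimeSpectrum C) ∧
      PrimeSpectrum.comap (algebraMap A C) '' ProEtW.closedPoints (PrimeSpectrum C) = Set.univ ∧
      ∀ (m : Ideal C) [m.IsMaximal], EtCoh.IsStrictlyHenselianLocalRing (Localization.AtPrime m) := by
  let c₀ := Chart.cons A
  obtain ⟨A₁, _, _, hff, hind, hret⟩ := EtContractLib.exists_etaleRetractions c₀.R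
  haveI : Algebra.WeaklyEtale c₀.R A₁ := IndEtLib.weaklyEtale_of_isIndEtale _ _ hind
  letI : Algebra A A₁ := ((algebraMap c₀.R A₁).comp (algebraMap A c₀.R)).toAlgebra
  haveI : IsScalarTower A c₀.R A₁ := IsScalarTower.of_algebraMap_eq fun _ => rfl
  let I := PrimeSpectrum.vanishingIdeal (ProEtW.closedPoints (PrimeSpectrum c₀.R))
  have hI : PrimeSpectrum.zeroLocus (I : Set c₀.R) = ProEtW.closedPoints (PrimeSpectrum c₀.R) := by
    rw [PrimeSpectrum.zeroLocus_vanishingIdeal_eq_closure]; exact IsClosed.closure_eq c₀.isWLocal.2.1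
  let J := I.map (algebraMap c₀.R A₁)
  have hmax : ∀ z ∈ PrimeSpectrum.zeroLocus (J : Set A₁), z.asIdeal.IsMaximal := fun z hz => by
    refine isMaximal_of_weaklyEtale (A := c₀.R) z ((isMaximal_iff_closed _).1 ?_)
    rw [← hI]; exact Ideal.map_le_iff_le_comap.1 hz
  let c := Chart.ofIdeal J hmax
  letI : Algebra A c.R := ((algebraMap A₁ c.R).comp (algebraMap A A₁)).toAlgebra
  haveI : IsScalarTower A A₁ c.R := IsScalarTower.of_algebraMap_eq fun _ => rfl
  have h1 : EtPBC.IsIndEtale A A₁ :=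
    S0734.result A c₀.R A₁ (isIndEtale_of_isIndZariski c₀.isIndZariski) hind
  have h2 : EtPBC.IsIndEtale A c.R := S0734.result A A₁ c.R h1 (isIndEtale_of_isIndZariski c.isIndZariski)
  have hsurj : PrimeSpectrum.comap (algebraMap A c.R) '' ProEtW.closedPoints (PrimeSpectrum c.R) = Set.univ := by
    refine Set.eq_univ_of_forall fun p => ?_
    obtain ⟨x, hx, hxp⟩ := (cons_bijOn (A := A)).2.2 (Set.mem_univ p)
    obtain ⟨y, hy⟩ := PrimeSpectrum.comap_surjective_of_faithfullyFlat (A := c₀.R) (B := A₁) x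
    have hyJ : y ∈ PrimeSpectrum.zeroLocus (J : Set A₁) := by
      refine Ideal.map_le_iff_le_comap.2 ?_
      show I ≤ (PrimeSpectrum.comap (algebraMap c₀.R A₁) y).asIdeal
      rw [hy]; exact hI.ge hx
    refine ⟨c.cl ⟨y, hyJ⟩, by rw [Chart.closedPoints_eq]; exact ⟨_, rfl⟩, ?_⟩
    show PrimeSpectrum.comap ((algebraMap A₁ c.R).comp ((algebraMap c₀.R A₁).comp (algebraMap A c₀.R))) (c.cl ⟨y, hyJ⟩) = p
    rw [PrimeSpectrum.comap_comp_apply, PrimeSpectrum.comap_comp_apply, Chart.comap_cl]
    show PrimeSpectrum.comap (algebraMap A c₀.R) (PrimeSpectrum.comap (algebraMap c₀.R A₁) y) = p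
    rw [hy]; exact hxp
  haveI : Algebra.WeaklyEtale A c.R := IndEtLib.weaklyEtale_of_isIndEtale _ _ h2
  refine ⟨c.R, inferInstance, inferInstance, Module.FaithfullyFlat.of_comap_surjective (fun p => ?_), h2,
    c.isWLocal, hsurj, fun m hm => ?_⟩
  · obtain ⟨Q, -, hQ⟩ := hsurj.ge (Set.mem_univ p)
    exact ⟨Q, hQ⟩
  · obtain ⟨t, ht⟩ := c.eq_cl_of_isMax (Q := ⟨m, hm.isPrime⟩) hm
    haveI : (m.comap (algebraMap A₁ c.R)).IsMaximal := by
      rw [show m.comap (algebraMap A₁ c.R) = (c.φ t).asIdeal from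
        (congrArg (fun Q => (PrimeSpectrum.comap (algebraMap A₁ c.R) Q).asIdeal) ht).trans (congrArg PrimeSpectrum.asIdeal (c.comap_cl t))]
      exact hmax _ t.2
    exact isStrictlyHenselian_of_ringEquiv (RingEquiv.ofBijective _ (c.identifies ⟨m, hm.isPrime⟩))
      (isStrictlyHenselian_localization hret (m.comap (algebraMap A₁ c.R)))

theorem exists_cover (A B : Type u) [CommRing A] [CommRing B] [Algebra A B]
    (h : ProEtW.AlgebraicResidueExtensions A B) :
    ∃ (C D : Type u) (_ : CommRing C) (_ : CommRing D) (_ : Algebra A C) (_ : Algebra B D)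
      (_ : Algebra C D) (_ : Algebra A D) (_ : IsScalarTower A C D) (_ : IsScalarTower A B D),
      Module.FaithfullyFlat A C ∧ EtPBC.IsIndEtale A C ∧ Module.FaithfullyFlat B D ∧
      EtPBC.IsIndEtale B D ∧ ProEtW.IsWLocal (PrimeSpectrum C) ∧ ProEtW.IsWLocal (PrimeSpectrum D) ∧
      ProEtW.IsWLocalMap (PrimeSpectrum.comap (algebraMap C D)) ∧
      ProEtW.closedPoints (PrimeSpectrum D) =
        PrimeSpectrum.comap (algebraMap C D) ⁻¹' ProEtW.closedPoints (PrimeSpectrum C) ∧
      PrimeSpectrum.comap (algebraMap A C) '' ProEtW.closedPoints (PrimeSpectrum C) = Set.univ ∧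
      PrimeSpectrum.comap (algebraMap B D) '' ProEtW.closedPoints (PrimeSpectrum D) = Set.univ ∧
      ∀ (m : Ideal C) [m.IsMaximal], EtCoh.IsStrictlyHenselianLocalRing (Localization.AtPrime m) := by
  obtain ⟨C, _, _, hffC, hindC, hwC, hsC, hsh⟩ := exists_shCover A
  let B' := B ⊗[A] C
  let ι : C →ₐ[A] B' := Algebra.TensorProduct.includeRight
  let I := PrimeSpectrum.vanishingIdeal (ProEtW.closedPoints (PrimeSpectrum C))
  have hI : PrimeSpectrum.zeroLocus (I : Set C) = ProEtW.closedPoints (PrimeSpectrum C) := by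
    rw [PrimeSpectrum.zeroLocus_vanishingIdeal_eq_closure]; exact IsClosed.closure_eq hwC.2.1
  let J := I.map ι.toRingHom
  have hmem : ∀ P : PrimeSpectrum B', P ∈ PrimeSpectrum.zeroLocus (J : Set B') ↔
      PrimeSpectrum.comap ι.toRingHom P ∈ ProEtW.closedPoints (PrimeSpectrum C) := fun P => by
    rw [← hI]; exact Ideal.map_le_iff_le_comap
  have hmax : ∀ P ∈ PrimeSpectrum.zeroLocus (J : Set B'), P.asIdeal.IsMaximal := fun P hP =>
    isMaximal_of_algebraic h P ((isMaximal_iff_closed _).1 ((hmem P).1 hP))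
  let d := Chart.ofIdeal J hmax
  letI : Algebra B d.R := ((algebraMap B' d.R).comp (algebraMap B B')).toAlgebra
  haveI : IsScalarTower B B' d.R := IsScalarTower.of_algebraMap_eq fun _ => rfl
  letI : Algebra C d.R := ((algebraMap B' d.R).comp ι.toRingHom).toAlgebra
  letI : Algebra A d.R := ((algebraMap B d.R).comp (algebraMap A B)).toAlgebra
  haveI : IsScalarTower A B d.R := IsScalarTower.of_algebraMap_eq fun _ => rfl
  haveI : IsScalarTower A C d.R := IsScalarTower.of_algebraMap_eq fun a => by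
    show algebraMap B' d.R (algebraMap B B' (algebraMap A B a)) = algebraMap B' d.R (ι (algebraMap A C a))
    rw [ι.commutes]; rfl
  have hindD : EtPBC.IsIndEtale B d.R :=
    S0734.result B B' d.R (S0733.result A C B hindC) (isIndEtale_of_isIndZariski d.isIndZariski)
  have hcl : ProEtW.closedPoints (PrimeSpectrum d.R) =
      PrimeSpectrum.comap (algebraMap C d.R) ⁻¹' ProEtW.closedPoints (PrimeSpectrum C) := by
    rw [Chart.closedPoints_ofIdeal]
    exact Set.ext fun Q => hmem _
  have hsD : PrimeSpectrum.comap (algebraMap B d.R) '' ProEtW.closedPoints (PrimeSpectrum d.R) = Set.univ := by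
    refine Set.eq_univ_of_forall fun q => ?_
    obtain ⟨x, hx, hxp⟩ := hsC.ge (Set.mem_univ (PrimeSpectrum.comap (algebraMap A B) q))
    haveI : x.asIdeal.IsMaximal := (isMaximal_iff_closed _).1 hx
    obtain ⟨Q₁, hQ₁⟩ := mem_range_baseChange (A := A) (A' := B) (U := C ⧸ x.asIdeal) q (by
      obtain ⟨y, hy⟩ : x ∈ Set.range (PrimeSpectrum.comap (Ideal.Quotient.mk x.asIdeal)) := by
        rw [range_comap_of_surjective _ _ Ideal.Quotient.mk_surjective, Ideal.mk_ker]
        exact le_refl x.asIdeal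
      exact ⟨y, (congrArg (PrimeSpectrum.comap (algebraMap A C)) hy).trans hxp⟩)
    let π : B' →ₐ[B] B ⊗[A] (C ⧸ x.asIdeal) := Algebra.TensorProduct.map (AlgHom.id B B) (Ideal.Quotient.mkₐ A x.asIdeal)
    let P := PrimeSpectrum.comap π.toRingHom Q₁
    have hPx : PrimeSpectrum.comap ι.toRingHom P = x := by
      refine PrimeSpectrum.ext ((‹x.asIdeal.IsMaximal›).eq_of_le (PrimeSpectrum.comap ι.toRingHom P).2.ne_top ?_).symm
      intro c hc
      show π (ι c) ∈ Q₁.asIdeal
      rw [show π (ι c) = (1 : B) ⊗ₜ[A] Ideal.Quotient.mk x.asIdeal c from Algebra.TensorProduct.map_tmul _ _ _ _,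
        Ideal.Quotient.eq_zero_iff_mem.2 hc, TensorProduct.tmul_zero]
      exact Q₁.asIdeal.zero_mem
    refine ⟨d.cl ⟨P, (hmem P).2 (by rw [hPx]; exact hx)⟩, by rw [Chart.closedPoints_eq]; exact ⟨_, rfl⟩, ?_⟩
    show PrimeSpectrum.comap ((algebraMap B' d.R).comp (algebraMap B B')) (d.cl _) = q
    rw [PrimeSpectrum.comap_comp_apply, Chart.comap_cl]
    show PrimeSpectrum.comap (algebraMap B B') (PrimeSpectrum.comap π.toRingHom Q₁) = q
    rw [← PrimeSpectrum.comap_comp_apply, show π.toRingHom.comp (algebraMap B B') = algebraMap B _ from π.comp_algebraMap]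
    exact hQ₁
  haveI : Algebra.WeaklyEtale B d.R := IndEtLib.weaklyEtale_of_isIndEtale _ _ hindD
  refine ⟨C, d.R, inferInstance, inferInstance, inferInstance, inferInstance, inferInstance, inferInstance, inferInstance,
    inferInstance, hffC, hindC, Module.FaithfullyFlat.of_comap_surjective (fun q => ?_), hindD, hwC, d.isWLocal,
    ⟨isSpectralMap_comap _, fun Q hQ => (hcl.le hQ : _)⟩, hcl, hsC, hsD, hsh⟩
  obtain ⟨Q, -, hQ⟩ := hsD.ge (Set.mem_univ q)
  exact ⟨Q, hQ⟩

end Groth.Agent.WLocalLib
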