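import Groth.Agent.WLocalLib.IndZarId
import Groth.Agent.WLocalLib.Universal

/-! Charts of closed sets of closed points. -/

set_option autoImplicit false
set_option linter.style.haveILetI false
set_option backward.isDefEq.respectTransparency false
universe u

open PrimeSpectrum

namespace Groth.Agent.WLocalLib

theorem bijective_quotientMap {A B : Type u} [CommRing A] [CommRing B] [Algebra A B]
    (h : EtPBC.IdentifiesLocalRings A B) (I : Ideal A)
    (hb : Set.BijOn (PrimeSpectrum.comap (algebraMap A B)) (PrimeSpectrum.zeroLocus (I.map (algebraMap A B) : Set B))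
      (PrimeSpectrum.zeroLocus (I : Set A))) :
    Function.Bijective (Ideal.quotientMap (I.map (algebraMap A B)) (algebraMap A B) Ideal.le_comap_map) := by
  let J := I.map (algebraMap A B)
  letI : Algebra (A ⧸ I) (B ⧸ J) := (Ideal.quotientMap J (algebraMap A B) Ideal.le_comap_map).toAlgebra
  have halg : ∀ a : A, algebraMap (A ⧸ I) (B ⧸ J) (Ideal.Quotient.mk I a) = Ideal.Quotient.mk J (algebraMap A B a) :=
    fun a => rfl
  have hid : EtPBC.IdentifiesLocalRings (A ⧸ I) (B ⧸ J) := by
    refine identifies_of_fraction (fun Q x => ?_) (fun Q x e he hea => ?_)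
    · obtain ⟨b, rfl⟩ := Ideal.Quotient.mk_surjective x
      obtain ⟨a, f, hf, e, he, hee⟩ := exists_fraction h (PrimeSpectrum.comap (Ideal.Quotient.mk J) Q) b
      refine ⟨Ideal.Quotient.mk I a, Ideal.Quotient.mk I f, hf, Ideal.Quotient.mk J e, he, ?_⟩
      rw [halg, halg, ← map_mul, ← map_mul, hee, map_mul]
    · obtain ⟨a, rfl⟩ := Ideal.Quotient.mk_surjective x
      obtain ⟨e, rfl⟩ := Ideal.Quotient.mk_surjective e
      rw [halg, ← map_mul, Ideal.Quotient.eq_zero_iff_mem] at hea
      let Q₀ := PrimeSpectrum.comap (Ideal.Quotient.mk J) Q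
      let p := Q₀.asIdeal.comap (algebraMap A B)
      let φ := Localization.localRingHom p Q₀.asIdeal (algebraMap A B) rfl
      have hu : IsUnit (algebraMap B (Localization.AtPrime Q₀.asIdeal) e) :=
        IsLocalization.map_units (Localization.AtPrime Q₀.asIdeal) (⟨e, he⟩ : Q₀.asIdeal.primeCompl)
      have hcomp : (algebraMap B (Localization.AtPrime Q₀.asIdeal)).comp (algebraMap A B) =
          φ.comp (algebraMap A (Localization.AtPrime p)) :=
        RingHom.ext fun r => (Localization.localRingHom_to_map p Q₀.asIdeal (algebraMap A B) rfl r).symm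
      have h1 : φ (algebraMap A (Localization.AtPrime p) a) ∈ (I.map (algebraMap A (Localization.AtPrime p))).map φ := by
        rw [Ideal.map_map, ← hcomp, ← Ideal.map_map, Localization.localRingHom_to_map]
        rw [← Ideal.unit_mul_mem_iff_mem _ hu, ← map_mul]
        exact Ideal.mem_map_of_mem _ hea
      obtain ⟨z, hz, hzeq⟩ := (Ideal.mem_map_iff_of_surjective φ (h Q₀).2).1 h1
      rw [(h Q₀).1 hzeq, IsLocalization.algebraMap_mem_map_algebraMap_iff p.primeCompl] at hz
      obtain ⟨f, hf, hfa⟩ := hz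
      exact ⟨Ideal.Quotient.mk I f, hf, by rw [← map_mul, Ideal.Quotient.eq_zero_iff_mem]; exact hfa⟩
  refine bijective_of_bijective_comap hid ⟨fun Q Q' hQ => ?_, fun p => ?_⟩
  · have hm : ∀ Q : PrimeSpectrum (B ⧸ J), PrimeSpectrum.comap (Ideal.Quotient.mk J) Q ∈ PrimeSpectrum.zeroLocus (J : Set B) :=
      fun Q x hx => by
        show Ideal.Quotient.mk J x ∈ Q.asIdeal
        rw [Ideal.Quotient.eq_zero_iff_mem.2 hx]; exact Q.asIdeal.zero_mem
    refine PrimeSpectrum.comap_injective_of_surjective _ Ideal.Quotient.mk_surjective (hb.2.1 (hm Q) (hm Q') ?_)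
    exact congrArg (PrimeSpectrum.comap (Ideal.Quotient.mk I)) hQ
  · obtain ⟨Q₀, hQ₀, hQ₀p⟩ := hb.2.2 (show PrimeSpectrum.comap (Ideal.Quotient.mk I) p ∈ PrimeSpectrum.zeroLocus (I : Set A) from
      fun x hx => by
        show Ideal.Quotient.mk I x ∈ p.asIdeal
        rw [Ideal.Quotient.eq_zero_iff_mem.2 hx]; exact p.asIdeal.zero_mem)
    obtain ⟨Q, rfl⟩ : Q₀ ∈ Set.range (PrimeSpectrum.comap (Ideal.Quotient.mk J)) := by
      rw [range_comap_of_surjective _ _ Ideal.Quotient.mk_surjective, Ideal.mk_ker]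
      exact hQ₀
    exact ⟨Q, PrimeSpectrum.comap_injective_of_surjective _ Ideal.Quotient.mk_surjective hQ₀p⟩

variable {A : Type u} [CommRing A] (J : Ideal A)

/-- The chart of the zero locus of an ideal, when all its points are closed. -/
def Chart.ofIdeal (hmax : ∀ z ∈ PrimeSpectrum.zeroLocus (J : Set A), z.asIdeal.IsMaximal) : Chart A :=
  Chart.ofClosed _ (PrimeSpectrum.isClosed_zeroLocus _) hmax

variable (hmax : ∀ z ∈ PrimeSpectrum.zeroLocus (J : Set A), z.asIdeal.IsMaximal)

theorem Chart.closedPoints_ofIdeal :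
    ProEtW.closedPoints (PrimeSpectrum (Chart.ofIdeal J hmax).R) =
      PrimeSpectrum.comap (algebraMap A (Chart.ofIdeal J hmax).R) ⁻¹' PrimeSpectrum.zeroLocus (J : Set A) := by
  rw [Chart.closedPoints_eq]
  refine Set.ext fun Q => ⟨?_, fun hQ => ?_⟩
  · rintro ⟨t, rfl⟩
    rw [Set.mem_preimage, Chart.comap_cl]
    exact t.2
  · obtain ⟨t, P, rfl⟩ := (Chart.ofIdeal J hmax).exists_pt Q
    have hle : ((Chart.ofIdeal J hmax).pt t P).asIdeal.comap (algebraMap A (Chart.ofIdeal J hmax).R) ≤ ((Chart.ofIdeal J hmax).φ t).asIdeal :=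
      Chart.comap_le _ ((Chart.ofIdeal J hmax).ker_le_pt t P)
    have heq := (hmax _ hQ).eq_of_le ((Chart.ofIdeal J hmax).φ t).2.ne_top hle
    refine ⟨t, ?_⟩
    have hPm : P = IsLocalRing.closedPoint _ := by
      refine PrimeSpectrum.localization_comap_injective ((Chart.ofIdeal J hmax).St t)
        ((Chart.ofIdeal J hmax).φ t).asIdeal.primeCompl ?_
      refine PrimeSpectrum.ext ?_
      have h1 := congrArg PrimeSpectrum.asIdeal ((Chart.ofIdeal J hmax).comap_pt t P)
      have h2 := congrArg PrimeSpectrum.asIdeal ((Chart.ofIdeal J hmax).comap_pt t (IsLocalRing.closedPoint _))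
      exact (h1.symm.trans (heq.trans (congrArg PrimeSpectrum.asIdeal ((Chart.ofIdeal J hmax).comap_cl t)).symm)).trans h2
    rw [hPm]; rfl

theorem Chart.closedPoints_ofIdeal' :
    ProEtW.closedPoints (PrimeSpectrum (Chart.ofIdeal J hmax).R) =
      PrimeSpectrum.zeroLocus (J.map (algebraMap A (Chart.ofIdeal J hmax).R) : Set (Chart.ofIdeal J hmax).R) := by
  rw [Chart.closedPoints_ofIdeal]
  ext Q
  exact Ideal.map_le_iff_le_comap.symm

theorem Chart.bijOn_ofIdeal :
    Set.BijOn (PrimeSpectrum.comap (algebraMap A (Chart.ofIdeal J hmax).R))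
      (ProEtW.closedPoints (PrimeSpectrum (Chart.ofIdeal J hmax).R)) (PrimeSpectrum.zeroLocus (J : Set A)) := by
  refine ⟨fun Q hQ => ?_, fun x hx y hy h => ?_, fun p hp => ?_⟩
  · rw [Chart.closedPoints_ofIdeal] at hQ; exact hQ
  · rw [Chart.closedPoints_eq] at hx hy
    obtain ⟨t, rfl⟩ := hx
    obtain ⟨t', rfl⟩ := hy
    rw [Chart.comap_cl, Chart.comap_cl] at h
    exact congrArg _ (Subtype.ext h : t = t')
  · exact ⟨(Chart.ofIdeal J hmax).cl ⟨p, hp⟩, by rw [Chart.closedPoints_eq]; exact ⟨_, rfl⟩, Chart.comap_cl _ _⟩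

theorem Chart.bijective_quotientMap_of_bijOn (c : Chart A)
    (h1 : ProEtW.closedPoints (PrimeSpectrum c.R) = PrimeSpectrum.zeroLocus (J.map (algebraMap A c.R) : Set c.R))
    (h2 : Set.BijOn (PrimeSpectrum.comap (algebraMap A c.R)) (ProEtW.closedPoints (PrimeSpectrum c.R))
      (PrimeSpectrum.zeroLocus (J : Set A))) :
    Function.Bijective (Ideal.quotientMap (J.map (algebraMap A c.R)) (algebraMap A c.R) Ideal.le_comap_map) :=
  bijective_quotientMap c.identifies J (h1 ▸ h2)

theorem Chart.bijective_quotientMap_ofIdeal :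
    Function.Bijective (Ideal.quotientMap (J.map (algebraMap A (Chart.ofIdeal J hmax).R))
      (algebraMap A (Chart.ofIdeal J hmax).R) Ideal.le_comap_map) :=
  Chart.bijective_quotientMap_of_bijOn J (Chart.ofIdeal J hmax) (Chart.closedPoints_ofIdeal' J hmax)
    (Chart.bijOn_ofIdeal J hmax)

end Groth.Agent.WLocalLib
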