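import Groth.Agent.WLocalLib.Retr
import Groth.Agent.WLocalLib.Localize
import Groth.Agent.WLocalLib.Quot
import Groth.Agent.ZeroDimEDLib.Basic
import Groth.Agent.HenselLib.Criteria
import Groth.Agent.HenselLib.FiniteLocalProd
import Groth.Agent.S14620

/-! Finite algebras over w-contractible rings. -/

set_option autoImplicit false
set_option linter.style.haveILetI false
set_option backward.isDefEq.respectTransparency false
universe u

open Topology PrimeSpectrum TensorProduct

namespace Groth.Agent.WLocalLib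

theorem isSepClosed_of_equiv {k K : Type u} [Field k] [Field K] [IsSepClosed k] (e : k ≃+* K) : IsSepClosed K := by
  letI : Algebra k K := (e : k →+* K).toAlgebra
  haveI : Algebra.IsAlgebraic k K := ⟨fun x => by
    obtain ⟨a, rfl⟩ := e.surjective x
    exact isAlgebraic_algebraMap a⟩
  exact Algebra.IsAlgebraic.isSepClosed (F := k)

/-- Maximal ideals of a finite algebra over a henselian local ring are separated by idempotents. -/
theorem exists_idem_sep {R S : Type u} [CommRing R] [HenselianLocalRing R] [CommRing S] [Algebra R S]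
    [Algebra.IsIntegral R S] (M₁ M₂ : Ideal S) [M₁.IsMaximal] [M₂.IsMaximal] (h : M₁ ≠ M₂) :
    ∃ e : S, IsIdempotentElem e ∧ e ∈ M₁ ∧ e ∉ M₂ := by
  let m := IsLocalRing.maximalIdeal R
  let J := m.map (algebraMap R S)
  have hJ : ∀ M : Ideal S, M.IsMaximal → J ≤ M := fun M hM => by
    haveI := hM
    exact Ideal.map_le_iff_le_comap.2
      (le_of_eq (IsLocalRing.eq_maximalIdeal (Ideal.isMaximal_comap_of_isIntegral_of_isMaximal M)).symm)
  letI : Field (R ⧸ m) := Ideal.Quotient.field m
  haveI : Algebra.IsIntegral (R ⧸ m) (S ⧸ J) := Algebra.IsIntegral.tower_top (R := R)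
  have hmax : ∀ q : PrimeSpectrum (S ⧸ J), q.asIdeal.IsMaximal := fun q => by
    refine Ideal.isMaximal_of_isIntegral_of_isMaximal_comap (R := R ⧸ m) q.asIdeal ?_
    rcases Ideal.eq_bot_or_top (Ideal.comap (algebraMap (R ⧸ m) (S ⧸ J)) q.asIdeal) with h0 | h0
    · rw [h0]; exact Ideal.bot_isMaximal
    · exact absurd h0 (Ideal.IsPrime.comap _).ne_top
  obtain ⟨-, hT2, hTD⟩ := ProfSpecLib.isProfinite (S ⧸ J) hmax
  haveI := hT2
  haveI := hTD
  have hrange : ∀ M : Ideal S, M.IsMaximal → ∃ q : PrimeSpectrum (S ⧸ J), q.asIdeal.comap (Ideal.Quotient.mk J) = M :=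
    fun M hM => by
      obtain ⟨q, hq⟩ : (⟨M, hM.isPrime⟩ : PrimeSpectrum S) ∈ Set.range (PrimeSpectrum.comap (Ideal.Quotient.mk J)) := by
        rw [range_comap_of_surjective _ _ Ideal.Quotient.mk_surjective, Ideal.mk_ker]
        exact hJ M hM
      exact ⟨q, congrArg PrimeSpectrum.asIdeal hq⟩
  obtain ⟨q₁, hq₁⟩ := hrange M₁ ‹_›
  obtain ⟨q₂, hq₂⟩ := hrange M₂ ‹_›
  obtain ⟨Z, hZ, h1, h2⟩ := exists_isClopen_of_totally_separated (show q₂ ≠ q₁ from fun he => h (by rw [← hq₁, ← hq₂, he]))
  obtain ⟨eb, heb, rfl⟩ := PrimeSpectrum.isClopen_iff.1 hZ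
  obtain ⟨b, rfl⟩ := Ideal.Quotient.mk_surjective eb
  haveI : HenselianRing R m := inferInstance
  obtain ⟨e, he, heJ⟩ := HenselLib.exists_idempotent_lift (I := m) b (Ideal.Quotient.eq.1 (by rw [map_mul]; exact heb))
  have heq : Ideal.Quotient.mk J e = Ideal.Quotient.mk J b := Ideal.Quotient.eq.2 heJ
  refine ⟨e, he, ?_, fun hm => h1 ?_⟩
  · rw [← hq₁, Ideal.mem_comap, heq]
    exact not_not.1 h2
  · show Ideal.Quotient.mk J b ∈ q₂.asIdeal
    rw [← heq, ← Ideal.mem_comap, hq₂]
    exact hm

variable {A B : Type u} [CommRing A] [CommRing B] [Algebra A B] [Module.Finite A B]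

theorem unique_above (M₁ M₂ : Ideal B) [M₁.IsMaximal] [M₂.IsMaximal] (m : Ideal A) [m.IsMaximal]
    (hh : HenselianLocalRing (Localization.AtPrime m)) (h₁ : M₁.comap (algebraMap A B) = m)
    (h₂ : M₂.comap (algebraMap A B) = m) (Q : Ideal B) [Q.IsPrime] (hQ₁ : Q ≤ M₁) (hQ₂ : Q ≤ M₂) : M₁ = M₂ := by
  let S := Algebra.algebraMapSubmonoid B m.primeCompl
  let Bm := Localization S
  haveI : Module.Finite (Localization.AtPrime m) Bm := inferInstance
  haveI : Algebra.IsIntegral (Localization.AtPrime m) Bm := Algebra.IsIntegral.of_finite _ _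
  haveI := hh
  have hdisj : ∀ P : Ideal B, P.IsPrime → P.comap (algebraMap A B) ≤ m → Disjoint (S : Set B) (P : Set B) := fun P hP hle => by
    rw [Set.disjoint_left]
    rintro _ ⟨a, ha, rfl⟩ haP
    exact ha (hle haP)
  have hd1 := hdisj M₁ inferInstance h₁.le
  have hd2 := hdisj M₂ inferInstance h₂.le
  have hdQ := hdisj Q inferInstance ((Ideal.comap_mono hQ₁).trans h₁.le)
  have hp : ∀ {P : Ideal B}, P.IsPrime → Disjoint (S : Set B) (P : Set B) → (P.map (algebraMap B Bm)).IsPrime :=
    fun {P} hP hd => IsLocalization.isPrime_of_isPrime_disjoint S Bm P hP hd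
  have hc : ∀ {P : Ideal B}, P.IsPrime → Disjoint (S : Set B) (P : Set B) → (P.map (algebraMap B Bm)).comap (algebraMap B Bm) = P :=
    fun {P} hP hd => IsLocalization.under_map_of_isPrime_disjoint S Bm hP hd
  have hmax : ∀ (P : Ideal B) [P.IsMaximal], Disjoint (S : Set B) (P : Set B) → (P.map (algebraMap B Bm)).IsMaximal :=
    fun P _ hd => by
      obtain ⟨N, hN, hle⟩ := Ideal.exists_le_maximal _ (hp inferInstance hd).ne_top
      have h3 : P = N.comap (algebraMap B Bm) := ‹P.IsMaximal›.eq_of_le
        (Ideal.IsPrime.comap (algebraMap B Bm) (K := N) (hK := hN.isPrime)).ne_top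
        ((hc inferInstance hd).ge.trans (Ideal.comap_mono hle))
      rw [h3, show (N.comap (algebraMap B Bm)).map (algebraMap B Bm) = N from IsLocalization.map_under S Bm N]
      exact hN
  haveI := hmax M₁ hd1
  haveI := hmax M₂ hd2
  by_contra hne
  obtain ⟨e, he, he1, he2⟩ := exists_idem_sep (R := Localization.AtPrime m) (M₁.map (algebraMap B Bm)) (M₂.map (algebraMap B Bm))
    fun h => hne (by rw [← hc inferInstance hd1, h, hc inferInstance hd2])
  have hP := hp (P := Q) inferInstance hdQ
  rcases hP.mem_or_mem (show e * (1 - e) ∈ Q.map (algebraMap B Bm) by rw [mul_sub, mul_one, he.eq, sub_self]; exact zero_mem _) with h | h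
  · exact he2 (Ideal.map_mono hQ₂ h)
  · exact (inferInstance : (M₁.map (algebraMap B Bm)).IsMaximal).ne_top
      ((Ideal.eq_top_iff_one _).2 (by simpa using Ideal.add_mem _ he1 (Ideal.map_mono hQ₁ h)))

theorem isStrictlyHenselian_above (M : Ideal B) [M.IsMaximal] (m : Ideal A) [m.IsMaximal]
    (hh : EtCoh.IsStrictlyHenselianLocalRing (Localization.AtPrime m)) (hM : M.comap (algebraMap A B) = m) :
    EtCoh.IsStrictlyHenselianLocalRing (Localization.AtPrime M) := by
  classical
  obtain ⟨hH, hsep⟩ := hh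
  haveI := hH
  let S := Algebra.algebraMapSubmonoid B m.primeCompl
  let Bm := Localization S
  haveI : Module.Finite (Localization.AtPrime m) Bm := inferInstance
  haveI : Algebra.IsIntegral (Localization.AtPrime m) Bm := Algebra.IsIntegral.of_finite _ _
  have hu : ∀ s : S, IsUnit (algebraMap B (Localization.AtPrime M) s) := fun s => by
    obtain ⟨_, a, ha, rfl⟩ := s
    exact IsLocalization.map_units (Localization.AtPrime M) (⟨algebraMap A B a, fun h => ha (hM.le h)⟩ : M.primeCompl)
  let ψ : Bm →+* Localization.AtPrime M := IsLocalization.lift (M := S) hu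
  let N := (IsLocalRing.maximalIdeal (Localization.AtPrime M)).comap ψ
  have hψ : ∀ b, ψ (algebraMap B Bm b) = algebraMap B (Localization.AtPrime M) b := IsLocalization.lift_eq hu
  haveI : Finite (MaximalSpectrum Bm) := HenselLib.finite_maximalSpectrum (Localization.AtPrime m)
  haveI := Fintype.ofFinite (MaximalSpectrum Bm)
  have hNmax : N.IsMaximal := by
    obtain ⟨N', hN', hle⟩ := Ideal.exists_le_maximal N (Ideal.IsPrime.comap ψ).ne_top
    suffices N = N' by rw [this]; exact hN'
    have h3 : N'.comap (algebraMap B Bm) = M := by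
      refine (‹M.IsMaximal›.eq_of_le (Ideal.IsPrime.comap (algebraMap B Bm) (K := N') (hK := hN'.isPrime)).ne_top ?_).symm
      refine le_trans ?_ (Ideal.comap_mono hle)
      intro b hb
      show ψ (algebraMap B Bm b) ∈ IsLocalRing.maximalIdeal _
      rw [hψ]; exact (IsLocalization.AtPrime.to_map_mem_maximal_iff _ M b).2 hb
    have h4 : N.comap (algebraMap B Bm) = M := by
      refine le_antisymm ((Ideal.comap_mono hle).trans h3.le) fun b hb => ?_
      show ψ (algebraMap B Bm b) ∈ IsLocalRing.maximalIdeal _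
      rw [hψ]; exact (IsLocalization.AtPrime.to_map_mem_maximal_iff _ M b).2 hb
    rw [← show (N.comap (algebraMap B Bm)).map (algebraMap B Bm) = N from IsLocalization.map_under S Bm N,
      ← show (N'.comap (algebraMap B Bm)).map (algebraMap B Bm) = N' from IsLocalization.map_under S Bm N', h3, h4]
  choose e he he1 he2 using fun (N' : {N' : MaximalSpectrum Bm // N'.asIdeal ≠ N}) =>
    haveI := N'.1.isMaximal
    haveI := hNmax
    exists_idem_sep (R := Localization.AtPrime m) N'.1.asIdeal N N'.2
  let E := ∏ N', e N'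
  have hE : IsIdempotentElem E := Finset.prod_induction _ IsIdempotentElem (fun _ _ => IsIdempotentElem.mul) IsIdempotentElem.one fun x _ => he x
  have hEN : E ∉ N := fun h => by
    obtain ⟨x, -, hx⟩ := hNmax.isPrime.prod_mem_iff.1 h
    exact he2 x hx
  have hψE : ψ E = 1 := by
    have hu : IsUnit (ψ E) := by
      by_contra h; exact hEN h
    exact hu.mul_left_cancel (by rw [mul_one, ← map_mul, hE.eq])
  have hsurj : Function.Surjective ψ := fun x => by
    obtain ⟨b, ⟨s, hs⟩, rfl⟩ := IsLocalization.exists_mk'_eq M.primeCompl x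
    have hunit : IsUnit (E * algebraMap B Bm s + (1 - E)) := by
      by_contra h
      obtain ⟨N', hN', hmem⟩ := exists_max_ideal_of_mem_nonunits h
      by_cases hN'N : N' = N
      · subst hN'N
        have h1 : ψ (E * algebraMap B Bm s + (1 - E)) ∈ IsLocalRing.maximalIdeal _ := hmem
        rw [map_add, map_mul, map_sub, map_one, hψE, one_mul, sub_self, add_zero, hψ] at h1
        exact hs ((IsLocalization.AtPrime.to_map_mem_maximal_iff _ M s).1 h1)
      · have hE' : E ∈ N' := by
          rw [show E = ∏ x, e x from rfl, ← Finset.mul_prod_erase _ _ (Finset.mem_univ ⟨⟨N', hN'⟩, hN'N⟩)]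
          exact N'.mul_mem_right _ (he1 ⟨⟨N', hN'⟩, hN'N⟩)
        exact hN'.ne_top ((Ideal.eq_top_iff_one _).2 (by
          have := N'.sub_mem hmem (N'.mul_mem_right (algebraMap B Bm s - 1) hE')
          convert this using 1
          ring))
    obtain ⟨v, hv⟩ := hunit.exists_right_inv
    refine ⟨algebraMap B Bm b * v, ?_⟩
    rw [IsLocalization.eq_mk'_iff_mul_eq, map_mul, hψ, mul_assoc]
    have h1 := congrArg ψ hv
    rw [map_mul, map_add, map_mul, map_sub, map_one, hψE, one_mul, sub_self, add_zero, hψ] at h1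
    rw [mul_comm (ψ v)]
    rw [h1, mul_one]
  let f : Localization.AtPrime m →+* Localization.AtPrime M := ψ.comp (algebraMap (Localization.AtPrime m) Bm)
  have hf : f.Finite := RingHom.Finite.comp (RingHom.Finite.of_surjective ψ hsurj) (RingHom.finite_algebraMap.2 inferInstance)
  haveI : IsLocalHom f := ⟨fun x hx => by
    by_contra h
    haveI : ((IsLocalRing.maximalIdeal (Localization.AtPrime M)).comap f).IsMaximal :=
      Ideal.isMaximal_comap_of_isIntegral_of_isMaximal' f hf.to_isIntegral _
    have e := IsLocalRing.eq_maximalIdeal this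
    exact (show x ∈ (IsLocalRing.maximalIdeal (Localization.AtPrime M)).comap f by rw [e]; exact h) hx⟩
  exact S14620.result f hf ⟨hH, hsep⟩

theorem isWContractible_finite [Algebra.FinitePresentation A B] (hw : ProEtW.IsWLocal (PrimeSpectrum A))
    (he : ExtremallyDisconnected (_root_.ConnectedComponents (PrimeSpectrum A)))
    (hs : ∀ (m : Ideal A) [m.IsMaximal], EtCoh.IsStrictlyHenselianLocalRing (Localization.AtPrime m)) :
    EtPBC.IsWContractible B := by
  let f := PrimeSpectrum.comap (algebraMap A B)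
  have hcl : ∀ Q, Q ∈ ProEtW.closedPoints (PrimeSpectrum B) ↔ f Q ∈ ProEtW.closedPoints (PrimeSpectrum A) := fun Q => by
    rw [isMaximal_iff_closed, isMaximal_iff_closed]
    exact ⟨fun h => haveI := h; Ideal.isMaximal_comap_of_isIntegral_of_isMaximal Q.asIdeal,
      fun h => Ideal.isMaximal_of_isIntegral_of_isMaximal_comap Q.asIdeal h⟩
  have hcl' : ProEtW.closedPoints (PrimeSpectrum B) = f ⁻¹' ProEtW.closedPoints (PrimeSpectrum A) := Set.ext hcl
  have hwB : ProEtW.IsWLocal (PrimeSpectrum B) := by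
    refine ⟨inferInstance, ?_, fun Q => ?_⟩
    · show IsClosed (ProEtW.closedPoints (PrimeSpectrum B))
      rw [hcl']
      exact hw.2.1.preimage (PrimeSpectrum.continuous_comap _)
    · obtain ⟨M, hM, hle⟩ := Ideal.exists_le_maximal Q.asIdeal Q.2.ne_top
      refine ⟨⟨M, hM.isPrime⟩, ⟨(isMaximal_iff_closed _).2 hM, (PrimeSpectrum.le_iff_specializes _ _).1 hle⟩,
        fun M' ⟨h1, h2⟩ => ?_⟩
      haveI := hM
      haveI : M'.asIdeal.IsMaximal := (isMaximal_iff_closed _).1 h1
      obtain ⟨w, -, huw⟩ := hw.2.2 (f Q)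
      have e1 := huw (f ⟨M, hM.isPrime⟩) ⟨(hcl _).1 ((isMaximal_iff_closed _).2 hM), ((PrimeSpectrum.le_iff_specializes _ _).1 hle).map (PrimeSpectrum.continuous_comap _)⟩
      have e2 := huw (f M') ⟨(hcl _).1 h1, h2.map (PrimeSpectrum.continuous_comap _)⟩
      haveI : (M.comap (algebraMap A B)).IsMaximal := Ideal.isMaximal_comap_of_isIntegral_of_isMaximal M
      exact PrimeSpectrum.ext (unique_above M'.asIdeal M (M.comap (algebraMap A B)) (hs _).choose
        (congrArg PrimeSpectrum.asIdeal (e2.trans e1.symm)) rfl Q.asIdeal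
        ((PrimeSpectrum.le_iff_specializes _ _).2 h2) hle)
  refine isWContractible_of_wLocal hwB ?_ fun M hM => ?_
  · let Z := ProEtW.closedPoints (PrimeSpectrum A)
    let I := PrimeSpectrum.vanishingIdeal Z
    have hI : PrimeSpectrum.zeroLocus (I : Set A) = Z := by
      rw [PrimeSpectrum.zeroLocus_vanishingIdeal_eq_closure]; exact IsClosed.closure_eq hw.2.1
    let J := I.map (algebraMap A B)
    have hemb : IsEmbedding (PrimeSpectrum.comap (Ideal.Quotient.mk I)) :=
      (PrimeSpectrum.isClosedEmbedding_comap_of_surjective _ _ Ideal.Quotient.mk_surjective).isEmbedding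
    have hr : Set.range (PrimeSpectrum.comap (Ideal.Quotient.mk I)) = Z := by
      rw [range_comap_of_surjective _ _ Ideal.Quotient.mk_surjective, Ideal.mk_ker, hI]
    let eA : PrimeSpectrum (A ⧸ I) ≃ₜ (wchart hw).T := hemb.toHomeomorph.trans (Homeomorph.setCongr hr)
    haveI : ExtremallyDisconnected (wchart hw).T := extremallyDisconnected_wchart hw he
    haveI : T2Space (PrimeSpectrum (A ⧸ I)) := eA.symm.t2Space
    haveI : ExtremallyDisconnected (PrimeSpectrum (A ⧸ I)) := extremallyDisconnected_of_homeo eA.symm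
    have hres : ∀ p : PrimeSpectrum (A ⧸ I), IsSepClosed p.asIdeal.ResidueField := fun p => by
      have hmax : (PrimeSpectrum.comap (Ideal.Quotient.mk I) p).asIdeal.IsMaximal := by
        refine (isMaximal_iff_closed _).1 ?_
        exact hr.le ⟨p, rfl⟩
      let m := p.asIdeal.comap (Ideal.Quotient.mk I)
      haveI : m.IsMaximal := hmax
      haveI : p.asIdeal.IsMaximal := by
        rw [← Ideal.map_comap_of_surjective _ Ideal.Quotient.mk_surjective p.asIdeal]
        exact (Ideal.map_eq_top_or_isMaximal_of_surjective _ Ideal.Quotient.mk_surjective hmax).resolve_left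
          fun h => p.2.ne_top (by rw [← Ideal.map_comap_of_surjective _ Ideal.Quotient.mk_surjective p.asIdeal]; exact h)
      haveI : IsSepClosed m.ResidueField := (hs m).choose_spec
      let e1 : m.ResidueField ≃+* A ⧸ m := (RingEquiv.ofBijective _ m.bijective_algebraMap_quotient_residueField).symm
      let e2 : A ⧸ m ≃+* (A ⧸ I) ⧸ p.asIdeal := RingEquiv.ofBijective (Ideal.quotientMap p.asIdeal (Ideal.Quotient.mk I) le_rfl)
        ⟨Ideal.quotientMap_injective, Ideal.quotientMap_surjective Ideal.Quotient.mk_surjective⟩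
      exact isSepClosed_of_equiv ((e1.trans e2).trans (RingEquiv.ofBijective _ p.asIdeal.bijective_algebraMap_quotient_residueField))
    let E₁ : (B ⧸ J) ≃ₐ[A] (A ⧸ I) ⊗[A] B :=
      ((Algebra.TensorProduct.quotIdealMapEquivTensorQuot B I).restrictScalars A).trans (Algebra.TensorProduct.comm A B (A ⧸ I))
    let e : (A ⧸ I) ⊗[A] B ≃ₐ[A ⧸ I] B ⧸ J := AlgEquiv.ofRingEquiv (f := E₁.symm.toRingEquiv) fun x => by
      obtain ⟨a, rfl⟩ := Ideal.Quotient.mk_surjective x
      exact E₁.symm.commutes a
    haveI : Algebra.FinitePresentation (A ⧸ I) (B ⧸ J) := Algebra.FinitePresentation.equiv e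
    haveI : Module.Finite (A ⧸ I) (B ⧸ J) := Module.Finite.equiv e.toLinearEquiv
    haveI : ExtremallyDisconnected (PrimeSpectrum (B ⧸ J)) := ZeroDimEDLib.extremallyDisconnected_of_quasiFinite hres
    have hJ : Set.range (PrimeSpectrum.comap (Ideal.Quotient.mk J)) = ProEtW.closedPoints (PrimeSpectrum B) := by
      rw [range_comap_of_surjective _ _ Ideal.Quotient.mk_surjective, Ideal.mk_ker, hcl']
      ext Q
      show J ≤ Q.asIdeal ↔ f Q ∈ Z
      rw [← hI]
      exact Ideal.map_le_iff_le_comap
    let eB : PrimeSpectrum (B ⧸ J) ≃ₜ (wchart hwB).T :=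
      (PrimeSpectrum.isClosedEmbedding_comap_of_surjective _ _ Ideal.Quotient.mk_surjective).isEmbedding.toHomeomorph.trans
        (Homeomorph.setCongr hJ)
    exact extremallyDisconnected_of_homeo (eB.trans (wcomponents hwB).symm)
  · haveI : (M.comap (algebraMap A B)).IsMaximal := Ideal.isMaximal_comap_of_isIntegral_of_isMaximal M
    exact isStrictlyHenselian_above M (M.comap (algebraMap A B)) (hs _) rfl

end Groth.Agent.WLocalLib
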