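import Groth.Agent.WLocalLib.Basic
import Groth.Agent.IndEtLib.Flat
import Mathlib

/-! Ind-Zariski algebras identify local rings and are ind-étale. -/

set_option autoImplicit false
set_option linter.style.haveILetI false
set_option backward.isDefEq.respectTransparency false
set_option backward.defeqAttrib.useBackward true
universe u

open CategoryTheory CategoryTheory.Limits

namespace Groth.Agent.WLocalLib

theorem identifies_of_fraction {A B : Type u} [CommRing A] [CommRing B] [Algebra A B]
    (h1 : ∀ (Q : PrimeSpectrum B) (b : B), ∃ a f : A, f ∉ Q.asIdeal.comap (algebraMap A B) ∧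
      ∃ e ∉ Q.asIdeal, e * (b * algebraMap A B f) = e * algebraMap A B a)
    (h2 : ∀ (Q : PrimeSpectrum B) (a : A) (e : B), e ∉ Q.asIdeal → e * algebraMap A B a = 0 →
      ∃ f ∉ Q.asIdeal.comap (algebraMap A B), f * a = 0) :
    EtPBC.IdentifiesLocalRings A B := by
  intro Q
  let p := Q.asIdeal.comap (algebraMap A B)
  refine ⟨(injective_iff_map_eq_zero _).2 fun x hx => ?_, fun x => ?_⟩
  · obtain ⟨a, f, rfl⟩ := IsLocalization.exists_mk'_eq p.primeCompl x
    rw [Localization.localRingHom_mk', IsLocalization.mk'_eq_zero_iff] at hx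
    obtain ⟨⟨e, he⟩, hea⟩ := hx
    obtain ⟨g, hg, hga⟩ := h2 Q a e he hea
    rw [IsLocalization.mk'_eq_zero_iff]
    exact ⟨⟨g, hg⟩, hga⟩
  · obtain ⟨b, ⟨s, hs⟩, rfl⟩ := IsLocalization.exists_mk'_eq Q.asIdeal.primeCompl x
    obtain ⟨a, f, hf, e, he, hee⟩ := h1 Q b
    obtain ⟨a', f', hf', e', he', hee'⟩ := h1 Q s
    have ha' : a' ∉ p := fun ha => by
      have : e' * (s * algebraMap A B f') ∈ Q.asIdeal := by rw [hee']; exact Q.asIdeal.mul_mem_left _ ha
      rcases Q.2.mem_or_mem this with h | h
      · exact he' h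
      · rcases Q.2.mem_or_mem h with h | h
        · exact hs h
        · exact hf' h
    refine ⟨IsLocalization.mk' _ (a * f') (⟨f * a', (Ideal.IsPrime.comap (algebraMap A B)).mul_notMem hf ha'⟩ : p.primeCompl), ?_⟩
    rw [Localization.localRingHom_mk']
    refine IsLocalization.mk'_eq_iff_eq.2 ((IsLocalization.eq_iff_exists Q.asIdeal.primeCompl _).2 ⟨⟨e * e', Q.2.mul_notMem he he'⟩, ?_⟩)
    show e * e' * (s * algebraMap A B (a * f')) = e * e' * (algebraMap A B (f * a') * b)
    rw [map_mul, map_mul]
    calc e * e' * (s * (algebraMap A B a * algebraMap A B f'))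
        = (e * algebraMap A B a) * (e' * (s * algebraMap A B f')) := by ring
      _ = (e * (b * algebraMap A B f)) * (e' * algebraMap A B a') := by rw [hee, hee']
      _ = _ := by ring

theorem identifies_of_isLocalIso (A S : Type u) [CommRing A] [CommRing S] [Algebra A S] [Algebra.IsLocalIso A S] :
    EtPBC.IdentifiesLocalRings A S := by
  have key : ∀ (Q : PrimeSpectrum S), ∃ g ∉ Q.asIdeal, ∃ r ∉ Q.asIdeal.comap (algebraMap A S),
      IsLocalization.Away r (Localization.Away g) := by
    intro Q
    obtain ⟨g, hg, hstd⟩ := Algebra.IsLocalIso.exists_notMem_isStandardOpenImmersion (R := A) Q.asIdeal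
    obtain ⟨r, hr⟩ := hstd.exists_away
    refine ⟨g, hg, r, fun hrQ => ?_, hr⟩
    have hu : IsUnit (algebraMap A (Localization.Away g) r) :=
      IsLocalization.map_units (M := Submonoid.powers r) (Localization.Away g) ⟨r, Submonoid.mem_powers r⟩
    have hu' := hu.map (IsLocalization.Away.liftAlgHom g (f := IsScalarTower.toAlgHom A S (Localization.AtPrime Q.asIdeal))
      (IsLocalization.map_units (Localization.AtPrime Q.asIdeal) (⟨g, hg⟩ : Q.asIdeal.primeCompl)) (S := Localization.Away g))
    rw [AlgHom.commutes, IsScalarTower.algebraMap_apply A S (Localization.AtPrime Q.asIdeal),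
      IsLocalization.AtPrime.isUnit_to_map_iff (Localization.AtPrime Q.asIdeal) Q.asIdeal] at hu'
    exact hu' hrQ
  refine identifies_of_fraction (fun Q b => ?_) (fun Q a e he hea => ?_)
  · obtain ⟨g, hg, r, hr, hloc⟩ := key Q
    obtain ⟨a, ⟨_, n, rfl⟩, hab⟩ := IsLocalization.exists_mk'_eq (Submonoid.powers r) (algebraMap S (Localization.Away g) b)
    rw [IsLocalization.mk'_eq_iff_eq_mul, IsScalarTower.algebraMap_apply A S (Localization.Away g),
      IsScalarTower.algebraMap_apply A S (Localization.Away g), ← map_mul,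
      IsLocalization.eq_iff_exists (Submonoid.powers g)] at hab
    obtain ⟨⟨_, m, rfl⟩, hm⟩ := hab
    exact ⟨a, r ^ n, fun h => hr ((Ideal.IsPrime.comap (algebraMap A S)).mem_of_pow_mem n h), g ^ m,
      fun h => hg (Q.2.mem_of_pow_mem m h), hm.symm⟩
  · obtain ⟨g, hg, r, hr, hloc⟩ := key Q
    obtain ⟨c, ⟨_, n, rfl⟩, hc⟩ := IsLocalization.exists_mk'_eq (Submonoid.powers r) (algebraMap S (Localization.Away g) e)
    have hu : algebraMap A (Localization.Away g) (c * a) = 0 := by
      rw [map_mul, ← IsLocalization.mk'_spec (Localization.Away g) c (⟨_, n, rfl⟩ : Submonoid.powers r), hc,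
        mul_right_comm, IsScalarTower.algebraMap_apply A S (Localization.Away g) a, ← map_mul, hea, map_zero, zero_mul]
    obtain ⟨⟨_, k, rfl⟩, hk⟩ := (IsLocalization.map_eq_zero_iff (Submonoid.powers r) (Localization.Away g) _).1 hu
    refine ⟨r ^ k * c, (Ideal.IsPrime.comap (algebraMap A S)).mul_notMem (fun h => hr ((Ideal.IsPrime.comap (algebraMap A S)).mem_of_pow_mem k h)) fun hcQ => ?_, by rw [mul_assoc]; exact hk⟩
    rw [IsLocalization.mk'_eq_iff_eq_mul, IsScalarTower.algebraMap_apply A S (Localization.Away g),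
      IsScalarTower.algebraMap_apply A S (Localization.Away g), ← map_mul,
      IsLocalization.eq_iff_exists (Submonoid.powers g)] at hc
    obtain ⟨⟨_, m, rfl⟩, hm⟩ := hc
    have h3 : g ^ m * (e * algebraMap A S (r ^ n)) ∈ Q.asIdeal := by
      rw [show g ^ m * (e * algebraMap A S (r ^ n)) = g ^ m * algebraMap A S c from hm.symm]
      exact Q.asIdeal.mul_mem_left _ hcQ
    rcases Q.2.mem_or_mem h3 with h | h
    · exact hg (Q.2.mem_of_pow_mem m h)
    · rcases Q.2.mem_or_mem h with h | h
      · exact he h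
      · exact hr ((Ideal.IsPrime.comap (algebraMap A S)).mem_of_pow_mem n h)

theorem exists_presentation {A B : Type u} [CommRing A] [CommRing B] [Algebra A B] (h : EtPBC.IsIndZariski A B) :
    ∃ (J : Type u) (_ : SmallCategory J) (_ : IsFiltered J) (D : J ⥤ CommRingCat.{u})
      (t : (Functor.const J).obj (CommRingCat.of A) ⟶ D) (s : D ⟶ (Functor.const J).obj (CommRingCat.of B))
      (_ : IsColimit (Cocone.mk _ s)),
      ∀ j, (letI : Algebra A (D.obj j) := (t.app j).hom.toAlgebra; Algebra.IsLocalIso A (D.obj j)) ∧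
        t.app j ≫ s.app j = CommRingCat.ofHom (algebraMap A B) := by
  let P : MorphismProperty CommRingCat.{u} :=
    RingHom.toMorphismProperty fun {R S} _ _ f => letI := f.toAlgebra; Algebra.IsLocalIso R S
  obtain ⟨J, _, _, D, c, hc, het, ⟨e⟩⟩ := h
  have hind : MorphismProperty.ind.{u} P (CommRingCat.ofHom (algebraMap A B)) := by
    rw [MorphismProperty.ind_iff_ind_underMk]
    exact ⟨J, inferInstance, inferInstance, (ColimitPresentation.mk D c.ι hc).ofIso e, het⟩
  obtain ⟨J', _, _, D', t, s, hs, h'⟩ := hind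
  exact ⟨J', inferInstance, inferInstance, D', t, s, hs, h'⟩

theorem identifies_of_isIndZariski {A B : Type u} [CommRing A] [CommRing B] [Algebra A B]
    (h : EtPBC.IsIndZariski A B) : EtPBC.IdentifiesLocalRings A B := by
  obtain ⟨J, _, _, D, t, s, hs, hts⟩ := exists_presentation h
  have hc := isColimitOfPreserves (forget CommRingCat) hs
  let _ : ∀ j, Algebra A (D.obj j) := fun j => (t.app j).hom.toAlgebra
  have _ : ∀ j, Algebra.IsLocalIso A (D.obj j) := fun j => (hts j).1
  let π : ∀ j, (D.obj j : Type u) →ₐ[A] B := fun j =>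
    { (s.app j).hom with commutes' := fun a => congr($((hts j).2).hom a) }
  have hsurj : ∀ b : B, ∃ j x, π j x = b := fun b => Types.jointly_surjective_of_isColimit hc b
  have hid := fun j => identifies_of_isLocalIso A (D.obj j : Type u)
  refine identifies_of_fraction (fun Q b => ?_) (fun Q a e he hea => ?_)
  · obtain ⟨j, x, rfl⟩ := hsurj b
    obtain ⟨a, f, hf, e, he, hee⟩ := exists_fraction (hid j) (PrimeSpectrum.comap (π j).toRingHom Q) x
    refine ⟨a, f, fun h => hf ?_, π j e, he, ?_⟩
    · show π j (algebraMap A (D.obj j) f) ∈ Q.asIdeal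
      rw [AlgHom.commutes]; exact h
    · rw [← AlgHom.commutes (π j) f, ← AlgHom.commutes (π j) a, ← map_mul, ← map_mul, hee, map_mul]
  · obtain ⟨i, x, rfl⟩ := hsurj e
    obtain ⟨k, u, v, huv⟩ := (Types.FilteredColimit.isColimit_eq_iff _ hc
      (xi := (x * algebraMap A (D.obj i) a : D.obj i)) (j := i) (xj := (0 : D.obj i))).1
      (show π i (x * algebraMap A (D.obj i) a) = π i 0 by rw [map_mul, AlgHom.commutes, hea, map_zero])
    have hπ : π k ((D.map u).hom x) = π i x := congr($(s.naturality u).hom x)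
    have ha : (D.map u).hom (algebraMap A (D.obj i) a) = algebraMap A (D.obj k) a := by
      have := congr($(t.naturality u).hom a)
      exact this.symm
    have h0 : (D.map u).hom x * algebraMap A (D.obj k) a = 0 := by
      rw [← ha, ← map_mul]
      exact huv.trans (map_zero (D.map v).hom)
    obtain ⟨f, hf, hfa⟩ := exists_mul_eq_zero (hid k) (PrimeSpectrum.comap (π k).toRingHom Q) a
      (e := (D.map u).hom x) (show π k _ ∉ Q.asIdeal by rw [hπ]; exact he) h0
    refine ⟨f, fun h => hf ?_, hfa⟩
    show π k (algebraMap A (D.obj k) f) ∈ Q.asIdeal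
    rw [AlgHom.commutes]; exact h

theorem etale_of_isLocalIso (A S : Type u) [CommRing A] [CommRing S] [Algebra A S] [Algebra.IsLocalIso A S] :
    Algebra.Etale A S := by
  rw [← RingHom.etale_algebraMap]
  refine RingHom.Etale.ofLocalizationSpanTarget (algebraMap A S) _
    (Algebra.IsLocalIso.span_isStandardOpenImmersion_eq_top A S) fun ⟨g, hg⟩ => ?_
  obtain ⟨r, hr⟩ := (hg : Algebra.IsStandardOpenImmersion A (Localization.Away g)).exists_away
  rw [← IsScalarTower.algebraMap_eq A S (Localization.Away g)]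
  exact RingHom.etale_algebraMap.2 (Algebra.Etale.of_isLocalizationAway r)

theorem isIndEtale_of_isIndZariski {A B : Type u} [CommRing A] [CommRing B] [Algebra A B]
    (h : EtPBC.IsIndZariski A B) : EtPBC.IsIndEtale A B := by
  obtain ⟨J, _, _, D, t, s, hs, hts⟩ := exists_presentation h
  rw [IndEtLib.isIndEtale_iff]
  refine ⟨J, inferInstance, inferInstance, D, t, s, hs, fun j => ⟨?_, (hts j).2⟩⟩
  letI : Algebra A (D.obj j) := (t.app j).hom.toAlgebra
  haveI : Algebra.IsLocalIso A (D.obj j) := (hts j).1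
  exact RingHom.etale_algebraMap.2 (etale_of_isLocalIso A (D.obj j))

theorem weaklyEtale_of_isIndZariski {A B : Type u} [CommRing A] [CommRing B] [Algebra A B]
    (h : EtPBC.IsIndZariski A B) : Algebra.WeaklyEtale A B :=
  IndEtLib.weaklyEtale_of_isIndEtale A B (isIndEtale_of_isIndZariski h)

end Groth.Agent.WLocalLib
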