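import Groth.Agent.WLocalLib.WRing
import Groth.Agent.WLocalLib.IndZarId
import Groth.Agent.WLocalLib.IndZar
import Groth.Agent.WLocalLib.EtRetr
import Groth.Agent.WEtNormalLib.Olivier
import Groth.Agent.WEtNormalLib.Main
import Groth.Agent.S7127
import Groth.Prelude.Def_EtBase

/-! Retraction criteria. -/

set_option autoImplicit false
set_option linter.style.haveILetI false
set_option backward.isDefEq.respectTransparency false
universe u

open PrimeSpectrum CategoryTheory

namespace Groth.Agent.WLocalLib

variable {A : Type u} [CommRing A]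

theorem ed_faithfullyFlat (A : Type u) [CommRing A] : Module.FaithfullyFlat A (Chart.ed A).R := by
  refine Chart.faithfullyFlat _ fun m hm => ⟨stoneCechUnit (WithTopology.toTopology _ ⟨m, hm.isPrime⟩), ?_⟩
  simp [Chart.ed, Chart.pull, Chart.cons]

theorem wLocal_of_indZariskiRetractions (h : ProEtW.HasIndZariskiRetractions A) :
    ProEtW.IsWLocal (PrimeSpectrum A) ∧ ExtremallyDisconnected (_root_.ConnectedComponents (PrimeSpectrum A)) := by
  obtain ⟨r⟩ := h (Chart.ed A).R (ed_faithfullyFlat A) (Chart.isIndZariski _)
  exact wLocal_of_retraction _ StoneCech.projective r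

theorem indZariskiRetractions_of_wLocal (hw : ProEtW.IsWLocal (PrimeSpectrum A))
    (he : ExtremallyDisconnected (_root_.ConnectedComponents (PrimeSpectrum A))) :
    ProEtW.HasIndZariskiRetractions A := by
  intro B _ _ hff hB
  haveI := extremallyDisconnected_wchart hw he
  exact exists_retraction hw (fun x _ => PrimeSpectrum.comap_surjective_of_faithfullyFlat x)
    fun Q _ => identifies_of_isIndZariski hB Q

theorem bijective_localRingHom_of_weaklyEtale {B : Type u} [CommRing B] [Algebra A B] [Algebra.WeaklyEtale A B]
    (Q : PrimeSpectrum B)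
    (h : EtCoh.IsStrictlyHenselianLocalRing (Localization.AtPrime (Q.asIdeal.comap (algebraMap A B)))) :
    Function.Bijective
      (Localization.localRingHom (Q.asIdeal.comap (algebraMap A B)) Q.asIdeal (algebraMap A B) rfl) := by
  obtain ⟨hh, hs⟩ := h
  let p := Q.asIdeal.comap (algebraMap A B)
  let Ap := Localization.AtPrime p
  let Bq := Localization.AtPrime Q.asIdeal
  letI : Algebra Ap Bq := (Localization.localRingHom p Q.asIdeal (algebraMap A B) rfl).toAlgebra
  haveI : IsLocalHom (algebraMap Ap Bq) := Localization.isLocalHom_localRingHom _ _ _ rfl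
  haveI : IsScalarTower A Ap Bq := IsScalarTower.of_algebraMap_eq fun r => by
    rw [RingHom.algebraMap_toAlgebra (Localization.localRingHom p Q.asIdeal (algebraMap A B) rfl),
      Localization.localRingHom_to_map]
    exact IsScalarTower.algebraMap_apply A B Bq r
  haveI : Algebra.WeaklyEtale B Bq := WEtNormalLib.weaklyEtale_localization _ Bq Q.asIdeal.primeCompl
  haveI : Algebra.WeaklyEtale A Ap := WEtNormalLib.weaklyEtale_localization _ Ap p.primeCompl
  haveI : Algebra.WeaklyEtale A Bq := Algebra.WeaklyEtale.trans _ B Bq
  haveI : Algebra.WeaklyEtale Ap Bq := S7127.result A Ap Bq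
  haveI : HenselianLocalRing Ap := hh
  haveI : IsSepClosed (IsLocalRing.ResidueField Ap) := hs
  exact WEtNormalLib.bijective_of_strictlyHenselian Ap Bq

theorem isWContractible_of_wLocal (hw : ProEtW.IsWLocal (PrimeSpectrum A))
    (he : ExtremallyDisconnected (_root_.ConnectedComponents (PrimeSpectrum A)))
    (hs : ∀ (m : Ideal A) [m.IsMaximal], EtCoh.IsStrictlyHenselianLocalRing (Localization.AtPrime m)) :
    EtPBC.IsWContractible A := by
  intro B _ _ hff hB
  haveI := extremallyDisconnected_wchart hw he
  refine exists_retraction hw (fun x _ => PrimeSpectrum.comap_surjective_of_faithfullyFlat x) fun Q hQ => ?_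
  haveI := hQ
  exact bijective_localRingHom_of_weaklyEtale Q (hs _)

theorem isIndEtale_of_etale (A B : Type u) [CommRing A] [CommRing B] [Algebra A B] [Algebra.Etale A B] :
    EtPBC.IsIndEtale A B :=
  (IndEtLib.isIndEtale_iff A B).2 (MorphismProperty.le_ind _ _ (RingHom.etale_algebraMap.2 ‹_›))

theorem isWContractible_of_retractions (h1 : ProEtW.HasIndZariskiRetractions A) (h2 : ProEtW.HasEtaleRetractions A) :
    EtPBC.IsWContractible A :=
  isWContractible_of_wLocal (wLocal_of_indZariskiRetractions h1).1 (wLocal_of_indZariskiRetractions h1).2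
    fun m _ => isStrictlyHenselian_localization h2 m

end Groth.Agent.WLocalLib
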