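import Groth.Agent.WLocalLib.Cover
import Groth.Agent.WLocalLib.Retr

/-! Every ring has a faithfully flat ind-étale w-contractible extension. -/

set_option autoImplicit false
set_option linter.style.haveILetI false
set_option backward.isDefEq.respectTransparency false
universe u

open PrimeSpectrum Topology

namespace Groth.Agent.WLocalLib

theorem exists_wContractible (A : Type u) [CommRing A] :
    ∃ (D : Type u) (_ : CommRing D) (_ : Algebra A D),
      Module.FaithfullyFlat A D ∧ EtPBC.IsIndEtale A D ∧ EtPBC.IsWContractible D := by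
  obtain ⟨C, _, _, hff, hind, hwC, -, hsh⟩ := exists_shCover A
  let c := wchart hwC
  let g : WithTopology c.T ⊥ → c.T := fun x => x.ofTopology
  have hg : Continuous g := continuous_of_discreteTopology
  let h := stoneCechExtend hg
  haveI : ExtremallyDisconnected (StoneCech (WithTopology c.T ⊥)) :=
    CompactT2.Projective.extremallyDisconnected StoneCech.projective
  let d := c.pull (StoneCech (WithTopology c.T ⊥)) h (continuous_stoneCechExtend hg)
  have hmax : ∀ t : d.T, (d.φ t).asIdeal.IsMaximal := fun t => isMaximal_of_closedPoint (h t).2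
  have hsurj : ∀ m : Ideal C, m.IsMaximal → ∃ t, (d.φ t).asIdeal = m := fun m hm => by
    let x : c.T := ⟨⟨m, hm.isPrime⟩, (isMaximal_iff_closed _).2 hm⟩
    refine ⟨stoneCechUnit (WithTopology.toTopology _ x), ?_⟩
    show (c.φ (h (stoneCechUnit (WithTopology.toTopology _ x)))).asIdeal = m
    rw [show h (stoneCechUnit (WithTopology.toTopology _ x)) = x from stoneCechExtend_stoneCechUnit hg _]
    rfl
  haveI : Module.FaithfullyFlat C d.R := Chart.faithfullyFlat d hsurj
  letI : Algebra A d.R := ((algebraMap C d.R).comp (algebraMap A C)).toAlgebra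
  haveI : IsScalarTower A C d.R := IsScalarTower.of_algebraMap_eq fun _ => rfl
  refine ⟨d.R, inferInstance, inferInstance, Module.FaithfullyFlat.trans A C d.R,
    S0734.result A C d.R hind (isIndEtale_of_isIndZariski d.isIndZariski), ?_⟩
  haveI : ExtremallyDisconnected d.T := ‹ExtremallyDisconnected (StoneCech (WithTopology c.T ⊥))›
  refine isWContractible_of_wLocal d.isWLocal (extremallyDisconnected_of_homeo d.componentsHomeo.symm) fun m hm => ?_
  obtain ⟨t, ht⟩ := d.eq_cl_of_isMax (Q := ⟨m, hm.isPrime⟩) hm
  haveI : (m.comap (algebraMap C d.R)).IsMaximal := by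
    rw [show m.comap (algebraMap C d.R) = (d.φ t).asIdeal from
      (congrArg (fun Q => (PrimeSpectrum.comap (algebraMap C d.R) Q).asIdeal) ht).trans (congrArg PrimeSpectrum.asIdeal (d.comap_cl t))]
    exact hmax t
  exact isStrictlyHenselian_of_ringEquiv (RingEquiv.ofBijective _ (d.identifies ⟨m, hm.isPrime⟩)) (hsh _)

end Groth.Agent.WLocalLib
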