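import Groth.Agent.WLocalLib.Finite

/-! Quotients of w-contractible rings by locally nilpotent ideals. -/

set_option autoImplicit false
set_option linter.style.haveILetI false
set_option backward.isDefEq.respectTransparency false
universe u

open Topology PrimeSpectrum

namespace Groth.Agent.WLocalLib

theorem isWLocal_of_homeo {X Y : Type u} [TopologicalSpace X] [TopologicalSpace Y] [SpectralSpace Y] (e : X ≃ₜ Y)
    (h : ProEtW.IsWLocal X) : ProEtW.IsWLocal Y := by
  have hc : ∀ y : Y, IsClosed ({y} : Set Y) ↔ IsClosed ({e.symm y} : Set X) := fun y => by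
    rw [← e.isClosed_image (s := {e.symm y})]
    simp
  refine ⟨inferInstance, ?_, fun y => ?_⟩
  · have : {y : Y | IsClosed ({y} : Set Y)} = e.symm ⁻¹' {x : X | IsClosed ({x} : Set X)} := Set.ext hc
    rw [this]
    exact h.2.1.preimage e.symm.continuous
  · obtain ⟨x, ⟨hx1, hx2⟩, hu⟩ := h.2.2 (e.symm y)
    refine ⟨e x, ⟨(hc _).2 (by rwa [e.symm_apply_apply]), ?_⟩, fun z ⟨hz1, hz2⟩ => ?_⟩
    · have := hx2.map e.continuous
      rwa [e.apply_symm_apply] at this
    · have := hu (e.symm z) ⟨(hc z).1 hz1, hz2.map e.symm.continuous⟩
      rw [← this, e.apply_symm_apply]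

theorem extremallyDisconnected_components_of_homeo {X Y : Type u} [TopologicalSpace X] [TopologicalSpace Y] (e : X ≃ₜ Y)
    (h : ExtremallyDisconnected (_root_.ConnectedComponents X)) : ExtremallyDisconnected (_root_.ConnectedComponents Y) := by
  haveI := h
  let E : _root_.ConnectedComponents X ≃ₜ _root_.ConnectedComponents Y :=
    { toFun := e.continuous.connectedComponentsMap
      invFun := e.symm.continuous.connectedComponentsMap
      left_inv := fun c => by
        induction c using Quotient.inductionOn with
        | _ x => exact congrArg _ (e.symm_apply_apply x)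
      right_inv := fun c => by
        induction c using Quotient.inductionOn with
        | _ x => exact congrArg _ (e.apply_symm_apply x)
      continuous_toFun := Continuous.connectedComponentsMap_continuous _
      continuous_invFun := Continuous.connectedComponentsMap_continuous _ }
  exact extremallyDisconnected_of_homeo E

/-- A surjection with bijective spectrum map preserves w-contractibility. -/
theorem isWContractible_of_surjective {A B : Type u} [CommRing A] [CommRing B] [Algebra A B]
    (hs : Function.Surjective (algebraMap A B)) (hb : Function.Surjective (PrimeSpectrum.comap (algebraMap A B)))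
    (h : EtPBC.IsWContractible A) : EtPBC.IsWContractible B := by
  have h1 : ProEtW.HasIndZariskiRetractions A := fun C _ _ hff hC => h C hff (weaklyEtale_of_isIndZariski hC)
  have h2 : ProEtW.HasEtaleRetractions A := fun C _ _ hff hC => h C hff inferInstance
  obtain ⟨hw, he⟩ := wLocal_of_indZariskiRetractions h1
  have hemb := (PrimeSpectrum.isClosedEmbedding_comap_of_surjective _ _ hs).isEmbedding
  let e : PrimeSpectrum A ≃ₜ PrimeSpectrum B :=
    ((hemb.toHomeomorph.trans (Homeomorph.setCongr hb.range_eq)).trans (Homeomorph.Set.univ _)).symm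
  haveI : Module.Finite A B := RingHom.finite_algebraMap.1 (RingHom.Finite.of_surjective _ hs)
  refine isWContractible_of_wLocal (isWLocal_of_homeo e hw) (extremallyDisconnected_components_of_homeo e he)
    fun M hM => ?_
  haveI := hM
  haveI : (M.comap (algebraMap A B)).IsMaximal := Ideal.isMaximal_comap_of_isIntegral_of_isMaximal M
  exact isStrictlyHenselian_above M _ (isStrictlyHenselian_localization h2 _) rfl

/-- Quotient of a w-contractible ring by an ideal with quasi-compact open complement. -/
theorem isWContractible_of_surjective_compact {A B : Type u} [CommRing A] [CommRing B] [Algebra A B]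
    (hs : Function.Surjective (algebraMap A B))
    (hc : IsCompact (Set.range (PrimeSpectrum.comap (algebraMap A B)))ᶜ)
    (h : EtPBC.IsWContractible A) : EtPBC.IsWContractible B := by
  let J := RingHom.ker (algebraMap A B)
  have hr : Set.range (PrimeSpectrum.comap (algebraMap A B)) = PrimeSpectrum.zeroLocus (J : Set A) :=
    range_comap_of_surjective _ _ hs
  have hcov : (Set.range (PrimeSpectrum.comap (algebraMap A B)))ᶜ ⊆
      ⋃ f : J, (PrimeSpectrum.basicOpen (f : A) : Set (PrimeSpectrum A)) := fun p hp => by
    rw [hr] at hp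
    obtain ⟨f, hf, hfp⟩ := Set.not_subset.1 hp
    exact Set.mem_iUnion.2 ⟨⟨f, hf⟩, hfp⟩
  obtain ⟨t, ht⟩ := hc.elim_finite_subcover _ (fun f : J => (PrimeSpectrum.basicOpen (f : A)).2) hcov
  classical
  let J' : Ideal A := Ideal.span ((t.image fun f : J => (f : A)) : Set A)
  have hJ' : J'.FG := ⟨t.image fun f : J => (f : A), rfl⟩
  have hle : J' ≤ J := Ideal.span_le.2 fun a ha => by
    obtain ⟨f, -, rfl⟩ := Finset.mem_image.1 ha
    exact f.2
  haveI : Algebra.FinitePresentation A (A ⧸ J') := Algebra.FinitePresentation.quotient hJ'
  haveI : Module.Finite A (A ⧸ J') := Module.Finite.quotient _ _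
  have hwc : EtPBC.IsWContractible (A ⧸ J') := by
    have h2 : ProEtW.HasEtaleRetractions A := fun C _ _ hff hC => h C hff inferInstance
    obtain ⟨hw, he⟩ := wLocal_of_indZariskiRetractions fun C _ _ hff hC => h C hff (weaklyEtale_of_isIndZariski hC)
    exact isWContractible_finite hw he fun m _ => isStrictlyHenselian_localization h2 m
  letI : Algebra (A ⧸ J') B := (Ideal.Quotient.lift J' (algebraMap A B) fun a ha => hle ha).toAlgebra
  refine isWContractible_of_surjective (A := A ⧸ J') (fun b => ?_) (fun p => ?_) hwc
  · obtain ⟨a, rfl⟩ := hs b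
    exact ⟨Ideal.Quotient.mk J' a, rfl⟩
  · let q := PrimeSpectrum.comap (Ideal.Quotient.mk J') p
    have hq : q ∈ Set.range (PrimeSpectrum.comap (algebraMap A B)) := by
      by_contra hq
      obtain ⟨f, hf, hfq⟩ := Set.mem_iUnion₂.1 (ht hq)
      refine hfq ?_
      show Ideal.Quotient.mk J' (f : A) ∈ p.asIdeal
      rw [Ideal.Quotient.eq_zero_iff_mem.2 (Ideal.subset_span (Finset.mem_coe.2 (Finset.mem_image_of_mem _ hf)))]
      exact zero_mem _
    obtain ⟨b, hb⟩ := hq
    exact ⟨b, PrimeSpectrum.comap_injective_of_surjective _ Ideal.Quotient.mk_surjective hb⟩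

end Groth.Agent.WLocalLib
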