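import Groth.Agent.WLocalLib.GChart
import Groth.Agent.SpecProdLib.Basic

/-! Rings over a profinite space mapping to the components of a spectrum. -/

set_option autoImplicit false
set_option linter.style.haveILetI false
set_option backward.isDefEq.respectTransparency false
universe u

open Topology PrimeSpectrum

namespace Groth.Agent.WLocalLib

variable {A : Type u} [CommRing A]

/-- The idempotents invertible on a component. -/
def compM (x : _root_.ConnectedComponents (PrimeSpectrum A)) : Submonoid A where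
  carrier := {e | IsIdempotentElem e ∧ ∀ p : PrimeSpectrum A, _root_.ConnectedComponents.mk p = x → e ∉ p.asIdeal}
  one_mem' := ⟨IsIdempotentElem.one, fun p _ => p.asIdeal.one_notMem⟩
  mul_mem' h h' := ⟨h.1.mul h'.1, fun p hp => p.2.mul_notMem (h.2 p hp) (h'.2 p hp)⟩

theorem isClopen_compSet {e : A} (he : IsIdempotentElem e) :
    IsClopen {x : _root_.ConnectedComponents (PrimeSpectrum A) | e ∈ compM x} := by
  have hD : IsClopen (PrimeSpectrum.basicOpen e : Set (PrimeSpectrum A)) :=
    PrimeSpectrum.isClopen_iff.2 ⟨e, he, rfl⟩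
  refine ConnectedComponents.isQuotientMap_coe.isClopen_preimage.1 ?_
  convert hD using 1
  ext p
  refine ⟨fun h => h.2 p rfl, fun h => ⟨he, fun q hq => ?_⟩⟩
  exact hD.connectedComponent_subset h (ConnectedComponents.coe_eq_coe'.1 hq)

theorem exists_compM {x : _root_.ConnectedComponents (PrimeSpectrum A)} {p : PrimeSpectrum A}
    (h : _root_.ConnectedComponents.mk p ≠ x) : ∃ e ∈ compM x, e ∈ p.asIdeal := by
  obtain ⟨q, rfl⟩ := ConnectedComponents.surjective_coe x
  obtain ⟨Z, hZ, hqZ, hpZ⟩ : ∃ Z : Set (PrimeSpectrum A), IsClopen Z ∧ q ∈ Z ∧ p ∉ Z := by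
    by_contra hne
    push_neg at hne
    exact h (ConnectedComponents.coe_eq_coe'.2 (_root_.SpecProdLib.mem_connectedComponent_of_forall_isClopen hne))
  obtain ⟨e, he, rfl⟩ := PrimeSpectrum.isClopen_iff.1 hZ
  exact ⟨e, ⟨he, fun r hr => hZ.connectedComponent_subset hqZ (ConnectedComponents.coe_eq_coe'.1 hr)⟩, not_not.1 hpZ⟩

theorem range_comap_compM (x : _root_.ConnectedComponents (PrimeSpectrum A)) :
    Set.range (PrimeSpectrum.comap (algebraMap A (Localization (compM x)))) = _root_.ConnectedComponents.mk ⁻¹' {x} := by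
  rw [PrimeSpectrum.localization_comap_range (Localization (compM x)) (compM x)]
  ext p
  refine ⟨fun h => ?_, fun h => Set.disjoint_left.2 fun e he hep => he.2 p h hep⟩
  by_contra hne
  obtain ⟨e, he, hep⟩ := exists_compM hne
  exact Set.disjoint_left.1 h he hep

variable (T : Type u) [TopologicalSpace T] [CompactSpace T] [T2Space T] [TotallyDisconnectedSpace T]
  (g : C(T, _root_.ConnectedComponents (PrimeSpectrum A)))

/-- The family of submonoids attached to a map to the components. -/
def GChart.comp : GChart A where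
  T := T
  top := inferInstance
  cpt := inferInstance
  t2 := inferInstance
  tdc := inferInstance
  M t := compM (g t)
  isClopen_D a := by
    by_cases ha : IsIdempotentElem a
    · exact (isClopen_compSet ha).preimage g.continuous
    · convert isClopen_empty (X := T) using 1
      exact Set.eq_empty_iff_forall_notMem.2 fun t ht => ha ht.1

variable {T g}

/-- The point of a chart below which a prime lies. -/
noncomputable def GChart.pi (c : GChart A) (Q : PrimeSpectrum c.R) : c.T := (c.exists_ker_le Q).choose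

theorem GChart.pi_pt (c : GChart A) (t : c.T) (P : PrimeSpectrum (c.St t)) : c.pi (c.pt t P) = t :=
  c.eq_of_ker_le (c.exists_ker_le _).choose_spec (c.ker_le_pt t P)

theorem GChart.continuous_pi (c : GChart A) : Continuous c.pi := by
  rw [(isTopologicalBasis_isClopen (X := c.T)).continuous_iff]
  intro W hW
  have : c.pi ⁻¹' W = (PrimeSpectrum.basicOpen (c.ind W hW) : Set (PrimeSpectrum c.R)) := by
    ext Q
    obtain ⟨t, P, rfl⟩ := c.exists_pt Q
    rw [Set.mem_preimage, c.pi_pt]
    show t ∈ W ↔ c.ev t (c.ind W hW) ∉ P.asIdeal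
    by_cases h : t ∈ W
    · rw [c.ev_ind_mem hW h]; exact iff_of_true h P.asIdeal.one_notMem
    · rw [c.ev_ind_notMem hW h]; exact iff_of_false h fun h' => h' P.asIdeal.zero_mem
  rw [this]
  exact (PrimeSpectrum.basicOpen _).2

theorem mk_comap_pt (t : T) (P : PrimeSpectrum ((GChart.comp T g).St t)) :
    _root_.ConnectedComponents.mk (PrimeSpectrum.comap (algebraMap A (GChart.comp T g).R) ((GChart.comp T g).pt t P)) = g t := by
  rw [GChart.comap_pt]
  exact (range_comap_compM (g t)).le ⟨P, rfl⟩

theorem comp_fibre_nonempty (t : T) : Nonempty (PrimeSpectrum ((GChart.comp T g).St t)) := by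
  obtain ⟨p, hp⟩ := ConnectedComponents.surjective_coe (g t)
  obtain ⟨P, -⟩ := (range_comap_compM (g t)).ge hp
  exact ⟨P⟩

theorem comp_fibre_preconnected (t : T) : IsPreconnected (Set.range ((GChart.comp T g).pt t)) := by
  obtain ⟨p, hp⟩ := ConnectedComponents.surjective_coe (g t)
  have hrange : Set.range (PrimeSpectrum.comap (algebraMap A ((GChart.comp T g).St t))) = connectedComponent p := by
    rw [← connectedComponents_preimage_singleton, hp]
    exact range_comap_compM (g t)
  have : PreconnectedSpace (PrimeSpectrum ((GChart.comp T g).St t)) := by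
    refine ⟨(PrimeSpectrum.localization_comap_isEmbedding ((GChart.comp T g).St t) ((GChart.comp T g).M t)).isInducing.isPreconnected_image.1 ?_⟩
    rw [Set.image_univ, hrange]
    exact isPreconnected_connectedComponent
  exact isPreconnected_range (PrimeSpectrum.continuous_comap _)

theorem isEmbedding_comp :
    IsEmbedding (fun y : PrimeSpectrum (GChart.comp T g).R =>
      ((PrimeSpectrum.comap (algebraMap A (GChart.comp T g).R) y, (GChart.comp T g).pi y) : PrimeSpectrum A × T)) := by
  let c := GChart.comp T g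
  have hc : Continuous (fun y : PrimeSpectrum c.R => (PrimeSpectrum.comap (algebraMap A c.R) y, c.pi y)) :=
    (PrimeSpectrum.continuous_comap _).prodMk c.continuous_pi
  refine ⟨⟨le_antisymm hc.le_induced ?_⟩, fun y y' h => ?_⟩
  · refine le_trans (le_generateFrom ?_) PrimeSpectrum.isTopologicalBasis_basic_opens.eq_generateFrom.ge
    rintro _ ⟨s, rfl⟩
    refine @isOpen_iff_forall_mem_open _ (TopologicalSpace.induced _ _) _ |>.2 fun Q hQ => ?_
    obtain ⟨t, P, rfl⟩ := c.exists_pt Q
    obtain ⟨W, hW, htW, a, f, hs⟩ := c.exists_nhd t s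
    have key : ∀ t' ∈ W, ∀ P' : PrimeSpectrum (c.St t'),
        (c.pt t' P' ∈ PrimeSpectrum.basicOpen s ↔ PrimeSpectrum.comap (algebraMap A c.R) (c.pt t' P') ∈ PrimeSpectrum.basicOpen a) := by
      intro t' ht' P'
      obtain ⟨hf, he⟩ := hs t' ht'
      rw [c.comap_pt]
      show c.ev t' s ∉ P'.asIdeal ↔ algebraMap A (c.St t') a ∉ P'.asIdeal
      rw [← he, Ideal.mul_unit_mem_iff_mem _ (c.isUnit_of_notMem t' hf)]
    refine ⟨(fun y : PrimeSpectrum c.R => ((PrimeSpectrum.comap (algebraMap A c.R) y, c.pi y) : PrimeSpectrum A × T)) ⁻¹'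
      ((PrimeSpectrum.basicOpen a : Set (PrimeSpectrum A)) ×ˢ W), ?_, isOpen_induced ((PrimeSpectrum.basicOpen a).2.prod hW.isOpen),
      ⟨(key t htW P).1 hQ, show c.pi (c.pt t P) ∈ W by rw [c.pi_pt]; exact htW⟩⟩
    rintro Q' ⟨h1, h2⟩
    obtain ⟨t', P', rfl⟩ := c.exists_pt Q'
    have h3 : c.pi (c.pt t' P') ∈ W := h2
    rw [c.pi_pt] at h3
    exact (key t' h3 P').2 h1
  · obtain ⟨t, P, rfl⟩ := c.exists_pt y
    obtain ⟨t', P', rfl⟩ := c.exists_pt y'
    have h2 : c.pi (c.pt t P) = c.pi (c.pt t' P') := congrArg Prod.snd h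
    rw [c.pi_pt, c.pi_pt] at h2
    obtain rfl := h2
    have h1 : PrimeSpectrum.comap (algebraMap A c.R) (c.pt t P) = PrimeSpectrum.comap (algebraMap A c.R) (c.pt t P') :=
      congrArg Prod.fst h
    rw [c.comap_pt, c.comap_pt] at h1
    rw [PrimeSpectrum.localization_comap_injective (c.St t) (c.M t) h1]

theorem range_comp :
    Set.range (fun y : PrimeSpectrum (GChart.comp T g).R =>
      ((PrimeSpectrum.comap (algebraMap A (GChart.comp T g).R) y, (GChart.comp T g).pi y) : PrimeSpectrum A × T)) =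
      {p : PrimeSpectrum A × T | _root_.ConnectedComponents.mk p.1 = g p.2} := by
  refine Set.ext fun p => ⟨?_, fun hp => ?_⟩
  · rintro ⟨y, rfl⟩
    obtain ⟨t, P, rfl⟩ := (GChart.comp T g).exists_pt y
    show _ = g ((GChart.comp T g).pi _)
    rw [GChart.pi_pt]
    exact mk_comap_pt t P
  · obtain ⟨P, hP⟩ := (range_comap_compM (g p.2)).ge hp
    exact ⟨(GChart.comp T g).pt p.2 P, Prod.ext (((GChart.comp T g).comap_pt _ P).trans hP) ((GChart.comp T g).pi_pt p.2 P)⟩

/-- The components of the spectrum. -/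
noncomputable def compHomeo : _root_.ConnectedComponents (PrimeSpectrum (GChart.comp T g).R) ≃ₜ T :=
  Continuous.homeoOfEquivCompactToT2
    (f := Equiv.ofBijective ((GChart.comp T g).continuous_pi.connectedComponentsLift :
        _root_.ConnectedComponents (PrimeSpectrum (GChart.comp T g).R) → T) ⟨fun x y h => by
      obtain ⟨y₁, rfl⟩ := ConnectedComponents.surjective_coe x
      obtain ⟨y₂, rfl⟩ := ConnectedComponents.surjective_coe y
      rw [Continuous.connectedComponentsLift_apply_coe, Continuous.connectedComponentsLift_apply_coe] at h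
      obtain ⟨t, P, rfl⟩ := (GChart.comp T g).exists_pt y₁
      obtain ⟨t', P', rfl⟩ := (GChart.comp T g).exists_pt y₂
      rw [GChart.pi_pt, GChart.pi_pt] at h
      obtain rfl := h
      exact ConnectedComponents.coe_eq_coe'.2 ((comp_fibre_preconnected t).subset_connectedComponent ⟨P', rfl⟩ ⟨P, rfl⟩),
      fun t => by
        obtain ⟨P⟩ := comp_fibre_nonempty (g := g) t
        exact ⟨_root_.ConnectedComponents.mk ((GChart.comp T g).pt t P), by
          rw [Continuous.connectedComponentsLift_apply_coe]; exact (GChart.comp T g).pi_pt t P⟩⟩)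
    (GChart.comp T g).continuous_pi.connectedComponentsLift_continuous

theorem compHomeo_mk (y : PrimeSpectrum (GChart.comp T g).R) :
    compHomeo (_root_.ConnectedComponents.mk y) = (GChart.comp T g).pi y :=
  (GChart.comp T g).continuous_pi.connectedComponentsLift_apply_coe y

theorem g_pi (y : PrimeSpectrum (GChart.comp T g).R) :
    g ((GChart.comp T g).pi y) = _root_.ConnectedComponents.mk (PrimeSpectrum.comap (algebraMap A (GChart.comp T g).R) y) := by
  obtain ⟨t, P, rfl⟩ := (GChart.comp T g).exists_pt y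
  rw [GChart.pi_pt]
  exact (mk_comap_pt t P).symm

theorem surjective_algebraMap_comp (hg : IsEmbedding g) : Function.Surjective (algebraMap A (GChart.comp T g).R) := by
  classical
  let c := GChart.comp T g
  have hind : ∀ (W : Set c.T) (hW : IsClopen W), c.ind W hW ∈ (algebraMap A c.R).range := by
    intro W hW
    obtain ⟨V, hV, hVW⟩ := hg.isInducing.isOpen_iff.1 hW.isOpen
    obtain ⟨V', hV', hVW'⟩ := hg.isInducing.isOpen_iff.1 hW.compl.isOpen
    have hclopen : ∃ e : A, IsIdempotentElem e ∧ ∀ t : c.T, t ∈ W ↔ e ∈ compM (g t) := by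
      have hK : IsCompact (g '' W) := hW.isClosed.isCompact.image g.continuous
      have hP : ∀ x ∈ g '' W, ∃ e : A, IsIdempotentElem e ∧ e ∈ compM x ∧ ∀ t : c.T, e ∈ compM (g t) → t ∈ W := by
        rintro x ⟨t₀, ht₀, rfl⟩
        by_contra hne
        push_neg at hne
        have hfip : (Wᶜ ∩ ⋂ e : {e : A // e ∈ compM (g t₀)}, {t : c.T | e.1 ∈ compM (g t)}).Nonempty := by
          refine hW.compl.isClosed.isCompact.inter_iInter_nonempty _ (fun e => ((isClopen_compSet e.2.1).preimage g.continuous).isClosed) fun s => ?_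
          obtain ⟨t, ht, htW⟩ := hne (∏ e ∈ s, e.1) (s.prod_induction _ IsIdempotentElem (fun _ _ => IsIdempotentElem.mul) IsIdempotentElem.one fun e _ => e.2.1)
            (prod_mem fun e _ => e.2)
          refine ⟨t, htW, Set.mem_iInter₂.2 fun e he => ⟨e.2.1, fun p hp h0 => ht.2 p hp ?_⟩⟩
          rw [← Finset.mul_prod_erase _ _ he]
          exact p.asIdeal.mul_mem_right _ h0
        obtain ⟨t, ht1, ht2⟩ := hfip
        rw [Set.mem_iInter] at ht2
        have : g t = g t₀ := by
          by_contra hne'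
          obtain ⟨p, hp⟩ := ConnectedComponents.surjective_coe (g t)
          obtain ⟨e, he, hep⟩ := exists_compM (x := g t₀) (p := p) (by rw [hp]; exact hne')
          exact (ht2 ⟨e, he⟩).2 p hp hep
        exact ht1 (hg.injective this ▸ ht₀)
      choose e he1 he2 he3 using hP
      obtain ⟨S, hS⟩ := hK.elim_finite_subcover (fun x : g '' W => {y | e x.1 x.2 ∈ compM y})
        (fun x => (isClopen_compSet (he1 x.1 x.2)).isOpen) fun x hx => Set.mem_iUnion.2 ⟨⟨x, hx⟩, he2 x hx⟩
      refine ⟨1 - ∏ x ∈ S, (1 - e x.1 x.2), (Finset.prod_induction _ IsIdempotentElem (fun _ _ => IsIdempotentElem.mul) IsIdempotentElem.one fun x _ => (he1 x.1 x.2).one_sub).one_sub, fun t => ⟨fun ht => ?_, fun ht => ?_⟩⟩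
      · obtain ⟨x, hx, hxt⟩ := Set.mem_iUnion₂.1 (hS ⟨t, ht, rfl⟩)
        refine ⟨(Finset.prod_induction _ IsIdempotentElem (fun _ _ => IsIdempotentElem.mul) IsIdempotentElem.one fun x _ => (he1 x.1 x.2).one_sub).one_sub, fun p hp h0 => hxt.2 p hp ?_⟩
        rw [show e x.1 x.2 = e x.1 x.2 * (1 - ∏ y ∈ S, (1 - e y.1 y.2)) by
          rw [← Finset.mul_prod_erase _ _ hx, mul_sub, mul_one, ← mul_assoc, mul_sub, mul_one, (he1 x.1 x.2).eq, sub_self, zero_mul, sub_zero]]
        exact p.asIdeal.mul_mem_left _ h0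
      · obtain ⟨p, hp⟩ := ConnectedComponents.surjective_coe (g t)
        have h1 : ∃ x ∈ S, e x.1 x.2 ∉ p.asIdeal := by
          by_contra h
          push_neg at h
          refine ht.2 p hp ?_
          rw [← Ideal.Quotient.eq_zero_iff_mem, map_sub, map_one, map_prod]
          rw [Finset.prod_eq_one fun x hx => by rw [map_sub, map_one, Ideal.Quotient.eq_zero_iff_mem.2 (h x hx), sub_zero], sub_self]
        obtain ⟨x, -, hxp⟩ := h1
        refine he3 x.1 x.2 t ⟨he1 x.1 x.2, fun q hq => ?_⟩
        exact (PrimeSpectrum.isClopen_iff.2 ⟨_, he1 x.1 x.2, rfl⟩ : IsClopen (PrimeSpectrum.basicOpen (e x.1 x.2) : Set (PrimeSpectrum A))).connectedComponent_subset hxp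
          (ConnectedComponents.coe_eq_coe'.1 (hq.trans hp.symm))
    obtain ⟨e, he, hew⟩ := hclopen
    refine ⟨e, c.ev_ext fun t => ?_⟩
    rw [AlgHom.commutes]
    by_cases ht : t ∈ W
    · rw [c.ev_ind_mem hW ht]
      have hu := c.isUnit_of_notMem t (show e ∈ c.M t from (hew t).1 ht)
      exact hu.mul_left_cancel (by rw [← map_mul, he.eq, mul_one])
    · rw [c.ev_ind_notMem hW ht, IsLocalization.map_eq_zero_iff (c.M t)]
      have h1 : (1 - e) ∈ c.M t := by
        refine ⟨he.one_sub, fun p hp h0 => ht ((hew t).2 ⟨he, fun q hq => ?_⟩)⟩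
        have hpe : e ∉ p.asIdeal := fun h1 => p.asIdeal.one_notMem (by simpa using p.asIdeal.add_mem h1 h0)
        exact (PrimeSpectrum.isClopen_iff.2 ⟨_, he, rfl⟩ : IsClopen (PrimeSpectrum.basicOpen e : Set (PrimeSpectrum A))).connectedComponent_subset hpe
          (ConnectedComponents.coe_eq_coe'.1 (hq.trans hp.symm))
      exact ⟨⟨1 - e, h1⟩, by rw [sub_mul, one_mul, he.eq, sub_self]⟩
  intro s
  choose W hW htW a f hs using fun t => c.exists_nhd t s
  obtain ⟨Q, sel, hsel⟩ := GIdx.exists_cover W hW htW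
  haveI : Fintype Q := Fintype.ofFinite _
  have hq : ∀ x : Q, IsClopen (Q.proj ⁻¹' {x}) := fun x => IsClopen.preimage ⟨isClosed_discrete _, isOpen_discrete _⟩ Q.proj_continuous
  have hmem : (∑ x : Q, c.ind _ (hq x) * algebraMap A c.R (a (sel x))) ∈ (algebraMap A c.R).range :=
    Subring.sum_mem _ fun x _ => Subring.mul_mem _ (hind _ (hq x)) ⟨_, rfl⟩
  suffices h : ∑ x : Q, c.ind _ (hq x) * algebraMap A c.R (a (sel x)) = s by
    rw [h] at hmem; exact hmem
  refine c.ev_ext fun t => ?_
  rw [map_sum, Finset.sum_eq_single (Q.proj t) (fun x _ hx => by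
      rw [map_mul, c.ev_ind_notMem (hq x) (fun h => hx h.symm), zero_mul]) (fun h => absurd (Finset.mem_univ _) h),
    map_mul, c.ev_ind_mem (hq (Q.proj t)) rfl, one_mul, AlgHom.commutes]
  obtain ⟨hf, he⟩ := hs _ t (hsel t)
  have hu := c.isUnit_of_notMem t hf
  have hidem : algebraMap A (c.St t) (f (sel (Q.proj t))) = 1 :=
    hu.mul_left_cancel (by rw [← map_mul, (show IsIdempotentElem (f (sel (Q.proj t))) from hf.1).eq, mul_one])
  rw [← he, hidem, mul_one]

end Groth.Agent.WLocalLib
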