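import Groth.Agent.WLocalLib.WContr
import Groth.Agent.S0736
import Mathlib.RingTheory.Flat.FaithfullyFlat.Algebra

/-! w-contractible algebras concentrated along a closed subset. -/

set_option autoImplicit false
set_option linter.style.haveILetI false
set_option backward.isDefEq.respectTransparency false
universe u

open PrimeSpectrum Topology

namespace Groth.Agent.WLocalLib

theorem exists_wContractible_along_of_wLocal (C : Type u) [CommRing C] (J : Ideal C) (hwC : ProEtW.IsWLocal (PrimeSpectrum C))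
    (hsh : ∀ (m : Ideal C) [m.IsMaximal], EtCoh.IsStrictlyHenselianLocalRing (Localization.AtPrime m)) :
    ∃ (D : Type u) (_ : CommRing D) (_ : Algebra C D), Algebra.WeaklyEtale C D ∧ EtPBC.IsWContractible D ∧
      (∀ M : Ideal D, M.IsMaximal → J.map (algebraMap C D) ≤ M) ∧
      ∀ p : Ideal C, p.IsPrime → J ≤ p → ∃ q : Ideal D, q.IsPrime ∧ q.comap (algebraMap C D) = p := by
  let c := wchart hwC
  let T₁ := {t : c.T // J ≤ (c.φ t).asIdeal}
  let g : WithTopology T₁ ⊥ → c.T := fun x => x.ofTopology.1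
  have hg : Continuous g := continuous_of_discreteTopology
  let h := stoneCechExtend hg
  haveI : ExtremallyDisconnected (StoneCech (WithTopology T₁ ⊥)) :=
    CompactT2.Projective.extremallyDisconnected StoneCech.projective
  let d := c.pull (StoneCech (WithTopology T₁ ⊥)) h (continuous_stoneCechExtend hg)
  have hmax : ∀ t : d.T, (d.φ t).asIdeal.IsMaximal := fun t => isMaximal_of_closedPoint (h t).2
  have hJ : ∀ t : d.T, J ≤ (d.φ t).asIdeal := fun t => by
    show J ≤ (h t).1.asIdeal
    have hclosed : IsClosed {z : c.T | J ≤ z.1.asIdeal} :=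
      (isClosed_zeroLocus (R := C) (J : Set C)).preimage continuous_subtype_val
    have : Set.range h ⊆ {z : c.T | J ≤ z.1.asIdeal} := by
      rintro _ ⟨y, rfl⟩
      refine (denseRange_stoneCechUnit (α := WithTopology T₁ ⊥)).induction_on y
        (hclosed.preimage (continuous_stoneCechExtend hg)) fun x => ?_
      show J ≤ (h (stoneCechUnit x)).1.asIdeal
      rw [show h (stoneCechUnit x) = g x from stoneCechExtend_stoneCechUnit hg _]
      exact x.ofTopology.2
    exact this ⟨t, rfl⟩
  have hind := isIndEtale_of_isIndZariski d.isIndZariski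
  haveI hwe : Algebra.WeaklyEtale C d.R := weaklyEtale_of_isIndZariski d.isIndZariski
  have hover : ∀ M : Ideal d.R, M.IsMaximal → ∃ t, M.comap (algebraMap C d.R) = (d.φ t).asIdeal := fun M hM => by
    obtain ⟨t, ht⟩ := d.eq_cl_of_isMax (Q := ⟨M, hM.isPrime⟩) hM
    exact ⟨t, (congrArg (fun Q => (PrimeSpectrum.comap (algebraMap C d.R) Q).asIdeal) ht).trans
      (congrArg PrimeSpectrum.asIdeal (d.comap_cl t))⟩
  refine ⟨d.R, inferInstance, inferInstance, hwe, ?_, fun M hM => ?_, fun p hp hJp => ?_⟩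
  · haveI : ExtremallyDisconnected d.T := ‹ExtremallyDisconnected (StoneCech (WithTopology T₁ ⊥))›
    refine isWContractible_of_wLocal d.isWLocal (extremallyDisconnected_of_homeo d.componentsHomeo.symm) fun M hM => ?_
    obtain ⟨t, ht⟩ := hover M hM
    haveI : (M.comap (algebraMap C d.R)).IsMaximal := by rw [ht]; exact hmax t
    exact isStrictlyHenselian_of_ringEquiv (RingEquiv.ofBijective _ (d.identifies ⟨M, hM.isPrime⟩)) (hsh _)
  · obtain ⟨t, ht⟩ := hover M hM
    exact Ideal.map_le_iff_le_comap.2 (ht ▸ hJ t)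
  · obtain ⟨m, hm, hpm⟩ := Ideal.exists_le_maximal p hp.ne_top
    let t₁ : T₁ := ⟨⟨⟨m, hm.isPrime⟩, (isMaximal_iff_closed _).2 hm⟩, hJp.trans hpm⟩
    have hc := congrArg PrimeSpectrum.asIdeal (d.comap_cl (stoneCechUnit (WithTopology.toTopology _ t₁)))
    have hφ : (d.φ (stoneCechUnit (WithTopology.toTopology _ t₁))).asIdeal = m := by
      show (h (stoneCechUnit (WithTopology.toTopology _ t₁))).1.asIdeal = m
      rw [show h (stoneCechUnit (WithTopology.toTopology _ t₁)) = t₁.1 from stoneCechExtend_stoneCechUnit hg _]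
    obtain ⟨Q, -, hQ⟩ := exists_le_comap_eq d.identifies (d.cl (stoneCechUnit (WithTopology.toTopology _ t₁))) ⟨p, hp⟩
      (show p ≤ (PrimeSpectrum.comap (algebraMap C d.R) (d.cl _)).asIdeal by rw [hc, hφ]; exact hpm)
    exact ⟨Q.asIdeal, Q.2, congrArg PrimeSpectrum.asIdeal hQ⟩

/-- Every ring has a weakly étale w-contractible algebra all whose closed points lie over `V(J)` and covering `V(J)`. -/
theorem exists_wContractible_along (A : Type u) [CommRing A] (J : Ideal A) :
    ∃ (D : Type u) (_ : CommRing D) (_ : Algebra A D), Algebra.WeaklyEtale A D ∧ EtPBC.IsWContractible D ∧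
      (∀ M : Ideal D, M.IsMaximal → J.map (algebraMap A D) ≤ M) ∧
      ∀ p : Ideal A, p.IsPrime → J ≤ p → ∃ q : Ideal D, q.IsPrime ∧ q.comap (algebraMap A D) = p := by
  obtain ⟨C, _, _, hff, hind, hwC, -, hsh⟩ := exists_shCover A
  obtain ⟨D, _, _, hwe, hwc, hcl, hsurj⟩ :=
    exists_wContractible_along_of_wLocal C (J.map (algebraMap A C)) hwC hsh
  letI : Algebra A D := ((algebraMap C D).comp (algebraMap A C)).toAlgebra
  haveI : IsScalarTower A C D := IsScalarTower.of_algebraMap_eq fun _ => rfl
  haveI := Groth.Agent.S0736.result A C hind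
  refine ⟨D, inferInstance, inferInstance, Algebra.WeaklyEtale.trans A C D, hwc, fun M hM => ?_, fun p hp hJp => ?_⟩
  · rw [IsScalarTower.algebraMap_eq A C D, ← Ideal.map_map]
    exact hcl M hM
  · haveI := hff
    obtain ⟨P, hP⟩ := PrimeSpectrum.comap_surjective_of_faithfullyFlat (A := A) (B := C) ⟨p, hp⟩
    have hPp : P.asIdeal.comap (algebraMap A C) = p := congrArg PrimeSpectrum.asIdeal hP
    obtain ⟨q, hq, hqP⟩ := hsurj P.asIdeal P.2 (Ideal.map_le_iff_le_comap.2 (hJp.trans hPp.ge))
    exact ⟨q, hq, by rw [IsScalarTower.algebraMap_eq A C D, ← Ideal.comap_comap, hqP, hPp]⟩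

end Groth.Agent.WLocalLib
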