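import Groth.Agent.WLocalLib.Core

/-! General facts: algebras identifying local rings, standard charts, w-local rings, functoriality. -/

set_option autoImplicit false
set_option linter.style.haveILetI false
universe u

open Topology PrimeSpectrum

namespace Groth.Agent.WLocalLib

theorem exists_fraction {A B : Type u} [CommRing A] [CommRing B] [Algebra A B]
    (h : EtPBC.IdentifiesLocalRings A B) (Q : PrimeSpectrum B) (b : B) :
    ∃ a f : A, f ∉ Q.asIdeal.comap (algebraMap A B) ∧ ∃ e ∉ Q.asIdeal, e * (b * algebraMap A B f) = e * algebraMap A B a := by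
  obtain ⟨x, hx⟩ := (h Q).2 (algebraMap B (Localization.AtPrime Q.asIdeal) b)
  obtain ⟨a, ⟨f, hf⟩, rfl⟩ := IsLocalization.exists_mk'_eq (Q.asIdeal.comap (algebraMap A B)).primeCompl x
  rw [Localization.localRingHom_mk', IsLocalization.mk'_eq_iff_eq_mul, ← map_mul,
    IsLocalization.eq_iff_exists Q.asIdeal.primeCompl] at hx
  obtain ⟨⟨e, he⟩, hee⟩ := hx
  exact ⟨a, f, hf, e, he, hee.symm⟩

theorem exists_mul_eq_zero {A B : Type u} [CommRing A] [CommRing B] [Algebra A B]
    (h : EtPBC.IdentifiesLocalRings A B) (Q : PrimeSpectrum B) (a : A) {e : B} (he : e ∉ Q.asIdeal)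
    (ha : e * algebraMap A B a = 0) : ∃ f ∉ Q.asIdeal.comap (algebraMap A B), f * a = 0 := by
  have h1 : Localization.localRingHom _ Q.asIdeal (algebraMap A B) rfl
      (algebraMap A (Localization.AtPrime (Q.asIdeal.comap (algebraMap A B))) a) = 0 := by
    rw [Localization.localRingHom_to_map, IsLocalization.map_eq_zero_iff Q.asIdeal.primeCompl]
    exact ⟨⟨e, he⟩, ha⟩
  have h2 := (injective_iff_map_eq_zero _).1 (h Q).1 _ h1
  obtain ⟨⟨f, hf⟩, hfa⟩ := (IsLocalization.map_eq_zero_iff (Q.asIdeal.comap (algebraMap A B)).primeCompl _ a).1 h2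
  exact ⟨f, hf, hfa⟩

/-- Going down along an algebra identifying local rings. -/
theorem exists_le_comap_eq {A B : Type u} [CommRing A] [CommRing B] [Algebra A B]
    (h : EtPBC.IdentifiesLocalRings A B) (Q : PrimeSpectrum B) (p : PrimeSpectrum A)
    (hp : p ≤ PrimeSpectrum.comap (algebraMap A B) Q) :
    ∃ Q' ≤ Q, PrimeSpectrum.comap (algebraMap A B) Q' = p := by
  let p₀ := Q.asIdeal.comap (algebraMap A B)
  let Ap := Localization.AtPrime p₀
  let BQ := Localization.AtPrime Q.asIdeal
  let e : Ap ≃+* BQ := RingEquiv.ofBijective _ (h Q)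
  obtain ⟨P, hP⟩ : ∃ P : PrimeSpectrum Ap, PrimeSpectrum.comap (algebraMap A Ap) P = p := by
    have : p ∈ Set.range (PrimeSpectrum.comap (algebraMap A Ap)) := by
      rw [PrimeSpectrum.localization_comap_range Ap p₀.primeCompl]
      exact Set.disjoint_left.2 fun x hx hxp => hx (hp hxp)
    exact this
  let Q₁ : PrimeSpectrum BQ := PrimeSpectrum.comap e.symm.toRingHom P
  refine ⟨PrimeSpectrum.comap (algebraMap B BQ) Q₁, ?_, ?_⟩
  · intro x hx
    by_contra hxQ
    exact Q₁.2.ne_top (Ideal.eq_top_of_isUnit_mem _ hx (IsLocalization.map_units BQ (⟨x, hxQ⟩ : Q.asIdeal.primeCompl)))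
  · rw [← hP]
    refine PrimeSpectrum.ext (Ideal.ext fun a => ?_)
    show e.symm (algebraMap B BQ (algebraMap A B a)) ∈ P.asIdeal ↔ algebraMap A Ap a ∈ P.asIdeal
    rw [show algebraMap B BQ (algebraMap A B a) = e (algebraMap A Ap a) from
      (Localization.localRingHom_to_map p₀ Q.asIdeal (algebraMap A B) rfl a).symm, e.symm_apply_apply]

theorem bijective_of_bijective_comap {A B : Type u} [CommRing A] [CommRing B] [Algebra A B]
    (h : EtPBC.IdentifiesLocalRings A B) (hb : Function.Bijective (PrimeSpectrum.comap (algebraMap A B))) :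
    Function.Bijective (algebraMap A B) := by
  refine ⟨(injective_iff_map_eq_zero _).2 fun a ha => ?_, fun b => ?_⟩
  · by_contra hne
    obtain ⟨m, hm, hle⟩ := Ideal.exists_le_maximal (Submodule.colon (⊥ : Ideal A) ({a} : Set A)) (fun htop => hne (by
      have h1 : (1 : A) ∈ Submodule.colon (⊥ : Ideal A) ({a} : Set A) := htop ▸ trivial
      rw [Submodule.mem_colon_singleton, one_smul] at h1; exact h1))
    obtain ⟨Q, hQ⟩ := hb.2 ⟨m, hm.isPrime⟩
    obtain ⟨f, hf, hfa⟩ := exists_mul_eq_zero h Q a Q.asIdeal.one_notMem (by rw [ha, mul_zero])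
    rw [show Q.asIdeal.comap (algebraMap A B) = m from congrArg PrimeSpectrum.asIdeal hQ] at hf
    exact hf (hle (by rw [Submodule.mem_colon_singleton, smul_eq_mul, hfa]; exact Submodule.zero_mem _))
  · let J : Ideal A :=
      { carrier := {x | ∃ a, b * algebraMap A B x = algebraMap A B a}
        add_mem' := fun {x y} ⟨a, ha⟩ ⟨a', ha'⟩ => ⟨a + a', by rw [map_add, mul_add, ha, ha', map_add]⟩
        zero_mem' := ⟨0, by simp⟩
        smul_mem' := fun r x ⟨a, ha⟩ => ⟨r * a, by rw [smul_eq_mul, map_mul, map_mul, mul_left_comm, ha]⟩ }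
    by_cases hJ : J = ⊤
    · obtain ⟨a, ha⟩ : (1 : A) ∈ J := hJ ▸ trivial
      exact ⟨a, by rw [← ha, map_one, mul_one]⟩
    exfalso
    obtain ⟨m, hm, hle⟩ := Ideal.exists_le_maximal J hJ
    obtain ⟨Q, hQ⟩ := hb.2 ⟨m, hm.isPrime⟩
    have hQm : Q.asIdeal.comap (algebraMap A B) = m := congrArg PrimeSpectrum.asIdeal hQ
    obtain ⟨a, f, hf, e, he, heq⟩ := exists_fraction h Q b
    rw [hQm] at hf
    let d := b * algebraMap A B f - algebraMap A B a
    have hS : ∃ g ∉ m, algebraMap A B g * d = 0 := by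
      by_contra hne
      let S : Submonoid B := Submonoid.map (algebraMap A B) m.primeCompl
      obtain ⟨Q', hQ', hle', hdisj⟩ := Ideal.exists_le_prime_disjoint (Submodule.colon (⊥ : Ideal B) ({d} : Set B)) S (by
        rw [Set.disjoint_left]
        rintro x hx ⟨g, hg, rfl⟩
        rw [SetLike.mem_coe, Submodule.mem_colon_singleton, Submodule.mem_bot] at hx
        exact hne ⟨g, hg, hx⟩)
      have hcm : PrimeSpectrum.comap (algebraMap A B) ⟨Q', hQ'⟩ ≤ PrimeSpectrum.comap (algebraMap A B) Q := by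
        intro x hx
        show x ∈ Q.asIdeal.comap (algebraMap A B)
        rw [hQm]
        by_contra hxm
        exact Set.disjoint_left.1 hdisj hx ⟨x, hxm, rfl⟩
      obtain ⟨Q'', hQ'', hQ''e⟩ := exists_le_comap_eq h Q _ hcm
      obtain rfl : Q'' = ⟨Q', hQ'⟩ := hb.1 hQ''e
      exact he (hQ'' (hle' (by rw [Submodule.mem_colon_singleton, Submodule.mem_bot, smul_eq_mul, mul_sub, heq, sub_self])))
    obtain ⟨g, hg, hgd⟩ := hS
    exact hm.isPrime.mul_notMem hg hf (hle ⟨g * a, by
      rw [map_mul, map_mul]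
      linear_combination hgd⟩)

theorem flat_of_identifies {A B : Type u} [CommRing A] [CommRing B] [Algebra A B]
    (h : EtPBC.IdentifiesLocalRings A B) : Module.Flat A B := by
  refine Module.flat_of_isLocalized_maximal B B
    (fun P _ => Localization.AtPrime P) (fun P _ => Algebra.linearMap B (Localization.AtPrime P)) fun P hP => ?_
  let Q : PrimeSpectrum B := ⟨P, hP.isPrime⟩
  let p := Q.asIdeal.comap (algebraMap A B)
  letI : Algebra (Localization.AtPrime p) (Localization.AtPrime Q.asIdeal) :=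
    (Localization.localRingHom p Q.asIdeal (algebraMap A B) rfl).toAlgebra
  haveI : IsScalarTower A (Localization.AtPrime p) (Localization.AtPrime Q.asIdeal) :=
    IsScalarTower.of_algebraMap_eq fun a => by
      rw [RingHom.algebraMap_toAlgebra, Localization.localRingHom_to_map]
      exact IsScalarTower.algebraMap_apply A B _ a
  haveI : Module.Flat A (Localization.AtPrime p) := IsLocalization.flat _ p.primeCompl
  haveI : Module.Flat (Localization.AtPrime p) (Localization.AtPrime Q.asIdeal) :=
    Module.Flat.of_linearEquiv (LinearEquiv.ofBijective (Algebra.linearMap (Localization.AtPrime p) (Localization.AtPrime Q.asIdeal)) (h Q)).symm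
  exact Module.Flat.trans A (Localization.AtPrime p) (Localization.AtPrime Q.asIdeal)

theorem isMaximal_iff_closed {A : Type u} [CommRing A] (x : PrimeSpectrum A) :
    x ∈ ProEtW.closedPoints (PrimeSpectrum A) ↔ x.asIdeal.IsMaximal :=
  PrimeSpectrum.isClosed_singleton_iff_isMaximal x

section charts

variable {A : Type u} [CommRing A]

theorem isOpen_V_closed (Z : Set (PrimeSpectrum A)) (hZ : IsClosed Z) (hmax : ∀ z ∈ Z, z.asIdeal.IsMaximal) (a : A) :
    IsOpen {z : Z | a ∈ z.1.asIdeal} := by
  rw [isOpen_iff_mem_nhds]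
  intro z hz
  let I := PrimeSpectrum.vanishingIdeal Z
  have hIrad : I.IsRadical := by
    intro x hx
    rw [PrimeSpectrum.mem_vanishingIdeal]
    obtain ⟨n, hn⟩ := hx
    intro w hw
    exact w.2.mem_of_pow_mem n ((PrimeSpectrum.mem_vanishingIdeal _ _).1 hn w hw)
  have hmin : z.1.asIdeal ∈ I.minimalPrimes := by
    refine ⟨⟨z.1.2, fun x hx => (PrimeSpectrum.mem_vanishingIdeal _ _).1 hx z.1 z.2⟩, fun P ⟨hP, hIP⟩ hle => ?_⟩
    have hPZ : (⟨P, hP⟩ : PrimeSpectrum A) ∈ Z := by
      rw [← hZ.closure_eq, ← PrimeSpectrum.zeroLocus_vanishingIdeal_eq_closure]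
      exact hIP
    exact ((hmax _ hPZ).eq_of_le z.1.2.ne_top hle).ge
  obtain ⟨g, hg, hga⟩ : ∃ g ∉ z.1.asIdeal, a * g ∈ I := by
    by_contra hne
    let S : Submonoid A :=
      { carrier := {x | ∃ n : ℕ, ∃ g ∉ z.1.asIdeal, x = a ^ n * g}
        one_mem' := ⟨0, 1, z.1.asIdeal.one_notMem, by simp⟩
        mul_mem' := fun {x y} ⟨n, g, hg, hx⟩ ⟨m, g', hg', hy⟩ =>
          ⟨n + m, g * g', z.1.2.mul_notMem hg hg', by rw [hx, hy, pow_add]; ring⟩ }
    obtain ⟨P, hP, hIP, hdisj⟩ := Ideal.exists_le_prime_disjoint I S (by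
      rw [Set.disjoint_left]
      rintro x hxI ⟨n, g, hg, rfl⟩
      exact hne ⟨g, hg, hIrad ⟨n + 1, by
        rw [mul_pow, show a ^ (n + 1) * g ^ (n + 1) = a ^ n * g * (a * g ^ n) by ring]
        exact I.mul_mem_right _ hxI⟩⟩)
    have hPz : P ≤ z.1.asIdeal := fun x hx => by
      by_contra hxz
      exact Set.disjoint_left.1 hdisj hx ⟨0, x, hxz, by simp⟩
    exact Set.disjoint_left.1 hdisj (hmin.2 ⟨hP, hIP⟩ hPz hz) ⟨1, 1, z.1.asIdeal.one_notMem, by simp⟩
  refine Filter.mem_of_superset (((PrimeSpectrum.basicOpen g).2.preimage continuous_subtype_val).mem_nhds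
    (show g ∉ z.1.asIdeal from hg)) fun w hw => ?_
  exact (w.1.2.mem_or_mem ((PrimeSpectrum.mem_vanishingIdeal _ _).1 hga w.1 w.2)).resolve_right hw

/-- The chart of a closed set of closed points. -/
def Chart.ofClosed (Z : Set (PrimeSpectrum A)) (hZ : IsClosed Z) (hmax : ∀ z ∈ Z, z.asIdeal.IsMaximal) : Chart A where
  T := Z
  top := inferInstance
  cpt := isCompact_iff_compactSpace.1 hZ.isCompact
  t2 := ⟨fun x y hxy => by
    have : ∃ a, a ∈ x.1.asIdeal ∧ a ∉ y.1.asIdeal := by
      by_contra h
      push_neg at h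
      exact hxy (Subtype.ext (PrimeSpectrum.ext ((hmax _ x.2).eq_of_le y.1.2.ne_top h)))
    obtain ⟨a, hax, hay⟩ := this
    exact ⟨_, _, isOpen_V_closed Z hZ hmax a, (PrimeSpectrum.basicOpen a).2.preimage continuous_subtype_val, hax, hay,
      Set.disjoint_left.2 fun w h1 h2 => h2 h1⟩⟩
  tdc := by
    haveI : TotallySeparatedSpace Z := totallySeparatedSpace_iff_exists_isClopen.2 fun x y hxy => by
      have : ∃ a, a ∈ x.1.asIdeal ∧ a ∉ y.1.asIdeal := by
        by_contra h
        push_neg at h
        exact hxy (Subtype.ext (PrimeSpectrum.ext ((hmax _ x.2).eq_of_le y.1.2.ne_top h)))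
      obtain ⟨a, hax, hay⟩ := this
      refine ⟨{w : Z | a ∈ w.1.asIdeal}, ⟨?_, isOpen_V_closed Z hZ hmax a⟩, hax, hay⟩
      exact (PrimeSpectrum.isClosed_zeroLocus ({a} : Set A)).preimage continuous_subtype_val |> fun h => by
        convert h using 1
        ext w; simp [PrimeSpectrum.mem_zeroLocus]
    infer_instance
  φ z := z.1
  isClopen_D a := ⟨by
    have := (isOpen_V_closed Z hZ hmax a).isClosed_compl
    convert this using 1
    ext w; rfl, (PrimeSpectrum.basicOpen a).2.preimage continuous_subtype_val⟩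

theorem isClopen_D_cons (a : A) : IsClopen {x : WithConstructibleTopology (PrimeSpectrum A) | a ∉ x.ofTopology.asIdeal} := by
  have hD : IsCompact (PrimeSpectrum.basicOpen a : Set (PrimeSpectrum A)) := PrimeSpectrum.isCompact_basicOpen a
  refine ⟨?_, ?_⟩
  · refine isOpen_compl_iff.1 (WithConstructibleTopology.isOpen_iff.2 ?_)
    refine IsCompact.isOpen_constructibleTopology_of_isClosed (s := (PrimeSpectrum.basicOpen a : Set (PrimeSpectrum A))ᶜ) ?_ (PrimeSpectrum.basicOpen a).2.isClosed_compl
    rwa [compl_compl]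
  · exact WithConstructibleTopology.isOpen_iff.2 (IsCompact.isOpen_constructibleTopology_of_isOpen hD (PrimeSpectrum.basicOpen a).2)

/-- The chart of all points with the constructible topology. -/
noncomputable def Chart.cons (A : Type u) [CommRing A] : Chart A where
  T := WithConstructibleTopology (PrimeSpectrum A)
  top := inferInstance
  cpt := inferInstance
  t2 := ⟨fun x y hxy => by
    have : ∃ a, ¬ (a ∈ x.ofTopology.asIdeal ↔ a ∈ y.ofTopology.asIdeal) := by
      by_contra h
      push_neg at h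
      exact hxy (WithTopology.ofTopology_injective _ (PrimeSpectrum.ext (Ideal.ext h)))
    obtain ⟨a, ha⟩ := this
    have h1 := isClopen_D_cons a
    by_cases hx : a ∈ x.ofTopology.asIdeal
    · exact ⟨_, _, h1.compl.2, h1.2, fun h => h hx, fun h => ha (iff_of_true hx h), Set.disjoint_left.2 fun w h h' => h h'⟩
    · exact ⟨_, _, h1.2, h1.compl.2, hx, fun h => ha (iff_of_false hx h), Set.disjoint_left.2 fun w h h' => h' h⟩⟩
  tdc := by
    haveI : TotallySeparatedSpace (WithConstructibleTopology (PrimeSpectrum A)) :=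
      totallySeparatedSpace_iff_exists_isClopen.2 fun x y hxy => by
        have : ∃ a, ¬ (a ∈ x.ofTopology.asIdeal ↔ a ∈ y.ofTopology.asIdeal) := by
          by_contra h
          push_neg at h
          exact hxy (WithTopology.ofTopology_injective _ (PrimeSpectrum.ext (Ideal.ext h)))
        obtain ⟨a, ha⟩ := this
        by_cases hx : a ∈ x.ofTopology.asIdeal
        · exact ⟨_, (isClopen_D_cons a).compl, fun h => h hx, fun h => h fun h' => ha (iff_of_true hx h')⟩
        · exact ⟨_, isClopen_D_cons a, hx, fun h => ha (iff_of_false hx h)⟩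
    infer_instance
  φ x := x.ofTopology
  isClopen_D := isClopen_D_cons

theorem Chart.comap_surjective_cons : Function.Surjective (PrimeSpectrum.comap (algebraMap A (Chart.cons A).R)) :=
  fun x => ⟨_, (Chart.cons A).comap_cl (WithTopology.toTopology _ x)⟩

/-- The chart pulled back along a continuous map. -/
def Chart.pull (c : Chart A) (T' : Type u) [TopologicalSpace T'] [CompactSpace T'] [T2Space T']
    [TotallyDisconnectedSpace T'] (h : T' → c.T) (hc : Continuous h) : Chart A where
  T := T'
  top := inferInstance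
  cpt := inferInstance
  t2 := inferInstance
  tdc := inferInstance
  φ := c.φ ∘ h
  isClopen_D a := (c.isClopen_D a).preimage hc

theorem Chart.faithfullyFlat (c : Chart A) (h : ∀ m : Ideal A, m.IsMaximal → ∃ t, (c.φ t).asIdeal = m) :
    Module.FaithfullyFlat A c.R := by
  haveI := flat_of_identifies c.identifies
  refine Module.FaithfullyFlat.of_comap_surjective fun p => ?_
  obtain ⟨m, hm, hpm⟩ := Ideal.exists_le_maximal p.asIdeal p.2.ne_top
  obtain ⟨t, ht⟩ := h m hm
  obtain ⟨Q, -, hQ⟩ := exists_le_comap_eq c.identifies (c.cl t) p (by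
    rw [c.comap_cl t]
    show p.asIdeal ≤ _
    rw [ht]; exact hpm)
  exact ⟨Q, hQ⟩

end charts

section maps

variable {A B : Type u} [CommRing A] [CommRing B] [Algebra A B] {c : Chart A} {d : Chart B}
  (h : d.T → c.T) (hc : Continuous h) (hh : ∀ t, PrimeSpectrum.comap (algebraMap A B) (d.φ t) = c.φ (h t))

/-- The map of stalks over a map of charts. -/
noncomputable def stMap (t : d.T) : c.St (h t) →+* d.St t :=
  Localization.localRingHom (c.φ (h t)).asIdeal (d.φ t).asIdeal (algebraMap A B)
    ((congrArg PrimeSpectrum.asIdeal (hh t)).symm.trans rfl : (c.φ (h t)).asIdeal = Ideal.comap (algebraMap A B) (d.φ t).asIdeal)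

theorem stMap_algebraMap (t : d.T) (a : A) :
    stMap h hh t (algebraMap A (c.St (h t)) a) = algebraMap B (d.St t) (algebraMap A B a) :=
  Localization.localRingHom_to_map _ _ _ _ a

theorem isLocalHom_stMap (t : d.T) : IsLocalHom (stMap h hh t) :=
  Localization.isLocalHom_localRingHom _ _ _ _

/-- The map of rings over a map of charts. -/
noncomputable def Chart.map : c.R →ₐ[A] d.R where
  toFun s := ⟨fun t => stMap h hh t (c.ev (h t) s), fun t => by
    obtain ⟨W, hW, htW, a, f, hs⟩ := c.exists_nhd (h t) s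
    refine ⟨h ⁻¹' W, hW.preimage hc, htW, algebraMap A B a, algebraMap A B f, fun t' ht' => ?_⟩
    obtain ⟨h1, h2⟩ := hs (h t') ht'
    refine ⟨fun hm => h1 ?_, ?_⟩
    · rw [← hh t']; exact hm
    · have := congrArg (stMap h hh t') h2
      rw [map_mul, stMap_algebraMap, stMap_algebraMap] at this
      exact this⟩
  map_one' := Subtype.ext (funext fun t => map_one (stMap h hh t))
  map_mul' s s' := Subtype.ext (funext fun t => map_mul (stMap h hh t) _ _)
  map_zero' := Subtype.ext (funext fun t => map_zero (stMap h hh t))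
  map_add' s s' := Subtype.ext (funext fun t => map_add (stMap h hh t) _ _)
  commutes' a := Subtype.ext (funext fun t => by
    show stMap h hh t (algebraMap A (c.St (h t)) a) = algebraMap A (d.St t) a
    rw [stMap_algebraMap]
    exact (IsScalarTower.algebraMap_apply A B (d.St t) a).symm)

theorem Chart.ev_map (t : d.T) (s : c.R) : d.ev t (Chart.map h hc hh s) = stMap h hh t (c.ev (h t) s) := rfl

theorem Chart.comap_map_cl (t : d.T) : PrimeSpectrum.comap (Chart.map h hc hh).toRingHom (d.cl t) = c.cl (h t) := by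
  refine PrimeSpectrum.ext (Ideal.ext fun s => ?_)
  show stMap h hh t (c.ev (h t) s) ∈ IsLocalRing.maximalIdeal (d.St t) ↔ c.ev (h t) s ∈ IsLocalRing.maximalIdeal (c.St (h t))
  haveI : IsLocalHom (stMap h hh t) := isLocalHom_stMap h hh t
  exact (not_iff_not.2 (isUnit_map_iff (stMap h hh t) _))

end maps

end Groth.Agent.WLocalLib
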