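import Mathlib
import Groth.Prelude.Def_ProEtW

/-! Rings of locally fractional sections over a profinite space mapping to a spectrum. -/

set_option autoImplicit false
set_option linter.style.haveILetI false
universe u

open Topology PrimeSpectrum

namespace Groth.Agent.WLocalLib

/-- A map from a profinite space to a spectrum, continuous for the constructible topology. -/
structure Chart (A : Type u) [CommRing A] where
  T : Type u
  top : TopologicalSpace T
  cpt : CompactSpace T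
  t2 : T2Space T
  tdc : TotallyDisconnectedSpace T
  φ : T → PrimeSpectrum A
  isClopen_D : ∀ a : A, IsClopen {t | a ∉ (φ t).asIdeal}

variable {A : Type u} [CommRing A] (c : Chart A)

instance : TopologicalSpace c.T := c.top
instance : CompactSpace c.T := c.cpt
instance : T2Space c.T := c.t2
instance : TotallyDisconnectedSpace c.T := c.tdc

theorem Chart.isClopen_V (a : A) : IsClopen {t | a ∈ (c.φ t).asIdeal} := by
  have h : {t | a ∈ (c.φ t).asIdeal} = {t | a ∉ (c.φ t).asIdeal}ᶜ := by ext t; simp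
  rw [h]
  exact (c.isClopen_D a).compl

/-- The stalk at a point. -/
abbrev Chart.St (t : c.T) : Type u := Localization.AtPrime (c.φ t).asIdeal

/-- Being locally a fraction. -/
def Chart.IsLocFrac (s : ∀ t, c.St t) : Prop :=
  ∀ t, ∃ W : Set c.T, IsClopen W ∧ t ∈ W ∧ ∃ a f : A, ∀ t' ∈ W, f ∉ (c.φ t').asIdeal ∧
    s t' * algebraMap A (c.St t') f = algebraMap A (c.St t') a

/-- The ring of locally fractional sections. -/
def Chart.sections : Subalgebra A (∀ t, c.St t) where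
  carrier := {s | c.IsLocFrac s}
  mul_mem' {s s'} hs hs' t := by
    obtain ⟨W, hW, htW, a, f, h⟩ := hs t
    obtain ⟨W', hW', htW', a', f', h'⟩ := hs' t
    refine ⟨W ∩ W', hW.inter hW', ⟨htW, htW'⟩, a * a', f * f', fun t' ht' => ?_⟩
    obtain ⟨h1, h2⟩ := h t' ht'.1
    obtain ⟨h1', h2'⟩ := h' t' ht'.2
    refine ⟨(c.φ t').2.mul_notMem h1 h1', ?_⟩
    rw [Pi.mul_apply, map_mul, map_mul, ← h2, ← h2']
    ring
  add_mem' {s s'} hs hs' t := by
    obtain ⟨W, hW, htW, a, f, h⟩ := hs t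
    obtain ⟨W', hW', htW', a', f', h'⟩ := hs' t
    refine ⟨W ∩ W', hW.inter hW', ⟨htW, htW'⟩, a * f' + a' * f, f * f', fun t' ht' => ?_⟩
    obtain ⟨h1, h2⟩ := h t' ht'.1
    obtain ⟨h1', h2'⟩ := h' t' ht'.2
    refine ⟨(c.φ t').2.mul_notMem h1 h1', ?_⟩
    rw [Pi.add_apply, map_mul, map_add, map_mul, map_mul, ← h2, ← h2']
    ring
  algebraMap_mem' r t :=
    ⟨Set.univ, isClopen_univ, trivial, r, 1, fun t' _ =>
      ⟨(c.φ t').asIdeal.one_notMem, by rw [map_one, mul_one]; rfl⟩⟩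

/-- The ring attached to a chart. -/
abbrev Chart.R : Type u := c.sections

/-- Evaluation at a point. -/
def Chart.ev (t : c.T) : c.R →ₐ[A] c.St t := (Pi.evalAlgHom A c.St t).comp c.sections.val

theorem Chart.ev_ext {s s' : c.R} (h : ∀ t, c.ev t s = c.ev t s') : s = s' :=
  Subtype.ext (funext h)

theorem Chart.isUnit_of_notMem (t : c.T) {f : A} (hf : f ∉ (c.φ t).asIdeal) : IsUnit (algebraMap A (c.St t) f) :=
  IsLocalization.map_units (c.St t) (⟨f, hf⟩ : (c.φ t).asIdeal.primeCompl)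

open scoped Classical in
/-- The indicator of a clopen set. -/
noncomputable def Chart.ind (W : Set c.T) (hW : IsClopen W) : c.R :=
  ⟨fun t => if t ∈ W then 1 else 0, fun t => by
    by_cases h : t ∈ W
    · exact ⟨W, hW, h, 1, 1, fun t' ht' => ⟨(c.φ t').asIdeal.one_notMem, by simp [ht']⟩⟩
    · exact ⟨Wᶜ, hW.compl, h, 0, 1, fun t' ht' => ⟨(c.φ t').asIdeal.one_notMem, by
        have : t' ∉ W := ht'
        simp [this]⟩⟩⟩

theorem Chart.ev_ind_mem {W : Set c.T} (hW : IsClopen W) {t : c.T} (h : t ∈ W) : c.ev t (c.ind W hW) = 1 :=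
  if_pos h

theorem Chart.ev_ind_notMem {W : Set c.T} (hW : IsClopen W) {t : c.T} (h : t ∉ W) : c.ev t (c.ind W hW) = 0 :=
  if_neg h

/-- An element times an indicator of a clopen set is determined on that set. -/
theorem Chart.ind_mul_ext {W : Set c.T} (hW : IsClopen W) {s s' : c.R} (h : ∀ t ∈ W, c.ev t s = c.ev t s') :
    c.ind W hW * s = c.ind W hW * s' := c.ev_ext fun t => by
  by_cases ht : t ∈ W
  · rw [map_mul, map_mul, h t ht]
  · rw [map_mul, map_mul, c.ev_ind_notMem hW ht, zero_mul, zero_mul]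

theorem Chart.exists_nhd (t : c.T) (s : c.R) : ∃ W : Set c.T, IsClopen W ∧ t ∈ W ∧ ∃ a f : A, ∀ t' ∈ W,
    f ∉ (c.φ t').asIdeal ∧ c.ev t' s * algebraMap A (c.St t') f = algebraMap A (c.St t') a := s.2 t

theorem Chart.exists_nhd_zero {t : c.T} {s : c.R} (h : c.ev t s = 0) :
    ∃ W : Set c.T, IsClopen W ∧ t ∈ W ∧ ∀ t' ∈ W, c.ev t' s = 0 := by
  obtain ⟨W, hW, htW, a, f, hs⟩ := c.exists_nhd t s
  obtain ⟨h1, h2⟩ := hs t htW
  rw [h, zero_mul, eq_comm, IsLocalization.map_eq_zero_iff (c.φ t).asIdeal.primeCompl] at h2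
  obtain ⟨⟨g, hg⟩, hga⟩ := h2
  refine ⟨W ∩ {t' | g ∉ (c.φ t').asIdeal}, hW.inter (c.isClopen_D g), ⟨htW, hg⟩, fun t' ht' => ?_⟩
  obtain ⟨h1', h2'⟩ := hs t' ht'.1
  have hz : algebraMap A (c.St t') a = 0 := by
    refine (IsLocalization.map_eq_zero_iff (c.φ t').asIdeal.primeCompl _ a).2 ⟨⟨g, ht'.2⟩, hga⟩
  rw [hz] at h2'
  exact (c.isUnit_of_notMem t' h1').mul_left_eq_zero.1 h2'

theorem Chart.ev_surjective (t : c.T) : Function.Surjective (c.ev t) := by
  classical
  intro x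
  obtain ⟨a, ⟨f, hf⟩, rfl⟩ := IsLocalization.exists_mk'_eq (c.φ t).asIdeal.primeCompl x
  let W : Set c.T := {t' | f ∉ (c.φ t').asIdeal}
  let s : ∀ t', c.St t' := fun t' => if h : f ∉ (c.φ t').asIdeal then
    IsLocalization.mk' (c.St t') a (⟨f, h⟩ : (c.φ t').asIdeal.primeCompl) else 0
  refine ⟨⟨s, fun t' => ?_⟩, ?_⟩
  · by_cases h : t' ∈ W
    · exact ⟨W, c.isClopen_D f, h, a, f, fun t'' (h'' : f ∉ (c.φ t'').asIdeal) => ⟨h'', by
        rw [show s t'' = _ from dif_pos h'']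
        exact IsLocalization.mk'_spec (c.St t'') a (⟨f, h''⟩ : (c.φ t'').asIdeal.primeCompl)⟩⟩
    · exact ⟨Wᶜ, (c.isClopen_D f).compl, h, 0, 1, fun t'' (h'' : ¬ f ∉ (c.φ t'').asIdeal) =>
        ⟨(c.φ t'').asIdeal.one_notMem, by rw [show s t'' = _ from dif_neg h'', zero_mul, map_zero]⟩⟩
  · show s t = _
    exact dif_pos hf

/-- The prime over a point of the stalk at `t`. -/
def Chart.pt (t : c.T) (P : PrimeSpectrum (c.St t)) : PrimeSpectrum c.R :=
  PrimeSpectrum.comap (c.ev t).toRingHom P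

/-- The closed point over `t`. -/
noncomputable def Chart.cl (t : c.T) : PrimeSpectrum c.R :=
  c.pt t (IsLocalRing.closedPoint (c.St t))

theorem Chart.ind_mul_compl {W : Set c.T} (hW : IsClopen W) : c.ind W hW * c.ind Wᶜ hW.compl = 0 :=
  c.ev_ext fun t => by
    by_cases h : t ∈ W
    · rw [map_mul, c.ev_ind_notMem hW.compl (fun h' => h' h), mul_zero, map_zero]
    · rw [map_mul, c.ev_ind_notMem hW h, zero_mul, map_zero]

theorem Chart.exists_ker_le (Q : PrimeSpectrum c.R) : ∃ t, RingHom.ker (c.ev t) ≤ Q.asIdeal := by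
  by_contra hne
  simp only [not_exists, SetLike.not_le_iff_exists] at hne
  choose s hs hsQ using hne
  have h0 : ∀ t, ∃ W : Set c.T, IsClopen W ∧ t ∈ W ∧ ∀ t' ∈ W, c.ev t' (s t) = 0 :=
    fun t => c.exists_nhd_zero (hs t)
  choose W hW htW hWs using h0
  obtain ⟨S, hS⟩ := isCompact_univ.elim_finite_subcover W (fun t => (hW t).isOpen) fun t _ => Set.mem_iUnion.2 ⟨t, htW t⟩
  have hprod : ∏ t ∈ S, s t = 0 := c.ev_ext fun t' => by
    rw [map_prod, map_zero]
    obtain ⟨t, ht, ht'⟩ := Set.mem_iUnion₂.1 (hS (Set.mem_univ t'))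
    exact Finset.prod_eq_zero ht (hWs t t' ht')
  obtain ⟨t, -, ht⟩ := Q.2.prod_mem_iff.1 (hprod ▸ Q.asIdeal.zero_mem)
  exact hsQ t ht

theorem Chart.eq_of_ker_le {Q : PrimeSpectrum c.R} {t t' : c.T} (h : RingHom.ker (c.ev t) ≤ Q.asIdeal)
    (h' : RingHom.ker (c.ev t') ≤ Q.asIdeal) : t = t' := by
  by_contra hne
  obtain ⟨W, hW, htW, ht'W⟩ := exists_isClopen_of_totally_separated hne
  rcases Q.2.mem_or_mem (show c.ind W hW * c.ind Wᶜ hW.compl ∈ Q.asIdeal by rw [c.ind_mul_compl]; exact Q.asIdeal.zero_mem) with h1 | h1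
  · have h2 : (1 : c.R) - c.ind W hW ∈ Q.asIdeal := h (by
      show c.ev t ((1 : c.R) - c.ind W hW) = 0
      rw [map_sub, map_one, c.ev_ind_mem hW htW, sub_self])
    exact Q.asIdeal.one_notMem (by simpa using Q.asIdeal.add_mem h2 h1)
  · have h2 : (1 : c.R) - c.ind Wᶜ hW.compl ∈ Q.asIdeal := h' (by
      show c.ev t' ((1 : c.R) - c.ind Wᶜ hW.compl) = 0
      rw [map_sub, map_one, c.ev_ind_mem hW.compl ht'W, sub_self])
    exact Q.asIdeal.one_notMem (by simpa using Q.asIdeal.add_mem h2 h1)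

theorem Chart.ker_le_pt (t : c.T) (P : PrimeSpectrum (c.St t)) : RingHom.ker (c.ev t) ≤ (c.pt t P).asIdeal :=
  fun s hs => show c.ev t s ∈ P.asIdeal by rw [show c.ev t s = 0 from hs]; exact P.asIdeal.zero_mem

theorem Chart.exists_pt (Q : PrimeSpectrum c.R) : ∃ t P, Q = c.pt t P := by
  obtain ⟨t, ht⟩ := c.exists_ker_le Q
  have hp : (Q.asIdeal.map (c.ev t).toRingHom).IsPrime :=
    Ideal.map_isPrime_of_surjective (c.ev_surjective t) ht
  refine ⟨t, ⟨_, hp⟩, PrimeSpectrum.ext ?_⟩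
  show Q.asIdeal = Ideal.comap (c.ev t).toRingHom (Q.asIdeal.map (c.ev t).toRingHom)
  rw [Ideal.comap_map_of_surjective (c.ev t).toRingHom (c.ev_surjective t)]
  exact (sup_eq_left.2 ht).symm

theorem Chart.pt_le_pt {t t' : c.T} {P : PrimeSpectrum (c.St t)} {P' : PrimeSpectrum (c.St t')}
    (h : c.pt t P ≤ c.pt t' P') : t = t' :=
  c.eq_of_ker_le ((c.ker_le_pt t P).trans h) (c.ker_le_pt t' P')

theorem Chart.comap_pt (t : c.T) (P : PrimeSpectrum (c.St t)) :
    PrimeSpectrum.comap (algebraMap A c.R) (c.pt t P) = PrimeSpectrum.comap (algebraMap A (c.St t)) P := by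
  refine PrimeSpectrum.ext (Ideal.ext fun a => ?_)
  show c.ev t (algebraMap A c.R a) ∈ P.asIdeal ↔ _
  rw [AlgHom.commutes]
  rfl

theorem Chart.comap_cl (t : c.T) : PrimeSpectrum.comap (algebraMap A c.R) (c.cl t) = c.φ t := by
  rw [Chart.cl, c.comap_pt]
  refine PrimeSpectrum.ext ?_
  exact IsLocalization.AtPrime.comap_maximalIdeal (c.St t) (c.φ t).asIdeal

theorem Chart.le_cl (t : c.T) (P : PrimeSpectrum (c.St t)) : c.pt t P ≤ c.cl t :=
  Ideal.comap_mono (IsLocalRing.le_maximalIdeal P.2.ne_top)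

theorem Chart.cl_injective : Function.Injective c.cl := fun _ _ h => c.pt_le_pt h.le

theorem Chart.isMax_cl (t : c.T) : (c.cl t).asIdeal.IsMaximal :=
  Ideal.comap_isMaximal_of_surjective _ (c.ev_surjective t) (H := IsLocalRing.maximalIdeal.isMaximal _)

theorem Chart.eq_cl_of_isMax {Q : PrimeSpectrum c.R} (hQ : Q.asIdeal.IsMaximal) : ∃ t, Q = c.cl t := by
  obtain ⟨t, P, rfl⟩ := c.exists_pt Q
  exact ⟨t, PrimeSpectrum.ext (hQ.eq_of_le (c.cl t).2.ne_top (c.le_cl t P))⟩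

theorem Chart.closedPoints_eq : ProEtW.closedPoints (PrimeSpectrum c.R) = Set.range c.cl := by
  ext Q
  show IsClosed ({Q} : Set _) ↔ _
  rw [PrimeSpectrum.isClosed_singleton_iff_isMaximal]
  exact ⟨fun h => (c.eq_cl_of_isMax h).imp fun t ht => ht.symm, fun ⟨t, ht⟩ => ht ▸ c.isMax_cl t⟩

theorem Chart.isClosed_range_cl : IsClosed (Set.range c.cl) := by
  classical
  let J : Set c.R := {s | ∀ t, c.ev t s ∈ IsLocalRing.maximalIdeal (c.St t)}
  have : Set.range c.cl = PrimeSpectrum.zeroLocus J := by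
    refine Set.ext fun Q => ⟨fun ⟨t, ht⟩ s hs => ht ▸ hs t, fun hQ => ?_⟩
    obtain ⟨t, P, rfl⟩ := c.exists_pt Q
    refine ⟨t, PrimeSpectrum.ext ?_⟩
    show Ideal.comap (c.ev t).toRingHom _ = Ideal.comap (c.ev t).toRingHom P.asIdeal
    congr 1
    refine le_antisymm ?_ (IsLocalRing.le_maximalIdeal P.2.ne_top)
    intro x hx
    by_contra hxP
    obtain ⟨a, f, rfl⟩ := IsLocalization.exists_mk'_eq (c.φ t).asIdeal.primeCompl x
    have ha : a ∈ (c.φ t).asIdeal := (IsLocalization.AtPrime.mk'_mem_maximal_iff (c.St t) _ a f).1 hx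
    have hW := c.isClopen_V a
    have hmem : algebraMap A c.R a * c.ind _ hW ∈ (c.pt t P).asIdeal := hQ (show _ ∈ J from fun t' => by
      rw [map_mul, AlgHom.commutes]
      by_cases h : t' ∈ {t | a ∈ (c.φ t).asIdeal}
      · exact Ideal.mul_mem_right _ _ ((IsLocalization.AtPrime.to_map_mem_maximal_iff (c.St t') _ a).2 h)
      · rw [c.ev_ind_notMem hW h, mul_zero]; exact zero_mem _)
    have h1 : c.ev t (algebraMap A c.R a * c.ind _ hW) ∈ P.asIdeal := hmem
    rw [map_mul, AlgHom.commutes, c.ev_ind_mem hW ha, mul_one] at h1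
    refine hxP ?_
    rw [IsLocalization.mk'_eq_mul_mk'_one]
    exact P.asIdeal.mul_mem_right _ h1
  rw [this]
  exact PrimeSpectrum.isClosed_zeroLocus _

theorem Chart.isWLocal : ProEtW.IsWLocal (PrimeSpectrum c.R) := by
  refine ⟨inferInstance, ?_, fun Q => ?_⟩
  · show IsClosed (ProEtW.closedPoints (PrimeSpectrum c.R))
    rw [c.closedPoints_eq]; exact c.isClosed_range_cl
  obtain ⟨t, P, rfl⟩ := c.exists_pt Q
  refine ⟨c.cl t, ⟨(PrimeSpectrum.isClosed_singleton_iff_isMaximal _).2 (c.isMax_cl t),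
    (PrimeSpectrum.le_iff_specializes _ _).1 (c.le_cl t P)⟩, fun Q' ⟨h1, h2⟩ => ?_⟩
  obtain ⟨t', rfl⟩ := c.eq_cl_of_isMax ((PrimeSpectrum.isClosed_singleton_iff_isMaximal _).1 h1)
  exact congrArg c.cl (c.pt_le_pt ((PrimeSpectrum.le_iff_specializes _ _).2 h2)).symm

theorem Chart.continuous_cl : Continuous c.cl := by
  refine PrimeSpectrum.isTopologicalBasis_basic_opens.continuous_iff.2 ?_
  rintro _ ⟨s, rfl⟩
  rw [isOpen_iff_mem_nhds]
  intro t ht
  obtain ⟨W, hW, htW, a, f, h⟩ := c.exists_nhd t s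
  refine Filter.mem_of_superset ((hW.inter (c.isClopen_D a)).isOpen.mem_nhds ⟨htW, ?_⟩) fun t' ht' => ?_
  · intro ha
    obtain ⟨h1, h2⟩ := h t htW
    refine ht (show c.ev t s ∈ IsLocalRing.maximalIdeal _ from ?_)
    exact (Ideal.mul_unit_mem_iff_mem _ (c.isUnit_of_notMem t h1)).1 (by
      rw [h2]; exact (IsLocalization.AtPrime.to_map_mem_maximal_iff (c.St t) _ a).2 ha)
  · obtain ⟨h1, h2⟩ := h t' ht'.1
    intro hs
    refine ht'.2 ((IsLocalization.AtPrime.to_map_mem_maximal_iff (c.St t') (c.φ t').asIdeal a).1 ?_)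
    rw [← h2]
    exact Ideal.mul_mem_right _ _ hs

/-- The closed points of the spectrum of the ring of a chart. -/
noncomputable def Chart.homeoClosed : c.T ≃ₜ ProEtW.closedPoints (PrimeSpectrum c.R) :=
  haveI : T2Space (ProEtW.closedPoints (PrimeSpectrum c.R)) := by
    rw [c.closedPoints_eq]
    refine ⟨fun x y hxy => ?_⟩
    obtain ⟨_, t, rfl⟩ := x
    obtain ⟨_, t', rfl⟩ := y
    obtain ⟨W, hW, htW, ht'W⟩ := exists_isClopen_of_totally_separated (fun h => hxy (Subtype.ext (congrArg c.cl h)) : t ≠ t')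
    refine ⟨_, _, (PrimeSpectrum.basicOpen (c.ind W hW)).2.preimage continuous_subtype_val,
      (PrimeSpectrum.basicOpen (c.ind Wᶜ hW.compl)).2.preimage continuous_subtype_val, ?_, ?_, ?_⟩
    · intro h
      have h1 : c.ev t (c.ind W hW) ∈ IsLocalRing.maximalIdeal _ := h
      rw [c.ev_ind_mem hW htW] at h1
      exact (IsLocalRing.maximalIdeal (c.St t)).one_notMem h1
    · intro h
      have h1 : c.ev t' (c.ind Wᶜ hW.compl) ∈ IsLocalRing.maximalIdeal _ := h
      rw [c.ev_ind_mem hW.compl ht'W] at h1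
      exact (IsLocalRing.maximalIdeal (c.St t')).one_notMem h1
    · rw [Set.disjoint_iff]
      rintro x hx
      obtain ⟨Q, hQ'⟩ := x
      rcases Q.2.mem_or_mem (show c.ind W hW * c.ind Wᶜ hW.compl ∈ Q.asIdeal by rw [c.ind_mul_compl]; exact Q.asIdeal.zero_mem) with h | h
      · exact hx.1 h
      · exact hx.2 h
  Continuous.homeoOfEquivCompactToT2
    (f := Equiv.ofBijective (fun t => (⟨c.cl t, c.closedPoints_eq ▸ ⟨t, rfl⟩⟩ : ProEtW.closedPoints (PrimeSpectrum c.R)))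
      ⟨fun _ _ h => c.cl_injective (congrArg Subtype.val h), fun ⟨Q, hQ⟩ => by
        rw [c.closedPoints_eq] at hQ
        obtain ⟨t, rfl⟩ := hQ
        exact ⟨t, rfl⟩⟩)
    (c.continuous_cl.subtype_mk _)

theorem Chart.exists_notMem_eq {Q : PrimeSpectrum c.R} {t : c.T} (hQ : RingHom.ker (c.ev t) ≤ Q.asIdeal) (s : c.R) :
    ∃ e : c.R, e ∉ Q.asIdeal ∧ c.ev t e = 1 ∧ ∃ a f : A, f ∉ (c.φ t).asIdeal ∧
      e * (s * algebraMap A c.R f) = e * algebraMap A c.R a := by
  obtain ⟨W, hW, htW, a, f, h⟩ := c.exists_nhd t s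
  refine ⟨c.ind W hW, fun hm => ?_, c.ev_ind_mem hW htW, a, f, (h t htW).1, c.ind_mul_ext hW fun t' ht' => ?_⟩
  · have h2 : (1 : c.R) - c.ind W hW ∈ Q.asIdeal := hQ (by
      show c.ev t ((1 : c.R) - c.ind W hW) = 0
      rw [map_sub, map_one, c.ev_ind_mem hW htW, sub_self])
    exact Q.asIdeal.one_notMem (by simpa using Q.asIdeal.add_mem h2 hm)
  · rw [map_mul, AlgHom.commutes, AlgHom.commutes]; exact (h t' ht').2

theorem Chart.comap_le {Q : PrimeSpectrum c.R} {t : c.T} (hQ : RingHom.ker (c.ev t) ≤ Q.asIdeal) :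
    Q.asIdeal.comap (algebraMap A c.R) ≤ (c.φ t).asIdeal := by
  obtain ⟨t', P, rfl⟩ := c.exists_pt Q
  obtain rfl := c.eq_of_ker_le (c.ker_le_pt t' P) hQ
  have h : (c.pt t' P).asIdeal ≤ (c.cl t').asIdeal := c.le_cl t' P
  exact (Ideal.comap_mono h).trans (le_of_eq (congrArg PrimeSpectrum.asIdeal (c.comap_cl t')))

/-- The ring of a chart identifies local rings. -/
theorem Chart.identifies : EtPBC.IdentifiesLocalRings A c.R := by
  intro Q
  obtain ⟨t, ht⟩ := c.exists_ker_le Q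
  let p := Q.asIdeal.comap (algebraMap A c.R)
  let RQ := Localization.AtPrime Q.asIdeal
  have hp : p ≤ (c.φ t).asIdeal := c.comap_le ht
  refine ⟨(injective_iff_map_eq_zero _).2 fun x hx => ?_, fun x => ?_⟩
  · obtain ⟨a, f, rfl⟩ := IsLocalization.exists_mk'_eq p.primeCompl x
    rw [Localization.localRingHom_mk', IsLocalization.mk'_eq_zero_iff] at hx
    obtain ⟨⟨s, hs⟩, hsa⟩ := hx
    obtain ⟨e, he, he1, b, g, hg, heq⟩ := c.exists_notMem_eq ht s
    have hgp : g ∉ p := fun h => hg (hp h)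
    have hbp : b ∉ p := fun hb => by
      have h1 : e * (s * algebraMap A c.R g) ∈ Q.asIdeal := by rw [heq]; exact Q.asIdeal.mul_mem_left _ hb
      rcases Q.2.mem_or_mem h1 with h | h
      · exact he h
      · rcases Q.2.mem_or_mem h with h | h
        · exact hs h
        · exact hgp h
    have h0 : e * algebraMap A c.R (b * a) = 0 := by
      rw [map_mul, ← mul_assoc, ← heq]
      calc e * (s * algebraMap A c.R g) * algebraMap A c.R a
          = e * algebraMap A c.R g * (s * algebraMap A c.R a) := by ring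
        _ = 0 := by rw [show s * algebraMap A c.R a = 0 from hsa, mul_zero]
    have h1 : c.ev t e * algebraMap A (c.St t) (b * a) = 0 := by
      rw [← AlgHom.commutes (c.ev t), ← map_mul, h0, map_zero]
    have heu : IsUnit (c.ev t e) := by rw [he1]; exact isUnit_one
    rw [IsLocalization.mk'_eq_zero_iff]
    obtain ⟨⟨h2, hh2⟩, h3⟩ := (IsLocalization.map_eq_zero_iff (c.φ t).asIdeal.primeCompl (c.St t) _).1 (heu.mul_right_eq_zero.1 h1)
    exact ⟨⟨h2 * b, (Ideal.IsPrime.comap (algebraMap A c.R)).mul_notMem (fun h => hh2 (hp h)) hbp⟩, by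
      show h2 * b * a = 0
      rw [mul_assoc]; exact h3⟩
  · obtain ⟨s, ⟨s', hs'⟩, rfl⟩ := IsLocalization.exists_mk'_eq Q.asIdeal.primeCompl x
    obtain ⟨e, he, -, a, f, hf, heq⟩ := c.exists_notMem_eq ht s
    obtain ⟨e', he', -, b, g, hg, heq'⟩ := c.exists_notMem_eq ht s'
    have hfp : f ∉ p := fun h => hf (hp h)
    have hgp : g ∉ p := fun h => hg (hp h)
    have hbp : b ∉ p := fun hb => by
      have h1 : e' * (s' * algebraMap A c.R g) ∈ Q.asIdeal := by rw [heq']; exact Q.asIdeal.mul_mem_left _ hb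
      rcases Q.2.mem_or_mem h1 with h | h
      · exact he' h
      · rcases Q.2.mem_or_mem h with h | h
        · exact hs' h
        · exact hgp h
    refine ⟨IsLocalization.mk' _ (a * g) (⟨f * b, (Ideal.IsPrime.comap (algebraMap A c.R)).mul_notMem hfp hbp⟩ : p.primeCompl), ?_⟩
    rw [Localization.localRingHom_mk']
    refine IsLocalization.mk'_eq_iff_eq.2 ?_
    refine (IsLocalization.eq_iff_exists Q.asIdeal.primeCompl RQ).2 ⟨⟨e * e', Q.2.mul_notMem he he'⟩, ?_⟩
    show e * e' * (s' * algebraMap A c.R (a * g)) = e * e' * (algebraMap A c.R (f * b) * s)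
    rw [map_mul, map_mul]
    calc e * e' * (s' * (algebraMap A c.R a * algebraMap A c.R g))
        = (e * algebraMap A c.R a) * (e' * (s' * algebraMap A c.R g)) := by ring
      _ = (e * (s * algebraMap A c.R f)) * (e' * algebraMap A c.R b) := by rw [heq, heq']
      _ = _ := by ring

end Groth.Agent.WLocalLib
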