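import Groth.Agent.WLocalLib.IndZar

/-! Rings of locally fractional sections for a family of submonoids over a profinite space. -/

set_option autoImplicit false
set_option linter.style.haveILetI false
set_option backward.isDefEq.respectTransparency false
set_option backward.defeqAttrib.useBackward true
universe u

open CategoryTheory CategoryTheory.Limits Topology PrimeSpectrum

namespace Groth.Agent.WLocalLib

/-- A map from a profinite space to a spectrum, continuous for the constructible topology. -/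
structure GChart (A : Type u) [CommRing A] where
  T : Type u
  top : TopologicalSpace T
  cpt : CompactSpace T
  t2 : T2Space T
  tdc : TotallyDisconnectedSpace T
  M : T → Submonoid A
  isClopen_D : ∀ a : A, IsClopen {t | a ∈ M t}

variable {A : Type u} [CommRing A] (c : GChart A)

instance : TopologicalSpace c.T := c.top
instance : CompactSpace c.T := c.cpt
instance : T2Space c.T := c.t2
instance : TotallyDisconnectedSpace c.T := c.tdc

/-- The stalk at a point. -/
abbrev GChart.St (t : c.T) : Type u := Localization (c.M t)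

/-- Being locally a fraction. -/
def GChart.IsLocFrac (s : ∀ t, c.St t) : Prop :=
  ∀ t, ∃ W : Set c.T, IsClopen W ∧ t ∈ W ∧ ∃ a f : A, ∀ t' ∈ W, f ∈ c.M t' ∧
    s t' * algebraMap A (c.St t') f = algebraMap A (c.St t') a

/-- The ring of locally fractional sections. -/
def GChart.sections : Subalgebra A (∀ t, c.St t) where
  carrier := {s | c.IsLocFrac s}
  mul_mem' {s s'} hs hs' t := by
    obtain ⟨W, hW, htW, a, f, h⟩ := hs t
    obtain ⟨W', hW', htW', a', f', h'⟩ := hs' t
    refine ⟨W ∩ W', hW.inter hW', ⟨htW, htW'⟩, a * a', f * f', fun t' ht' => ?_⟩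
    obtain ⟨h1, h2⟩ := h t' ht'.1
    obtain ⟨h1', h2'⟩ := h' t' ht'.2
    refine ⟨(c.M t').mul_mem h1 h1', ?_⟩
    rw [Pi.mul_apply, map_mul, map_mul, ← h2, ← h2']
    ring
  add_mem' {s s'} hs hs' t := by
    obtain ⟨W, hW, htW, a, f, h⟩ := hs t
    obtain ⟨W', hW', htW', a', f', h'⟩ := hs' t
    refine ⟨W ∩ W', hW.inter hW', ⟨htW, htW'⟩, a * f' + a' * f, f * f', fun t' ht' => ?_⟩
    obtain ⟨h1, h2⟩ := h t' ht'.1
    obtain ⟨h1', h2'⟩ := h' t' ht'.2
    refine ⟨(c.M t').mul_mem h1 h1', ?_⟩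
    rw [Pi.add_apply, map_mul, map_add, map_mul, map_mul, ← h2, ← h2']
    ring
  algebraMap_mem' r t :=
    ⟨Set.univ, isClopen_univ, trivial, r, 1, fun t' _ =>
      ⟨(c.M t').one_mem, by rw [map_one, mul_one]; rfl⟩⟩

/-- The ring attached to a chart. -/
abbrev GChart.R : Type u := c.sections

/-- Evaluation at a point. -/
def GChart.ev (t : c.T) : c.R →ₐ[A] c.St t := (Pi.evalAlgHom A c.St t).comp c.sections.val

theorem GChart.ev_ext {s s' : c.R} (h : ∀ t, c.ev t s = c.ev t s') : s = s' :=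
  Subtype.ext (funext h)

theorem GChart.isUnit_of_notMem (t : c.T) {f : A} (hf : f ∈ c.M t) : IsUnit (algebraMap A (c.St t) f) :=
  IsLocalization.map_units (c.St t) (⟨f, hf⟩ : (c.M t))

open scoped Classical in
/-- The indicator of a clopen set. -/
noncomputable def GChart.ind (W : Set c.T) (hW : IsClopen W) : c.R :=
  ⟨fun t => if t ∈ W then 1 else 0, fun t => by
    by_cases h : t ∈ W
    · exact ⟨W, hW, h, 1, 1, fun t' ht' => ⟨(c.M t').one_mem, by simp [ht']⟩⟩
    · exact ⟨Wᶜ, hW.compl, h, 0, 1, fun t' ht' => ⟨(c.M t').one_mem, by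
        have : t' ∉ W := ht'
        simp [this]⟩⟩⟩

theorem GChart.ev_ind_mem {W : Set c.T} (hW : IsClopen W) {t : c.T} (h : t ∈ W) : c.ev t (c.ind W hW) = 1 :=
  if_pos h

theorem GChart.ev_ind_notMem {W : Set c.T} (hW : IsClopen W) {t : c.T} (h : t ∉ W) : c.ev t (c.ind W hW) = 0 :=
  if_neg h

/-- An element times an indicator of a clopen set is determined on that set. -/
theorem GChart.ind_mul_ext {W : Set c.T} (hW : IsClopen W) {s s' : c.R} (h : ∀ t ∈ W, c.ev t s = c.ev t s') :
    c.ind W hW * s = c.ind W hW * s' := c.ev_ext fun t => by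
  by_cases ht : t ∈ W
  · rw [map_mul, map_mul, h t ht]
  · rw [map_mul, map_mul, c.ev_ind_notMem hW ht, zero_mul, zero_mul]

theorem GChart.exists_nhd (t : c.T) (s : c.R) : ∃ W : Set c.T, IsClopen W ∧ t ∈ W ∧ ∃ a f : A, ∀ t' ∈ W,
    f ∈ c.M t' ∧ c.ev t' s * algebraMap A (c.St t') f = algebraMap A (c.St t') a := s.2 t

theorem GChart.exists_nhd_zero {t : c.T} {s : c.R} (h : c.ev t s = 0) :
    ∃ W : Set c.T, IsClopen W ∧ t ∈ W ∧ ∀ t' ∈ W, c.ev t' s = 0 := by
  obtain ⟨W, hW, htW, a, f, hs⟩ := c.exists_nhd t s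
  obtain ⟨h1, h2⟩ := hs t htW
  rw [h, zero_mul, eq_comm, IsLocalization.map_eq_zero_iff (c.M t)] at h2
  obtain ⟨⟨g, hg⟩, hga⟩ := h2
  refine ⟨W ∩ {t' | g ∈ c.M t'}, hW.inter (c.isClopen_D g), ⟨htW, hg⟩, fun t' ht' => ?_⟩
  obtain ⟨h1', h2'⟩ := hs t' ht'.1
  have hz : algebraMap A (c.St t') a = 0 := by
    refine (IsLocalization.map_eq_zero_iff (c.M t') _ a).2 ⟨⟨g, ht'.2⟩, hga⟩
  rw [hz] at h2'
  exact (c.isUnit_of_notMem t' h1').mul_left_eq_zero.1 h2'

theorem GChart.ev_surjective (t : c.T) : Function.Surjective (c.ev t) := by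
  classical
  intro x
  obtain ⟨a, ⟨f, hf⟩, rfl⟩ := IsLocalization.exists_mk'_eq (c.M t) x
  let W : Set c.T := {t' | f ∈ c.M t'}
  let s : ∀ t', c.St t' := fun t' => if h : f ∈ c.M t' then
    IsLocalization.mk' (c.St t') a (⟨f, h⟩ : (c.M t')) else 0
  refine ⟨⟨s, fun t' => ?_⟩, ?_⟩
  · by_cases h : t' ∈ W
    · exact ⟨W, c.isClopen_D f, h, a, f, fun t'' (h'' : f ∈ c.M t'') => ⟨h'', by
        rw [show s t'' = _ from dif_pos h'']
        exact IsLocalization.mk'_spec (c.St t'') a (⟨f, h''⟩ : (c.M t''))⟩⟩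
    · exact ⟨Wᶜ, (c.isClopen_D f).compl, h, 0, 1, fun t'' (h'' : ¬ f ∈ c.M t'') =>
        ⟨(c.M t'').one_mem, by rw [show s t'' = _ from dif_neg h'', zero_mul, map_zero]⟩⟩
  · show s t = _
    exact dif_pos hf

/-- The prime over a point of the stalk at `t`. -/
def GChart.pt (t : c.T) (P : PrimeSpectrum (c.St t)) : PrimeSpectrum c.R :=
  PrimeSpectrum.comap (c.ev t).toRingHom P

theorem GChart.ind_mul_compl {W : Set c.T} (hW : IsClopen W) : c.ind W hW * c.ind Wᶜ hW.compl = 0 :=
  c.ev_ext fun t => by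
    by_cases h : t ∈ W
    · rw [map_mul, c.ev_ind_notMem hW.compl (fun h' => h' h), mul_zero, map_zero]
    · rw [map_mul, c.ev_ind_notMem hW h, zero_mul, map_zero]

theorem GChart.exists_ker_le (Q : PrimeSpectrum c.R) : ∃ t, RingHom.ker (c.ev t) ≤ Q.asIdeal := by
  by_contra hne
  simp only [not_exists, SetLike.not_le_iff_exists] at hne
  choose s hs hsQ using hne
  have h0 : ∀ t, ∃ W : Set c.T, IsClopen W ∧ t ∈ W ∧ ∀ t' ∈ W, c.ev t' (s t) = 0 :=
    fun t => c.exists_nhd_zero (hs t)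
  choose W hW htW hWs using h0
  obtain ⟨S, hS⟩ := isCompact_univ.elim_finite_subcover W (fun t => (hW t).isOpen) fun t _ => Set.mem_iUnion.2 ⟨t, htW t⟩
  have hprod : ∏ t ∈ S, s t = 0 := c.ev_ext fun t' => by
    rw [map_prod, map_zero]
    obtain ⟨t, ht, ht'⟩ := Set.mem_iUnion₂.1 (hS (Set.mem_univ t'))
    exact Finset.prod_eq_zero ht (hWs t t' ht')
  obtain ⟨t, -, ht⟩ := Q.2.prod_mem_iff.1 (hprod ▸ Q.asIdeal.zero_mem)
  exact hsQ t ht

theorem GChart.eq_of_ker_le {Q : PrimeSpectrum c.R} {t t' : c.T} (h : RingHom.ker (c.ev t) ≤ Q.asIdeal)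
    (h' : RingHom.ker (c.ev t') ≤ Q.asIdeal) : t = t' := by
  by_contra hne
  obtain ⟨W, hW, htW, ht'W⟩ := exists_isClopen_of_totally_separated hne
  rcases Q.2.mem_or_mem (show c.ind W hW * c.ind Wᶜ hW.compl ∈ Q.asIdeal by rw [c.ind_mul_compl]; exact Q.asIdeal.zero_mem) with h1 | h1
  · have h2 : (1 : c.R) - c.ind W hW ∈ Q.asIdeal := h (by
      show c.ev t ((1 : c.R) - c.ind W hW) = 0
      rw [map_sub, map_one, c.ev_ind_mem hW htW, sub_self])
    exact Q.asIdeal.one_notMem (by simpa using Q.asIdeal.add_mem h2 h1)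
  · have h2 : (1 : c.R) - c.ind Wᶜ hW.compl ∈ Q.asIdeal := h' (by
      show c.ev t' ((1 : c.R) - c.ind Wᶜ hW.compl) = 0
      rw [map_sub, map_one, c.ev_ind_mem hW.compl ht'W, sub_self])
    exact Q.asIdeal.one_notMem (by simpa using Q.asIdeal.add_mem h2 h1)

theorem GChart.ker_le_pt (t : c.T) (P : PrimeSpectrum (c.St t)) : RingHom.ker (c.ev t) ≤ (c.pt t P).asIdeal :=
  fun s hs => show c.ev t s ∈ P.asIdeal by rw [show c.ev t s = 0 from hs]; exact P.asIdeal.zero_mem

theorem GChart.exists_pt (Q : PrimeSpectrum c.R) : ∃ t P, Q = c.pt t P := by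
  obtain ⟨t, ht⟩ := c.exists_ker_le Q
  have hp : (Q.asIdeal.map (c.ev t).toRingHom).IsPrime :=
    Ideal.map_isPrime_of_surjective (c.ev_surjective t) ht
  refine ⟨t, ⟨_, hp⟩, PrimeSpectrum.ext ?_⟩
  show Q.asIdeal = Ideal.comap (c.ev t).toRingHom (Q.asIdeal.map (c.ev t).toRingHom)
  rw [Ideal.comap_map_of_surjective (c.ev t).toRingHom (c.ev_surjective t)]
  exact (sup_eq_left.2 ht).symm

theorem GChart.pt_le_pt {t t' : c.T} {P : PrimeSpectrum (c.St t)} {P' : PrimeSpectrum (c.St t')}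
    (h : c.pt t P ≤ c.pt t' P') : t = t' :=
  c.eq_of_ker_le ((c.ker_le_pt t P).trans h) (c.ker_le_pt t' P')

theorem GChart.comap_pt (t : c.T) (P : PrimeSpectrum (c.St t)) :
    PrimeSpectrum.comap (algebraMap A c.R) (c.pt t P) = PrimeSpectrum.comap (algebraMap A (c.St t)) P := by
  refine PrimeSpectrum.ext (Ideal.ext fun a => ?_)
  show c.ev t (algebraMap A c.R a) ∈ P.asIdeal ↔ _
  rw [AlgHom.commutes]
  rfl



/-- Index of the presentation of the ring of a chart. -/
structure GIdx : Type u where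
  W : DiscreteQuotient c.T
  f : W → A
  hf : ∀ t, f (W.proj t) ∈ c.M t

namespace GIdx

variable {c}

instance : Preorder (GIdx c) where
  le j j' := ∃ h : j'.W ≤ j.W, ∀ x, IsUnit (algebraMap A (Localization.Away (j'.f x)) (j.f (DiscreteQuotient.ofLE h x)))
  le_refl j := ⟨le_rfl, fun x => by
    rw [DiscreteQuotient.ofLE_refl_apply]
    exact IsLocalization.map_units (M := Submonoid.powers (j.f x)) _ ⟨_, Submonoid.mem_powers _⟩⟩
  le_trans i j k hij hjk := by
    obtain ⟨h, hh⟩ := hij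
    obtain ⟨h', hh'⟩ := hjk
    refine ⟨h'.trans h, fun x => ?_⟩
    have := (hh (DiscreteQuotient.ofLE h' x)).map
      (IsLocalization.Away.liftAlgHom (j.f (DiscreteQuotient.ofLE h' x)) (f := Algebra.ofId A (Localization.Away (k.f x))) (hh' x)
        (S := Localization.Away (j.f (DiscreteQuotient.ofLE h' x))))
    rwa [AlgHom.commutes, DiscreteQuotient.ofLE_ofLE] at this

/-- The ring of an index. -/
abbrev U (j : GIdx c) : Type u := ∀ x : j.W, Localization.Away (j.f x)

/-- The map out of a localisation away from an element. -/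
noncomputable def lift {a : A} {S : Type u} [CommRing S] [Algebra A S] (h : IsUnit (algebraMap A S a)) :
    Localization.Away a →ₐ[A] S :=
  IsLocalization.Away.liftAlgHom a (f := Algebra.ofId A S) h

theorem away_ext {a : A} {S : Type u} [CommRing S] [Algebra A S] (f g : Localization.Away a →ₐ[A] S) : f = g :=
  IsLocalization.algHom_ext (Submonoid.powers a) (by ext)

/-- Maps out of equal components agree. -/
theorem cast_ext (i : GIdx c) (z : i.U) {S : Type u} [CommRing S] [Algebra A S] {p q : i.W} (hp : p = q)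
    (F : Localization.Away (i.f p) →ₐ[A] S) (G : Localization.Away (i.f q) →ₐ[A] S) : F (z p) = G (z q) := by
  subst hp
  rw [away_ext F G]

/-- Transition maps. -/
noncomputable def trans {i j : GIdx c} (h : i ≤ j) : i.U →ₐ[A] j.U :=
  AlgHom.pi fun x => (lift (h.2 x)).comp (Pi.evalAlgHom A _ (DiscreteQuotient.ofLE h.1 x))

theorem trans_apply {i j : GIdx c} (h : i ≤ j) (z : i.U) (x : j.W) :
    trans h z x = lift (h.2 x) (z (DiscreteQuotient.ofLE h.1 x)) := rfl

theorem trans_refl (i : GIdx c) (z : i.U) : trans (le_refl i) z = z := by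
  funext x
  rw [trans_apply]
  exact cast_ext i z (DiscreteQuotient.ofLE_refl_apply x) _ (AlgHom.id A _)

theorem trans_trans {i j k : GIdx c} (h : i ≤ j) (h' : j ≤ k) (z : i.U) : trans h' (trans h z) = trans (h.trans h') z := by
  funext x
  rw [trans_apply, trans_apply, trans_apply, ← AlgHom.comp_apply]
  exact cast_ext i z (DiscreteQuotient.ofLE_ofLE h'.1 h.1 x) _ _

/-- The map to the product of stalks. -/
noncomputable def toPi (i : GIdx c) : i.U →ₐ[A] ∀ t, c.St t :=
  AlgHom.pi fun t => (lift (c.isUnit_of_notMem t (i.hf t))).comp (Pi.evalAlgHom A _ (i.W.proj t))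

theorem toPi_apply (i : GIdx c) (z : i.U) (t : c.T) :
    toPi i z t = lift (c.isUnit_of_notMem t (i.hf t)) (z (i.W.proj t)) := rfl

theorem toPi_mem (i : GIdx c) (z : i.U) : toPi i z ∈ c.sections := by
  intro t
  obtain ⟨a, ⟨_, n, rfl⟩, hz⟩ := IsLocalization.exists_mk'_eq (Submonoid.powers (i.f (i.W.proj t))) (z (i.W.proj t))
  refine ⟨i.W.proj ⁻¹' {i.W.proj t}, ⟨(isClosed_discrete _).preimage i.W.proj_continuous,
    (isOpen_discrete _).preimage i.W.proj_continuous⟩, rfl, a, i.f (i.W.proj t) ^ n, fun t' (ht' : i.W.proj t' = i.W.proj t) => ?_⟩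
  have hu : i.f (i.W.proj t) ∈ c.M t' := by rw [← ht']; exact i.hf t'
  refine ⟨pow_mem hu n, ?_⟩
  rw [toPi_apply, cast_ext i z ht' _ (lift (c.isUnit_of_notMem t' hu)), ← hz,
    ← AlgHom.commutes (lift (c.isUnit_of_notMem t' hu)), ← map_mul, IsLocalization.mk'_spec, AlgHom.commutes]

/-- The map to the ring of the chart. -/
noncomputable def toR (i : GIdx c) : i.U →ₐ[A] c.R := (toPi i).codRestrict c.sections (toPi_mem i)

theorem ev_toR (i : GIdx c) (z : i.U) (t : c.T) :
    c.ev t (toR i z) = lift (c.isUnit_of_notMem t (i.hf t)) (z (i.W.proj t)) := rfl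

theorem toR_trans {i j : GIdx c} (h : i ≤ j) (z : i.U) : toR j (trans h z) = toR i z := by
  refine c.ev_ext fun t => ?_
  rw [ev_toR, ev_toR, trans_apply, ← AlgHom.comp_apply]
  exact cast_ext i z (DiscreteQuotient.ofLE_proj h.1 t) _ _

theorem isUnit_left (a b : A) : IsUnit (algebraMap A (Localization.Away (a * b)) a) :=
  isUnit_of_mul_isUnit_left (y := algebraMap A _ b) (by
    rw [← map_mul]; exact IsLocalization.map_units (M := Submonoid.powers (a * b)) _ ⟨_, Submonoid.mem_powers _⟩)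

/-- Common refinement. -/
noncomputable def inf (i j : GIdx c) : GIdx c where
  W := i.W ⊓ j.W
  f x := i.f (DiscreteQuotient.ofLE inf_le_left x) * j.f (DiscreteQuotient.ofLE inf_le_right x)
  hf t := by
    rw [DiscreteQuotient.ofLE_proj, DiscreteQuotient.ofLE_proj]
    exact (c.M t).mul_mem (i.hf t) (j.hf t)

theorem isUnit_right (a b : A) : IsUnit (algebraMap A (Localization.Away (a * b)) b) :=
  isUnit_of_mul_isUnit_right (x := algebraMap A _ a) (by
    rw [← map_mul]; exact IsLocalization.map_units (M := Submonoid.powers (a * b)) _ ⟨_, Submonoid.mem_powers _⟩)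

instance : IsDirectedOrder (GIdx c) := ⟨fun i j => ⟨inf i j, ⟨inf_le_left, fun _ => isUnit_left _ _⟩,
  ⟨inf_le_right, fun _ => isUnit_right _ _⟩⟩⟩

instance : Nonempty (GIdx c) := ⟨⟨⊤, fun _ => 1, fun t => (c.M t).one_mem⟩⟩

theorem exists_cover (W₀ : c.T → Set c.T) (hW : ∀ t, IsClopen (W₀ t)) (ht : ∀ t, t ∈ W₀ t) :
    ∃ (Q : DiscreteQuotient c.T) (sel : Q → c.T), ∀ t, t ∈ W₀ (sel (Q.proj t)) := by
  classical
  obtain ⟨S, hS⟩ := isCompact_univ.elim_finite_subcover W₀ (fun t => (hW t).isOpen) fun t _ => Set.mem_iUnion.2 ⟨t, ht t⟩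
  let lc : LocallyConstant c.T (S → Bool) :=
    ⟨fun t s => decide (t ∈ W₀ s), (IsLocallyConstant.iff_continuous _).2 (continuous_pi fun s => by
      rw [continuous_discrete_rng]
      intro b
      cases b with
      | false =>
        convert (hW s.1).compl.isOpen using 1
        ext t; simp
      | true =>
        convert (hW s.1).isOpen using 1
        ext t; simp)⟩
  have hsel : ∀ x : lc.discreteQuotient, ∃ s : c.T, ∀ t, lc.discreteQuotient.proj t = x → t ∈ W₀ s := by
    intro x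
    obtain ⟨t₀, rfl⟩ := lc.discreteQuotient.proj_surjective x
    obtain ⟨s, hs, hts⟩ := Set.mem_iUnion₂.1 (hS (Set.mem_univ t₀))
    refine ⟨s, fun t hte => ?_⟩
    have h1 : lc t = lc t₀ := Quotient.exact hte
    have h2 := congrFun h1 ⟨s, hs⟩
    simpa [lc, hts] using h2
  choose sel hsel' using hsel
  exact ⟨lc.discreteQuotient, sel, fun t => hsel' _ t rfl⟩

theorem exists_eq_toR (s : c.R) : ∃ (i : GIdx c) (z : i.U), toR i z = s := by
  have h : ∀ t, ∃ W : Set c.T, IsClopen W ∧ t ∈ W ∧ ∃ a f : A, ∀ t' ∈ W, f ∈ c.M t' ∧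
    c.ev t' s * algebraMap A (c.St t') f = algebraMap A (c.St t') a := fun t => c.exists_nhd t s
  choose W₀ hW htW a f hs using h
  obtain ⟨Q, sel, hsel⟩ := exists_cover W₀ hW htW
  refine ⟨⟨Q, fun x => f (sel x), fun t => (hs _ t (hsel t)).1⟩,
    fun x => IsLocalization.mk' (Localization.Away (f (sel x))) (a (sel x)) (⟨f (sel x), Submonoid.mem_powers _⟩ : Submonoid.powers (f (sel x))), ?_⟩
  refine Subtype.ext (funext fun t => ?_)
  obtain ⟨h1, h2⟩ := hs _ t (hsel t)
  refine (c.isUnit_of_notMem t h1).mul_left_injective ?_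
  show c.ev t (toR _ _) * algebraMap A (c.St t) (f (sel (Q.proj t))) = c.ev t s * _
  rw [h2, ev_toR, ← AlgHom.commutes (lift (c.isUnit_of_notMem t h1)), ← map_mul,
    IsLocalization.mk'_spec, AlgHom.commutes]

theorem exists_trans_eq (i : GIdx c) (x y : i.U) (h : toR i x = toR i y) :
    ∃ (j : GIdx c) (hij : i ≤ j), trans hij x = trans hij y := by
  have hz : ∀ t, ∃ g : A, g ∈ c.M t ∧ algebraMap A (Localization.Away (i.f (i.W.proj t))) g * (x (i.W.proj t) - y (i.W.proj t)) = 0 := by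
    intro t
    obtain ⟨a, ⟨_, n, rfl⟩, hz⟩ := IsLocalization.exists_mk'_eq (Submonoid.powers (i.f (i.W.proj t))) (x (i.W.proj t) - y (i.W.proj t))
    let F := lift (c.isUnit_of_notMem t (i.hf t))
    have h0 : algebraMap A (c.St t) a = 0 := by
      have h1 : F (x (i.W.proj t) - y (i.W.proj t)) = 0 := by
        rw [map_sub]; exact sub_eq_zero.2 (congrArg (c.ev t) h)
      rw [← F.commutes, ← IsLocalization.mk'_spec (Localization.Away (i.f (i.W.proj t))) a (⟨_, n, rfl⟩ : Submonoid.powers (i.f (i.W.proj t))), map_mul, hz, h1, zero_mul]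
    obtain ⟨⟨g, hg⟩, hga⟩ := (IsLocalization.map_eq_zero_iff (c.M t) (c.St t) a).1 h0
    refine ⟨g, hg, ?_⟩
    rw [← hz, IsLocalization.mk'_eq_mul_mk'_one, ← mul_assoc, ← map_mul, show g * a = 0 from hga, map_zero, zero_mul]
  choose g hg hgz using hz
  obtain ⟨Q, sel, hsel⟩ := exists_cover (fun t => i.W.proj ⁻¹' {i.W.proj t} ∩ {t' | g t ∈ c.M t'})
    (fun t => (IsClopen.preimage ⟨isClosed_discrete _, isOpen_discrete _⟩ i.W.proj_continuous).inter (c.isClopen_D (g t)))
    fun t => ⟨rfl, hg t⟩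
  let j : GIdx c :=
    { W := i.W ⊓ Q
      f := fun z => i.f (DiscreteQuotient.ofLE inf_le_left z) * g (sel (DiscreteQuotient.ofLE inf_le_right z))
      hf := fun t => by
        rw [DiscreteQuotient.ofLE_proj, DiscreteQuotient.ofLE_proj]
        exact (c.M t).mul_mem (i.hf t) (hsel t).2 }
  have hij : i ≤ j := ⟨inf_le_left, fun z => isUnit_left _ _⟩
  refine ⟨j, hij, funext fun z => ?_⟩
  obtain ⟨t, rfl⟩ := (i.W ⊓ Q).proj_surjective z
  have e1 : DiscreteQuotient.ofLE (inf_le_left : i.W ⊓ Q ≤ i.W) ((i.W ⊓ Q).proj t) = i.W.proj t := DiscreteQuotient.ofLE_proj _ t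
  have e2 : DiscreteQuotient.ofLE (inf_le_right : i.W ⊓ Q ≤ Q) ((i.W ⊓ Q).proj t) = Q.proj t := DiscreteQuotient.ofLE_proj _ t
  have hgu : IsUnit (algebraMap A (Localization.Away (j.f ((i.W ⊓ Q).proj t))) (g (sel (Q.proj t)))) := by
    have := isUnit_right (i.f (DiscreteQuotient.ofLE (inf_le_left : i.W ⊓ Q ≤ i.W) ((i.W ⊓ Q).proj t)))
      (g (sel (DiscreteQuotient.ofLE (inf_le_right : i.W ⊓ Q ≤ Q) ((i.W ⊓ Q).proj t))))
    rw [← e2]
    exact this
  have key : ∀ (p q : i.W) (hp : p = q) (F : Localization.Away (i.f p) →ₐ[A] Localization.Away (j.f ((i.W ⊓ Q).proj t))),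
      algebraMap A (Localization.Away (i.f q)) (g (sel (Q.proj t))) * (x q - y q) = 0 → F (x p) = F (y p) := by
    rintro p _ rfl F h0
    have := congrArg F h0
    rw [map_mul, AlgHom.commutes, map_zero, hgu.mul_right_eq_zero, map_sub, sub_eq_zero] at this
    exact this
  rw [trans_apply, trans_apply]
  exact key _ _ (e1.trans (hsel t).1) _ (hgz _)

end GIdx

/-- The ring of a chart is ind-Zariski. -/
theorem GChart.isIndZariski : EtPBC.IsIndZariski A c.R := by
  haveI : IsFiltered (GIdx c) := isFiltered_of_directed_le_nonempty (GIdx c)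
  let D : GIdx c ⥤ CommRingCat.{u} :=
    { obj := fun j => CommRingCat.of j.U
      map := fun f => CommRingCat.ofHom (GIdx.trans (leOfHom f)).toRingHom
      map_id := fun i => by ext z; exact congrFun (GIdx.trans_refl i z) _
      map_comp := fun f g => by ext z; exact congrFun (GIdx.trans_trans (leOfHom f) (leOfHom g) z).symm _ }
  let t : (Functor.const (GIdx c)).obj (CommRingCat.of A) ⟶ D :=
    { app := fun j => CommRingCat.ofHom (algebraMap A j.U)
      naturality := fun i j f => by ext r; exact congrFun ((GIdx.trans (leOfHom f)).commutes r).symm _ }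
  let s : D ⟶ (Functor.const (GIdx c)).obj (CommRingCat.of c.R) :=
    { app := fun j => CommRingCat.ofHom (GIdx.toR j).toRingHom
      naturality := fun i j f => by ext z; exact GIdx.toR_trans (leOfHom f) z }
  have hsurj : ∀ x : c.R, ∃ (j : GIdx c) (y : j.U), x = GIdx.toR j y := fun x =>
    (GIdx.exists_eq_toR x).imp fun i ⟨z, hz⟩ => ⟨z, hz.symm⟩
  have hinj : ∀ (i : GIdx c) (x y : i.U), GIdx.toR i x = GIdx.toR i y → ∃ (k : GIdx c) (f : i ⟶ k),
      GIdx.trans (leOfHom f) x = GIdx.trans (leOfHom f) y := fun i x y h => by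
    obtain ⟨k, hk, he⟩ := GIdx.exists_trans_eq i x y h
    exact ⟨k, homOfLE hk, he⟩
  have hc : IsColimit (Cocone.mk _ s) :=
    haveI : PreservesColimitsOfShape (GIdx c) (forget CommRingCat.{u}) :=
      PreservesFilteredColimitsOfSize.preserves_filtered_colimits _
    haveI : ReflectsColimit D (forget CommRingCat.{u}) := reflectsColimit_of_reflectsIsomorphisms D _
    isColimitOfReflects (forget CommRingCat.{u})
      (Types.FilteredColimit.isColimitOf' _ _ hsurj hinj)
  refine isIndZariski_of_colimit D t s hc fun j => ⟨?_, ?_⟩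
  · haveI : ∀ x : j.W, Algebra.IsStandardOpenImmersion A (Localization.Away (j.f x)) := fun x => ⟨⟨j.f x, inferInstance⟩⟩
    have h : Algebra.IsLocalIso A j.U := Algebra.IsLocalIso.pi_of_finite A (fun x => Localization.Away (j.f x))
    show @Algebra.IsLocalIso A j.U _ _ (algebraMap A j.U).toAlgebra
    rw [show (algebraMap A j.U).toAlgebra = (inferInstance : Algebra A j.U) from Algebra.algebra_ext _ _ fun r => rfl]
    exact h
  · ext r
    exact (GIdx.toR j).commutes r


end Groth.Agent.WLocalLib
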