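import Groth.Agent.WLocalLib.Basic
import Groth.Agent.S0738

/-! Rings with w-local spectrum: components, retractions, and w-contractibility criteria. -/

set_option autoImplicit false
set_option linter.style.haveILetI false
set_option backward.isDefEq.respectTransparency false
universe u

open Topology PrimeSpectrum

namespace Groth.Agent.WLocalLib

variable {A : Type u} [CommRing A]

/-- The point of a chart below which a prime lies. -/
noncomputable def Chart.pi (c : Chart A) (Q : PrimeSpectrum c.R) : c.T := (c.exists_ker_le Q).choose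

theorem Chart.pi_spec (c : Chart A) (Q : PrimeSpectrum c.R) : RingHom.ker (c.ev (c.pi Q)) ≤ Q.asIdeal :=
  (c.exists_ker_le Q).choose_spec

theorem Chart.pi_pt (c : Chart A) (t : c.T) (P : PrimeSpectrum (c.St t)) : c.pi (c.pt t P) = t :=
  c.eq_of_ker_le (c.pi_spec _) (c.ker_le_pt t P)

theorem Chart.le_cl_pi (c : Chart A) (Q : PrimeSpectrum c.R) : Q ≤ c.cl (c.pi Q) := by
  obtain ⟨t, P, rfl⟩ := c.exists_pt Q
  rw [c.pi_pt]
  exact c.le_cl t P

theorem Chart.continuous_pi (c : Chart A) : Continuous c.pi := by
  rw [(isTopologicalBasis_isClopen (X := c.T)).continuous_iff]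
  intro W hW
  have : c.pi ⁻¹' W = (PrimeSpectrum.basicOpen (c.ind W hW) : Set (PrimeSpectrum c.R)) := by
    ext Q
    obtain ⟨t, P, rfl⟩ := c.exists_pt Q
    rw [Set.mem_preimage, c.pi_pt]
    show t ∈ W ↔ c.ev t (c.ind W hW) ∉ P.asIdeal
    by_cases h : t ∈ W
    · rw [c.ev_ind_mem hW h]; exact iff_of_true h P.asIdeal.one_notMem
    · rw [c.ev_ind_notMem hW h]; exact iff_of_false h fun h' => h' P.asIdeal.zero_mem
  rw [this]
  exact (PrimeSpectrum.basicOpen _).2

/-- The components of the spectrum of the ring of a chart. -/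
noncomputable def Chart.componentsHomeo (c : Chart A) : _root_.ConnectedComponents (PrimeSpectrum c.R) ≃ₜ c.T where
  toFun := c.continuous_pi.connectedComponentsLift
  invFun t := _root_.ConnectedComponents.mk (c.cl t)
  left_inv x := by
    obtain ⟨Q, rfl⟩ := ConnectedComponents.surjective_coe x
    rw [Continuous.connectedComponentsLift_apply_coe]
    exact (((PrimeSpectrum.le_iff_specializes _ _).1 (c.le_cl_pi Q)).map ConnectedComponents.continuous_coe |> fun h => by
      exact ((ConnectedComponents.coe_eq_coe').2 (by
        have hsub : closure ({Q} : Set (PrimeSpectrum c.R)) ⊆ connectedComponent Q :=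
          isClosed_connectedComponent.closure_subset_iff.2 (Set.singleton_subset_iff.2 mem_connectedComponent)
        exact hsub ((PrimeSpectrum.le_iff_specializes _ _).1 (c.le_cl_pi Q)).mem_closure)))
  right_inv t := by
    rw [Continuous.connectedComponentsLift_apply_coe]
    exact c.pi_pt t _
  continuous_toFun := c.continuous_pi.connectedComponentsLift_continuous
  continuous_invFun := ConnectedComponents.continuous_coe.comp c.continuous_cl

theorem isMaximal_of_closedPoint {Q : PrimeSpectrum A} (h : Q ∈ ProEtW.closedPoints (PrimeSpectrum A)) :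
    Q.asIdeal.IsMaximal := (isMaximal_iff_closed Q).1 h

/-- The chart of the closed points of a w-local spectrum. -/
noncomputable def wchart (hA : ProEtW.IsWLocal (PrimeSpectrum A)) : Chart A :=
  Chart.ofClosed (ProEtW.closedPoints (PrimeSpectrum A)) hA.2.1 fun _ hz => isMaximal_of_closedPoint hz

theorem bijective_wchart (hA : ProEtW.IsWLocal (PrimeSpectrum A)) :
    Function.Bijective (algebraMap A (wchart hA).R) := by
  refine bijective_of_bijective_comap (wchart hA).identifies ⟨fun Q Q' h => ?_, fun x => ?_⟩
  · obtain ⟨t, P, rfl⟩ := (wchart hA).exists_pt Q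
    obtain ⟨t', P', rfl⟩ := (wchart hA).exists_pt Q'
    have key : ∀ (s : (wchart hA).T) (R : PrimeSpectrum ((wchart hA).St s)),
        IsClosed ({((wchart hA).φ s)} : Set (PrimeSpectrum A)) ∧
          PrimeSpectrum.comap (algebraMap A (wchart hA).R) ((wchart hA).pt s R) ⤳ (wchart hA).φ s := fun s R => by
      refine ⟨s.2, (PrimeSpectrum.le_iff_specializes _ _).1 ?_⟩
      exact (wchart hA).comap_le ((wchart hA).ker_le_pt s R)
    obtain ⟨y, -, hu⟩ := hA.2.2 (PrimeSpectrum.comap (algebraMap A (wchart hA).R) ((wchart hA).pt t P))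
    have e1 := hu _ (key t P)
    have k2 := key t' P'
    rw [← h] at k2
    have e2 := hu _ k2
    obtain rfl : t = t' := Subtype.ext (e1.trans e2.symm)
    rw [Chart.comap_pt, Chart.comap_pt] at h
    rw [PrimeSpectrum.localization_comap_injective ((wchart hA).St t) ((wchart hA).φ t).asIdeal.primeCompl h]
  · obtain ⟨y, ⟨hy, hxy⟩, -⟩ := hA.2.2 x
    obtain ⟨Q, -, hQ⟩ := exists_le_comap_eq (wchart hA).identifies ((wchart hA).cl ⟨y, hy⟩) x (by
      rw [Chart.comap_cl]
      exact (PrimeSpectrum.le_iff_specializes _ _).2 hxy)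
    exact ⟨Q, hQ⟩

/-- A w-local ring is the ring of its chart. -/
noncomputable def wequiv (hA : ProEtW.IsWLocal (PrimeSpectrum A)) : A ≃ₐ[A] (wchart hA).R :=
  AlgEquiv.ofBijective (Algebra.ofId A _) (bijective_wchart hA)

/-- The components of a w-local spectrum are its closed points. -/
noncomputable def wcomponents (hA : ProEtW.IsWLocal (PrimeSpectrum A)) :
    _root_.ConnectedComponents (PrimeSpectrum A) ≃ₜ (wchart hA).T :=
  let e : PrimeSpectrum A ≃ₜ PrimeSpectrum (wchart hA).R := PrimeSpectrum.homeomorphOfRingEquiv (wequiv hA).toRingEquiv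
  let f : _root_.ConnectedComponents (PrimeSpectrum A) ≃ₜ _root_.ConnectedComponents (PrimeSpectrum (wchart hA).R) :=
    { toFun := e.continuous.connectedComponentsMap
      invFun := e.symm.continuous.connectedComponentsMap
      left_inv := fun x => by
        obtain ⟨x, rfl⟩ := ConnectedComponents.surjective_coe x
        simp [Continuous.connectedComponentsMap, Continuous.connectedComponentsLift_apply_coe]
      right_inv := fun x => by
        obtain ⟨x, rfl⟩ := ConnectedComponents.surjective_coe x
        simp [Continuous.connectedComponentsMap, Continuous.connectedComponentsLift_apply_coe]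
      continuous_toFun := e.continuous.connectedComponentsMap_continuous
      continuous_invFun := e.symm.continuous.connectedComponentsMap_continuous }
  f.trans (wchart hA).componentsHomeo

theorem extremallyDisconnected_wchart (hA : ProEtW.IsWLocal (PrimeSpectrum A))
    (h : ExtremallyDisconnected (_root_.ConnectedComponents (PrimeSpectrum A))) :
    ExtremallyDisconnected (wchart hA).T :=
  extremallyDisconnected_of_homeo (wcomponents hA)

/-- Retractions exist over a w-local ring with extremally disconnected closed points. -/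
theorem exists_retraction (hA : ProEtW.IsWLocal (PrimeSpectrum A)) [ExtremallyDisconnected (wchart hA).T]
    {B : Type u} [CommRing B] [Algebra A B]
    (hsurj : ∀ x ∈ ProEtW.closedPoints (PrimeSpectrum A), ∃ Q, PrimeSpectrum.comap (algebraMap A B) Q = x)
    (hloc : ∀ Q : PrimeSpectrum B, (Q.asIdeal.comap (algebraMap A B)).IsMaximal →
      Function.Bijective (Localization.localRingHom (Q.asIdeal.comap (algebraMap A B)) Q.asIdeal (algebraMap A B) rfl)) :
    Nonempty (B →ₐ[A] A) := by
  let c := wchart hA
  let d := Chart.cons B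
  let T' : Set d.T := {y | PrimeSpectrum.comap (algebraMap A B) (d.φ y) ∈ ProEtW.closedPoints (PrimeSpectrum A)}
  let I := PrimeSpectrum.vanishingIdeal (ProEtW.closedPoints (PrimeSpectrum A))
  have hT' : IsClosed T' := by
    have : T' = ⋂ a ∈ I, {y | algebraMap A B a ∈ (d.φ y).asIdeal} := by
      ext y
      show PrimeSpectrum.comap (algebraMap A B) (d.φ y) ∈ ProEtW.closedPoints (PrimeSpectrum A) ↔ _
      rw [show (ProEtW.closedPoints (PrimeSpectrum A)) = PrimeSpectrum.zeroLocus (I : Set A) by
        rw [PrimeSpectrum.zeroLocus_vanishingIdeal_eq_closure]; exact (IsClosed.closure_eq hA.2.1).symm]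
      simp [Set.mem_iInter, Set.subset_def]
    rw [this]
    exact isClosed_biInter fun a _ => (d.isClopen_V _).isClosed
  haveI : CompactSpace T' := isCompact_iff_compactSpace.1 hT'.isCompact
  let g : T' → c.T := fun y => ⟨PrimeSpectrum.comap (algebraMap A B) (d.φ y.1), y.2⟩
  have hg : Continuous g := by
    refine Continuous.subtype_mk ?_ _
    refine PrimeSpectrum.isTopologicalBasis_basic_opens.continuous_iff.2 ?_
    rintro _ ⟨a, rfl⟩
    exact ((d.isClopen_D (algebraMap A B a)).isOpen.preimage continuous_subtype_val)
  have hgs : Function.Surjective g := fun x => by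
    obtain ⟨Q, hQ⟩ := hsurj x.1 x.2
    exact ⟨⟨WithTopology.toTopology _ Q, show PrimeSpectrum.comap (algebraMap A B) Q ∈ _ by rw [hQ]; exact x.2⟩, Subtype.ext hQ⟩
  obtain ⟨σ, hσ, hgσ⟩ := CompactT2.ExtremallyDisconnected.projective (A := c.T) (f := id) (g := g) continuous_id hg hgs
  let Qp : c.T → PrimeSpectrum B := fun t => d.φ (σ t).1
  have hq : ∀ t, (c.φ t).asIdeal = (Qp t).asIdeal.comap (algebraMap A B) := fun t =>
    congrArg (fun z : c.T => (Subtype.val z).asIdeal) (congrFun hgσ t).symm
  have hbij : ∀ t, Function.Bijective (Localization.localRingHom (c.φ t).asIdeal (Qp t).asIdeal (algebraMap A B) (hq t)) := by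
    intro t
    have key : ∀ (p : Ideal A) [p.IsPrime] (hp : p = (Qp t).asIdeal.comap (algebraMap A B)), p.IsMaximal →
        Function.Bijective (Localization.localRingHom p (Qp t).asIdeal (algebraMap A B) hp) := by
      intro p _ hp hmax
      subst hp
      exact hloc (Qp t) hmax
    exact key _ (hq t) (isMaximal_of_closedPoint t.2)
  let e : ∀ t, c.St t ≃+* Localization.AtPrime (Qp t).asIdeal := fun t => RingEquiv.ofBijective _ (hbij t)
  let s : B →+* ∀ t, c.St t := Pi.ringHom fun t =>
    (e t).symm.toRingHom.comp (algebraMap B (Localization.AtPrime (Qp t).asIdeal))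
  have hs : ∀ b, s b ∈ c.sections := by
    intro b t
    obtain ⟨x, hx⟩ := (hbij t).2 (algebraMap B (Localization.AtPrime (Qp t).asIdeal) b)
    obtain ⟨a, ⟨f, hf⟩, rfl⟩ := IsLocalization.exists_mk'_eq (c.φ t).asIdeal.primeCompl x
    rw [Localization.localRingHom_mk', IsLocalization.mk'_eq_iff_eq_mul, ← map_mul,
      IsLocalization.eq_iff_exists (Qp t).asIdeal.primeCompl] at hx
    obtain ⟨⟨e₀, he⟩, hee⟩ := hx
    refine ⟨{t' | f ∉ (c.φ t').asIdeal} ∩ (fun t' => (σ t').1) ⁻¹' {y | e₀ ∉ (d.φ y).asIdeal},
      (c.isClopen_D f).inter ((d.isClopen_D e₀).preimage (continuous_subtype_val.comp hσ)), ⟨hf, he⟩, a, f,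
      fun t' ht' => ⟨ht'.1, (e t').injective ?_⟩⟩
    rw [map_mul]
    show e t' ((e t').symm (algebraMap B _ b)) * Localization.localRingHom _ _ _ (hq t') (algebraMap A _ f) =
      Localization.localRingHom _ _ _ (hq t') (algebraMap A _ a)
    rw [(e t').apply_symm_apply, Localization.localRingHom_to_map, Localization.localRingHom_to_map, ← map_mul]
    refine (IsLocalization.eq_iff_exists (Qp t').asIdeal.primeCompl _).2 ⟨⟨e₀, ht'.2⟩, ?_⟩
    exact hee.symm
  have halg : ∀ a, s (algebraMap A B a) = algebraMap A (∀ t, c.St t) a := fun a => funext fun t => by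
    refine (e t).injective ?_
    show e t ((e t).symm (algebraMap B _ (algebraMap A B a))) = Localization.localRingHom _ _ _ (hq t) (algebraMap A _ a)
    rw [(e t).apply_symm_apply, Localization.localRingHom_to_map]
  let S : B →ₐ[A] c.R :=
    { toFun := fun b => ⟨s b, hs b⟩
      map_one' := Subtype.ext (map_one s)
      map_mul' := fun x y => Subtype.ext (map_mul s x y)
      map_zero' := Subtype.ext (map_zero s)
      map_add' := fun x y => Subtype.ext (map_add s x y)
      commutes' := fun a => Subtype.ext (halg a) }
  exact ⟨(wequiv hA).symm.toAlgHom.comp S⟩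

/-- A retraction of the ring of a chart forces a w-local spectrum with extremally disconnected components. -/
theorem wLocal_of_retraction (c : Chart A) (hproj : CompactT2.Projective c.T) (r : c.R →ₐ[A] A) :
    ProEtW.IsWLocal (PrimeSpectrum A) ∧ ExtremallyDisconnected (_root_.ConnectedComponents (PrimeSpectrum A)) := by
  have hr : Function.Surjective r.toRingHom := fun a => ⟨algebraMap A c.R a, r.commutes a⟩
  have hemb : IsClosedEmbedding (PrimeSpectrum.comap r.toRingHom) :=
    PrimeSpectrum.isClosedEmbedding_comap_of_surjective _ r.toRingHom hr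
  let hY := hemb.isEmbedding.toHomeomorph
  have hw : ProEtW.IsWLocal (PrimeSpectrum A) := by
    have h0 := Groth.Agent.S0738.result (PrimeSpectrum c.R) c.isWLocal _ hemb.isClosed_range
    obtain ⟨-, hcl, huniq⟩ := h0
    have hpt : ∀ x, IsClosed ({x} : Set (PrimeSpectrum A)) ↔ IsClosed ({hY x} : Set (Set.range (PrimeSpectrum.comap r.toRingHom))) := fun x => by
      rw [← hY.isClosed_image, Set.image_singleton]
    refine ⟨inferInstance, ?_, fun x => ?_⟩
    · have := hcl.preimage hY.continuous
      convert this using 1
      ext x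
      exact hpt x
    · obtain ⟨y, ⟨hy1, hy2⟩, hu⟩ := huniq (hY x)
      refine ⟨hY.symm y, ⟨(hpt _).2 (by rw [hY.apply_symm_apply]; exact hy1), ?_⟩, fun z ⟨hz1, hz2⟩ => ?_⟩
      · rw [← hY.isInducing.specializes_iff, hY.apply_symm_apply]; exact hy2
      · rw [← hu (hY z) ⟨(hpt z).1 hz1, hz2.map hY.continuous⟩, hY.symm_apply_apply]
  refine ⟨hw, ?_⟩
  let i : _root_.ConnectedComponents (PrimeSpectrum A) → c.T :=
    c.componentsHomeo ∘ hemb.continuous.connectedComponentsMap
  let p : c.T → _root_.ConnectedComponents (PrimeSpectrum A) := fun t => _root_.ConnectedComponents.mk (c.φ t)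
  have hi : Continuous i := c.componentsHomeo.continuous.comp hemb.continuous.connectedComponentsMap_continuous
  have hp : Continuous p := by
    refine ConnectedComponents.continuous_coe.comp (PrimeSpectrum.isTopologicalBasis_basic_opens.continuous_iff.2 ?_)
    rintro _ ⟨a, rfl⟩
    exact (c.isClopen_D a).isOpen
  have hpi : ∀ x, p (i x) = x := by
    intro x
    obtain ⟨x, rfl⟩ := ConnectedComponents.surjective_coe x
    show _root_.ConnectedComponents.mk (c.φ (c.continuous_pi.connectedComponentsLift
      (hemb.continuous.connectedComponentsMap (x : _root_.ConnectedComponents (PrimeSpectrum A))))) = _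
    rw [show hemb.continuous.connectedComponentsMap (x : _root_.ConnectedComponents (PrimeSpectrum A)) =
      _root_.ConnectedComponents.mk (PrimeSpectrum.comap r.toRingHom x) from rfl,
      Continuous.connectedComponentsLift_apply_coe]
    have hle : x ≤ c.φ (c.pi (PrimeSpectrum.comap r.toRingHom x)) := by
      rw [← c.comap_cl]
      intro a ha
      refine c.le_cl_pi (PrimeSpectrum.comap r.toRingHom x) ?_
      show r (algebraMap A c.R a) ∈ x.asIdeal
      rw [r.commutes]; exact ha
    exact ConnectedComponents.coe_eq_coe'.2 ((isClosed_connectedComponent.closure_subset_iff.2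
      (Set.singleton_subset_iff.2 mem_connectedComponent)) ((PrimeSpectrum.le_iff_specializes _ _).1 hle).mem_closure)
  haveI : T2Space (_root_.ConnectedComponents (PrimeSpectrum A)) :=
    T2Space.of_injective_continuous (Function.LeftInverse.injective hpi) hi
  refine CompactT2.Projective.extremallyDisconnected ?_
  intro Y Z _ _ _ _ _ _ f g hf hg hgs
  obtain ⟨h, hh, hgh⟩ := hproj (f := f ∘ p) (g := g) (hf.comp hp) hg hgs
  refine ⟨h ∘ i, hh.comp hi, funext fun x => ?_⟩
  show g (h (i x)) = f x
  rw [show g (h (i x)) = f (p (i x)) from congrFun hgh (i x), hpi]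

variable (A) in
/-- The chart of the Stone-Čech compactification of the points. -/
noncomputable def Chart.ed : Chart A :=
  haveI : ExtremallyDisconnected (StoneCech (WithTopology (PrimeSpectrum A) ⊥)) :=
    CompactT2.Projective.extremallyDisconnected StoneCech.projective
  (Chart.cons A).pull (StoneCech (WithTopology (PrimeSpectrum A) ⊥))
    (stoneCechExtend (g := fun x : WithTopology (PrimeSpectrum A) ⊥ =>
      (WithTopology.toTopology _ x.ofTopology : (Chart.cons A).T)) continuous_of_discreteTopology)
    (continuous_stoneCechExtend _)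

end Groth.Agent.WLocalLib
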